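import Mathlib
import Cfsg.Agent.Lib.Coprime
import Cfsg.Agent.Lib.TwoByTwo

/-!
Groups with pairwise different class sizes: rationality, quotients, centraliser orders.
-/

set_option autoImplicit false

namespace CfsgLib.S3Conj

open Subgroup

variable {G : Type*} [Group G]

/-- The order of the centraliser of an element. -/
noncomputable def cent (g : G) : ℕ := Nat.card (centralizer ({g} : Set G))

/-- Different classes have different sizes. -/
def DCS (G : Type*) [Group G] : Prop :=
  Function.Injective fun C : ConjClasses G => Nat.card C.carrier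

/-- Every element is conjugate to its powers of exponent prime to its order. -/
def Rational (G : Type*) [Group G] : Prop :=
  ∀ (g : G) (k : ℕ), k.Coprime (orderOf g) → IsConj g (g ^ k)

theorem cent_pos [Finite G] (g : G) : 0 < cent g := Nat.card_pos

theorem cent_dvd [Finite G] (g : G) : cent g ∣ Nat.card G := Subgroup.card_subgroup_dvd_card _

theorem mem_cent {g x : G} : x ∈ centralizer ({g} : Set G) ↔ Commute x g :=
  Subgroup.mem_centralizer_singleton_iff

theorem self_mem_cent (g : G) : g ∈ centralizer ({g} : Set G) := mem_cent.mpr (Commute.refl g)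

theorem orderOf_dvd_cent [Finite G] (g : G) : orderOf g ∣ cent g := by
  have h : orderOf (⟨g, self_mem_cent g⟩ : centralizer ({g} : Set G)) = orderOf g :=
    Subgroup.orderOf_mk g (self_mem_cent g)
  rw [← h]
  exact orderOf_dvd_natCard _

theorem cent_eq_of_isConj [Finite G] {g h : G} (hgh : IsConj g h) : cent g = cent h := by
  have h1 := TwoByTwo.card_carrier_mul_centralizer g
  have h2 := TwoByTwo.card_carrier_mul_centralizer h
  rw [ConjClasses.mk_eq_mk_iff_isConj.mpr hgh] at h1
  refine Nat.eq_of_mul_eq_mul_left (n := Nat.card (ConjClasses.mk h).carrier) ?_ (h1.trans h2.symm)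
  exact Nat.pos_of_ne_zero fun h0 => by
    rw [h0, zero_mul] at h2
    exact (Nat.card_pos (α := G)).ne' h2.symm

theorem DCS.isConj [Finite G] (hG : DCS G) {g h : G} (hc : cent g = cent h) : IsConj g h := by
  refine ConjClasses.mk_eq_mk_iff_isConj.mp (hG ?_)
  have h1 := TwoByTwo.card_carrier_mul_centralizer g
  have h2 := TwoByTwo.card_carrier_mul_centralizer h
  exact Nat.eq_of_mul_eq_mul_right (cent_pos h) (((congrArg _ hc.symm).trans h1).trans h2.symm)

theorem centralizer_pow_of_coprime [Finite G] {g : G} {k : ℕ} (hk : k.Coprime (orderOf g)) :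
    centralizer ({g ^ k} : Set G) = centralizer ({g} : Set G) := by
  ext x
  rw [mem_cent, mem_cent]
  refine ⟨fun h => ?_, fun h => h.pow_right k⟩
  obtain ⟨u, hu⟩ := exists_pow_eq_self_of_coprime hk
  rw [← hu]
  exact h.pow_right u

theorem DCS.rational [Finite G] (hG : DCS G) : Rational G := fun g k hk =>
  hG.isConj (by rw [cent, cent, centralizer_pow_of_coprime hk])

theorem Rational.map {Q : Type*} [Group Q] [Finite G] (hG : Rational G) {f : G →* Q}
    (hf : Function.Surjective f) : Rational Q := by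
  intro q k hk
  obtain ⟨g, rfl⟩ := hf q
  have hdvd : orderOf (f g) ∣ orderOf g := orderOf_map_dvd f g
  have : NeZero (orderOf g) := ⟨(orderOf_pos g).ne'⟩
  obtain ⟨u, hu⟩ := ZMod.unitsMap_surjective hdvd (ZMod.unitOfCoprime k hk)
  have h1 := hG g (u : ZMod (orderOf g)).val (ZMod.val_coe_unit_coprime u)
  have h2 : (((u : ZMod (orderOf g)).val : ℕ) : ZMod (orderOf (f g))) = (k : ZMod (orderOf (f g))) := by
    have := congrArg Units.val hu
    rw [ZMod.unitsMap_val, ZMod.coe_unitOfCoprime] at this
    rw [← this, ZMod.cast_eq_val]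
  have h3 : f g ^ (u : ZMod (orderOf g)).val = f g ^ k := by
    rw [pow_eq_pow_iff_modEq]
    exact (ZMod.natCast_eq_natCast_iff _ _ _).mp h2
  rw [← h3, ← map_pow]
  exact f.map_isConj h1

/-- Centralisers grow at most under lifting. -/
theorem cent_map_le [Finite G] {Q : Type*} [Group Q] {f : G →* Q} (hf : Function.Surjective f)
    (g : G) : cent (f g) ≤ cent g := by
  classical
  set X := (centralizer ({f g} : Set Q)).comap f with hX
  have hXcard : Nat.card X = Nat.card f.ker * cent (f g) := by
    have h1 := ((centralizer ({f g} : Set Q)).comap f).card_mul_index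
    rw [Subgroup.index_comap_of_surjective _ hf] at h1
    have h2 := f.ker.card_mul_index
    rw [Subgroup.index_ker, MonoidHom.range_eq_top.mpr hf, Subgroup.card_top] at h2
    have : Finite Q := Finite.of_surjective f hf
    have h3 := (centralizer ({f g} : Set Q)).card_mul_index
    refine Nat.eq_of_mul_eq_mul_right (Nat.pos_of_ne_zero Subgroup.index_ne_zero_of_finite
      : 0 < (centralizer ({f g} : Set Q)).index) ?_
    rw [hX, h1, mul_assoc, cent, h3, h2]
  let φ : X → f.ker := fun x => ⟨g⁻¹ * ((x : G) * g * (x : G)⁻¹), by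
    have h := mem_cent.mp (Subgroup.mem_comap.mp x.2)
    simp [MonoidHom.mem_ker, h.eq]⟩
  have hs : ∀ x : X, ∃ y : X, φ y = φ x := fun x => ⟨x, rfl⟩
  let s : f.ker → G := fun k => if h : ∃ x : X, φ x = k then (h.choose : G) else 1
  have hmem : ∀ x : X, (s (φ x))⁻¹ * (x : G) ∈ centralizer ({g} : Set G) := by
    intro x
    have hex : ∃ y : X, φ y = φ x := ⟨x, rfl⟩
    simp only [s, dif_pos hex]
    have h := congrArg Subtype.val hex.choose_spec
    simp only [φ, mul_right_inj] at h
    rw [mem_cent]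
    set y : G := (hex.choose : G)
    unfold Commute SemiconjBy
    calc y⁻¹ * (x : G) * g = y⁻¹ * ((x : G) * g * (x : G)⁻¹) * x := by group
      _ = y⁻¹ * (y * g * y⁻¹) * x := by rw [h]
      _ = g * (y⁻¹ * x) := by group
  let ψ : X → f.ker × centralizer ({g} : Set G) := fun x => (φ x, ⟨_, hmem x⟩)
  have hψ : Function.Injective ψ := by
    intro x y h
    simp only [ψ, Prod.mk.injEq, Subtype.mk.injEq] at h
    rw [h.1] at h
    exact Subtype.ext (mul_left_cancel h.2)
  have h := Nat.card_le_card_of_injective ψ hψ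
  rw [hXcard, Nat.card_prod] at h
  exact Nat.le_of_mul_le_mul_left h Nat.card_pos

/-- Centralisers of elements of order prime to the kernel map onto. -/
theorem exists_commute_lift [Finite G] {Q : Type*} [Group Q] {f : G →* Q}
    (hf : Function.Surjective f) {g : G} (hcop : (orderOf g).Coprime (Nat.card f.ker)) {q : Q}
    (hq : Commute q (f g)) : ∃ c : G, Commute c g ∧ f c = q := by
  obtain ⟨x, rfl⟩ := hf q
  have hAW : zpowers g ≤ normalizer (f.ker : Set G) := by
    rw [normalizer_eq_top]; exact le_top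
  have hc1 : (Nat.card (zpowers g)).Coprime (Nat.card f.ker) := by rwa [Nat.card_zpowers]
  obtain ⟨w, hw, h⟩ := coprime_key_normalize hc1 (Or.inl inferInstance) hAW (k := x) (fun a ha => by
    obtain ⟨i, rfl⟩ := mem_zpowers_iff.mp ha
    have h1 : x⁻¹ * g ^ i * x * (g ^ i)⁻¹ ∈ f.ker := by
      rw [MonoidHom.mem_ker, map_mul, map_mul, map_mul, map_inv, map_inv, map_zpow,
        mul_assoc (f x)⁻¹, ← (hq.zpow_right i).eq, inv_mul_cancel_left, mul_inv_cancel]
    have h2 := Subgroup.mul_mem_sup h1 ha
    simpa [mul_assoc] using h2)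
  have h1 := h g (mem_zpowers g)
  have hfw : f (x * w) = f x := by rw [map_mul, MonoidHom.mem_ker.mp hw, mul_one]
  refine ⟨x * w, ?_, hfw⟩
  have h2 : (x * w * g * (x * w)⁻¹) * g⁻¹ = 1 := by
    refine Subgroup.disjoint_def.mp (Subgroup.disjoint_of_coprime_natCard hc1)
      ((zpowers g).mul_mem h1 ((zpowers g).inv_mem (mem_zpowers g))) ?_
    rw [MonoidHom.mem_ker, map_mul, map_mul, map_mul, map_inv, map_inv, hfw, hq.eq]
    simp
  rw [mul_inv_eq_one, mul_inv_eq_iff_eq_mul] at h2
  exact h2

/-- The automiser: an element normalising `⟨g⟩` and acting by a given exponent. -/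
theorem Rational.exists_conj (hG : Rational G) (g : G) {k : ℕ} (hk : k.Coprime (orderOf g)) :
    ∃ h : G, h * g * h⁻¹ = g ^ k :=
  isConj_iff.mp (hG g k hk)

/-- A rational group of odd order is trivial. -/
theorem Rational.eq_one_of_odd [Finite G] (hG : Rational G) (hodd : Odd (Nat.card G)) (g : G) :
    g = 1 := by
  have hk : (orderOf g - 1).Coprime (orderOf g) := by
    have := orderOf_pos g
    rw [Nat.coprime_comm]
    exact (Nat.coprime_self_sub_right (by omega)).mpr (Nat.coprime_one_right _)
  obtain ⟨h, hh⟩ := hG.exists_conj g hk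
  have hinv : h * g * h⁻¹ = g⁻¹ := by
    rw [hh]
    refine eq_inv_of_mul_eq_one_left ?_
    rw [← pow_succ, Nat.sub_add_cancel (orderOf_pos g), pow_orderOf_eq_one]
  have h2 : h ^ 2 * g * (h ^ 2)⁻¹ = g := by
    calc h ^ 2 * g * (h ^ 2)⁻¹ = h * (h * g * h⁻¹) * h⁻¹ := by rw [pow_two]; group
      _ = h * g⁻¹ * h⁻¹ := by rw [hinv]
      _ = (h * g * h⁻¹)⁻¹ := by group
      _ = g := by rw [hinv, inv_inv]
  have hc : h ^ 2 ∈ centralizer ({g} : Set G) := by
    rw [mem_cent]
    exact mul_inv_eq_iff_eq_mul.mp h2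
  obtain ⟨m, hm⟩ := hodd.of_dvd_nat (orderOf_dvd_natCard h)
  have hh' : h ∈ centralizer ({g} : Set G) := by
    have : h = (h ^ 2) ^ (m + 1) := by
      rw [← pow_mul, show 2 * (m + 1) = orderOf h + 1 by omega, pow_succ, pow_orderOf_eq_one, one_mul]
    rw [this]
    exact pow_mem hc _
  have h3 : g = g⁻¹ := by
    rw [← hinv, (mem_cent.mp hh').eq, mul_inv_cancel_right]
  have h4 : orderOf g ∣ 2 := orderOf_dvd_of_pow_eq_one (by rw [pow_two]; nth_rw 2 [h3]; exact mul_inv_cancel g)
  rcases (Nat.dvd_prime Nat.prime_two).mp h4 with h | h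
  · exact orderOf_eq_one_iff.mp h
  · exact absurd (h ▸ hodd.of_dvd_nat (orderOf_dvd_natCard g)) (by decide)

/-- If `g` is an element of order 4 in a rational group, then 8 divides the group order. -/
theorem Rational.eight_dvd [Finite G] (hG : Rational G) {g : G} (hg : orderOf g = 4) :
    8 ∣ Nat.card G := by
  obtain ⟨h, hh⟩ := hG.exists_conj g (k := 3) (by rw [hg]; decide)
  set N := normalizer (zpowers g : Set G)
  have hhN : h ∈ N := by
    rw [mem_normalizer_iff]
    have e : (zpowers g).map (MulAut.conj h).toMonoidHom = zpowers g := by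
      rw [MonoidHom.map_zpowers]
      simp only [MulEquiv.coe_toMonoidHom, MulAut.conj_apply, hh]
      refine le_antisymm ?_ ?_
      · exact zpowers_le.mpr (pow_mem (mem_zpowers g) 3)
      · refine zpowers_le.mpr ⟨3, ?_⟩
        show (g ^ 3) ^ (3 : ℤ) = g
        rw [show (3 : ℤ) = ((3 : ℕ) : ℤ) from rfl, zpow_natCast, ← pow_mul, ← pow_mod_orderOf, hg]
        simp
    intro x
    constructor
    · intro hx; rw [← e]; exact ⟨x, hx, rfl⟩
    · intro hx
      rw [← e] at hx
      obtain ⟨y, hy, he⟩ := hx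
      simp only [MulEquiv.coe_toMonoidHom, MulAut.conj_apply, mul_left_inj, mul_right_inj] at he
      exact he ▸ hy
  have hne : h ∉ centralizer ({g} : Set G) := by
    rw [mem_cent]
    intro hc
    rw [hc.eq, mul_inv_cancel_right] at hh
    have : g ^ 2 = 1 := mul_right_cancel (b := g) (by rw [one_mul, ← pow_succ]; exact hh.symm)
    have := orderOf_dvd_of_pow_eq_one this
    rw [hg] at this
    exact absurd this (by decide)
  -- the centraliser of `g` inside the normaliser has even index
  set C := (centralizer ({g} : Set G)).subgroupOf N with hC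
  have h2 : (⟨h, hhN⟩ : N) ^ 2 ∈ C := by
    rw [hC, mem_subgroupOf, mem_cent]
    refine mul_inv_eq_iff_eq_mul.mp ?_
    calc (h ^ 2 : G) * g * (h ^ 2)⁻¹ = h * (h * g * h⁻¹) * h⁻¹ := by rw [pow_two]; group
      _ = (h * g * h⁻¹) ^ 3 := by rw [conj_pow (i := 3), hh]
      _ = g := by rw [hh, ← pow_mul, ← pow_mod_orderOf, hg]; simp
  have hn : (⟨h, hhN⟩ : N) ∉ C := by rwa [hC, mem_subgroupOf]
  have hCnormal : C.Normal := by
    constructor
    intro c hc x
    rw [hC, mem_subgroupOf, mem_cent] at hc ⊢
    have hx := x.2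
    obtain ⟨i, hi⟩ : ((x : G))⁻¹ * g * (x : G) ∈ zpowers g := by
      have := (mem_normalizer_iff.mp (N.inv_mem hx) g).mp (mem_zpowers g)
      simpa using this
    have h' : Commute (c : G) ((x : G)⁻¹ * g * (x : G)) := by rw [← hi]; exact hc.zpow_right i
    simpa [mul_assoc] using (Commute.map h' (MulAut.conj (x : G)).toMonoidHom)
  have h2dvd : 2 ∣ C.index := by
    have ho : orderOf (QuotientGroup.mk' C ⟨h, hhN⟩) = 2 := by
      refine orderOf_eq_prime ?_ ?_
      · rw [← map_pow]; exact (QuotientGroup.eq_one_iff _).mpr h2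
      · exact fun h0 => hn ((QuotientGroup.eq_one_iff _).mp h0)
    rw [← ho, Subgroup.index_eq_card]
    exact orderOf_dvd_natCard _
  have h4 : 4 ∣ Nat.card C := by
    have hgN : g ∈ N := Subgroup.le_normalizer (mem_zpowers g)
    have hgC : (⟨g, hgN⟩ : N) ∈ C := by rw [hC, mem_subgroupOf]; exact self_mem_cent g
    have e : orderOf (⟨⟨g, hgN⟩, hgC⟩ : C) = orderOf g :=
      (Subgroup.orderOf_mk (⟨g, hgN⟩ : N) hgC).trans (Subgroup.orderOf_mk g hgN)
    rw [← hg, ← e]
    exact orderOf_dvd_natCard _
  have h8 : 8 ∣ Nat.card N := by rw [← C.card_mul_index]; exact Nat.mul_dvd_mul h4 h2dvd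
  exact h8.trans (Subgroup.card_subgroup_dvd_card _)

end CfsgLib.S3Conj
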