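import Cfsg.Agent.Lib.S3Conj.CaseSmall
import Cfsg.Agent.Lib.PSolvable
import Cfsg.Agent.Lib.CoprimeGen

/-!
No centraliser has order `4`.
-/

set_option autoImplicit false

namespace CfsgLib.S3Conj

open Subgroup Cfsg

universe u

variable {G : Type u} [Group G]

/-- An involutory automorphism without fixed points on a group of odd order inverts it. -/
theorem inverts_of_no_fixed [Finite G] (K : Subgroup G) (hK : Odd (Nat.card K)) {t : G}
    (hn : ∀ a ∈ K, t * a * t⁻¹ ∈ K) (h2 : ∀ a ∈ K, Commute (t ^ 2) a)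
    (hfix : ∀ a ∈ K, Commute t a → a = 1) : ∀ a ∈ K, t * a * t⁻¹ = a⁻¹ := by
  let φ : K → K := fun a => ⟨(a : G)⁻¹ * (t * a * t⁻¹), K.mul_mem (K.inv_mem a.2) (hn a a.2)⟩
  have hinj : Function.Injective φ := by
    intro a b h
    have h1 : (a : G)⁻¹ * (t * a * t⁻¹) = (b : G)⁻¹ * (t * b * t⁻¹) := congrArg Subtype.val h
    have h2' : t * ((b : G) * (a : G)⁻¹) * t⁻¹ = (b : G) * (a : G)⁻¹ := by
      calc t * ((b : G) * (a : G)⁻¹) * t⁻¹
          = (b : G) * ((b : G)⁻¹ * (t * b * t⁻¹)) * ((a : G)⁻¹ * (t * a * t⁻¹))⁻¹ * (a : G)⁻¹ := by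
            group
        _ = (b : G) * (a : G)⁻¹ := by rw [h1]; group
    have := hfix _ (K.mul_mem b.2 (K.inv_mem a.2)) (mul_inv_eq_iff_eq_mul.mp h2')
    exact Subtype.ext (mul_inv_eq_one.mp this).symm
  intro a ha
  obtain ⟨b, hb⟩ := (Finite.injective_iff_surjective.mp hinj) ⟨a, ha⟩
  have hb' : (b : G)⁻¹ * (t * b * t⁻¹) = a := congrArg Subtype.val hb
  have ht2 : t * (t * (b : G) * t⁻¹) * t⁻¹ = b := by
    calc t * (t * (b : G) * t⁻¹) * t⁻¹ = t ^ 2 * b * (t ^ 2)⁻¹ := by rw [pow_two]; group
      _ = b := by rw [(h2 b b.2).eq, mul_inv_cancel_right]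
  rw [← hb']
  calc t * ((b : G)⁻¹ * (t * b * t⁻¹)) * t⁻¹ = (t * b * t⁻¹)⁻¹ * (t * (t * (b : G) * t⁻¹) * t⁻¹) := by
        group
    _ = ((b : G)⁻¹ * (t * b * t⁻¹))⁻¹ := by rw [ht2]; group

/-- The order of a centraliser through a coprime quotient. -/
theorem cent_eq_mul [Finite G] {Q : Type*} [Group Q] {f : G →* Q} (hf : Function.Surjective f)
    {g : G} (hcop : (orderOf g).Coprime (Nat.card f.ker)) :
    cent g = cent (f g) * Nat.card (f.ker ⊓ centralizer ({g} : Set G) : Subgroup G) := by
  set C := centralizer ({g} : Set G)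
  have hr : (f.comp C.subtype).range = centralizer ({f g} : Set Q) := by
    ext q
    constructor
    · rintro ⟨c, rfl⟩
      exact mem_cent.mpr ((mem_cent.mp c.2).map f)
    · intro hq
      obtain ⟨c, hc, rfl⟩ := exists_commute_lift hf hcop (mem_cent.mp hq)
      exact ⟨⟨c, mem_cent.mpr hc⟩, rfl⟩
  have h1 := (f.comp C.subtype).ker.card_mul_index
  rw [Subgroup.index_ker, hr, mul_comm] at h1
  have h2 : Nat.card (f.comp C.subtype).ker = Nat.card (f.ker ⊓ C : Subgroup G) :=
    Nat.card_congr ⟨fun c => ⟨c.1.1, c.2, c.1.2⟩, fun c => ⟨⟨c.1, c.2.2⟩, c.2.1⟩, fun _ => rfl,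
      fun _ => rfl⟩
  rw [h2] at h1
  exact h1.symm

theorem eq_one_of_inverted_centralized [Finite G] {a : G} (ha : Odd (orderOf a)) (h : a = a⁻¹) :
    a = 1 := by
  have h4 : orderOf a ∣ 2 := orderOf_dvd_of_pow_eq_one (by
    rw [pow_two]; nth_rw 2 [h]; exact mul_inv_cancel a)
  rcases (Nat.dvd_prime Nat.prime_two).mp h4 with h | h
  · exact orderOf_eq_one_iff.mp h
  · exact absurd (h ▸ ha) (by decide)

/-- Rationality kills odd elements centralised by two elements of a Sylow group of order `8`. -/
theorem Rational.kill [Finite G] (hG : Rational G) (P : Sylow 2 G) (hP : Nat.card (P : Subgroup G) = 8)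
    {u z a : G} (hu : u ∈ (P : Subgroup G)) (hz : z ∈ (P : Subgroup G)) (hu1 : u ≠ 1) (hz1 : z ≠ 1)
    (huz : u ≠ z) (hc : Commute u z) (hu8 : ¬ 8 ∣ cent u) (ha : Odd (orderOf a))
    (hau : Commute a u) (haz : Commute a z) : a = 1 := by
  have : Fact (Nat.Prime 2) := ⟨Nat.prime_two⟩
  refine hG.eq_one_of_two_part ha ?_ hau fun k hk => ?_
  · obtain ⟨m, hm⟩ := IsPGroup.iff_orderOf.mp P.2 ⟨u, hu⟩
    exact ⟨m, (Subgroup.orderOf_mk u hu).symm.trans hm⟩
  have hk2 : k ≤ 2 := by
    by_contra h
    exact hu8 ((pow_dvd_pow 2 (show 3 ≤ k by omega)).trans hk)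
  set D := centralizer ({a} : Set G) ⊓ centralizer ({u} : Set G) with hD
  set H := D ⊓ (P : Subgroup G)
  have h4 : 4 ∣ Nat.card H := by
    have hle : Nat.card H ∣ 8 := hP ▸ Subgroup.card_dvd_of_le inf_le_right
    have huH : u ∈ H := ⟨⟨mem_cent.mpr hau.symm, self_mem_cent u⟩, hu⟩
    have hzH : z ∈ H := ⟨⟨mem_cent.mpr haz.symm, mem_cent.mpr hc.symm⟩, hz⟩
    have h3 : 3 ≤ Nat.card H := by
      have := Fintype.ofFinite H
      rw [Nat.card_eq_fintype_card]
      exact Fintype.two_lt_card_iff.mpr ⟨1, ⟨u, huH⟩, ⟨z, hzH⟩, fun h => hu1 (congrArg Subtype.val h).symm,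
        fun h => hz1 (congrArg Subtype.val h).symm, fun h => huz (congrArg Subtype.val h)⟩
    obtain ⟨j, hj, hje⟩ := (Nat.dvd_prime_pow Nat.prime_two).mp (show Nat.card H ∣ 2 ^ 3 from hle)
    interval_cases j <;> omega
  exact ((pow_dvd_pow 2 hk2).trans (show 2 ^ 2 ∣ Nat.card H from h4)).trans (Subgroup.card_dvd_of_le inf_le_left)

/-- An element of order `5`, or of order `3` with a fixed point, acts trivially on four points. -/
theorem commute_of_card_four [Finite G] {R : Subgroup G} (hR : Nat.card R = 4) {p : ℕ}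
    [hp : Fact p.Prime] {q : G} (hn : ∀ r ∈ R, q * r * q⁻¹ ∈ R) (hq : orderOf q = p)
    (h : p = 5 ∨ p = 3 ∧ ∃ r ∈ R, r ≠ 1 ∧ q * r * q⁻¹ = r) : ∀ r ∈ R, Commute q r := by
  classical
  have hqp : q ^ p = 1 := hq ▸ pow_orderOf_eq_one q
  let τ : Function.End R := fun t => ⟨q * t * q⁻¹, hn t t.2⟩
  have hτ : ∀ i : ℕ, ∀ t : R, ((τ ^ i) t : G) = q ^ i * t * (q ^ i)⁻¹ := by
    intro i
    induction i with
    | zero => intro t; simp; rfl
    | succ i ih =>
      intro t
      rw [pow_succ']
      show q * ((τ ^ i) t : G) * q⁻¹ = _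
      rw [ih, pow_succ']; group
  have hτp : τ ^ p ^ 1 = 1 := by
    funext t
    refine Subtype.ext ?_
    rw [hτ, pow_one, hqp]
    simp; rfl
  have := Fintype.ofFinite R
  have hmod := Equiv.Perm.card_fixedPoints_modEq (p := p) hτp
  have hle : Fintype.card (Function.fixedPoints τ) ≤ Fintype.card R := Fintype.card_subtype_le _
  have hone : 1 ≤ Fintype.card (Function.fixedPoints τ) :=
    Fintype.card_pos_iff.mpr ⟨⟨1, Subtype.ext (show q * (1 : G) * q⁻¹ = 1 by simp)⟩⟩
  rw [Nat.card_eq_fintype_card] at hR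
  rw [hR] at hmod hle
  unfold Nat.ModEq at hmod
  have hfull : Fintype.card (Function.fixedPoints τ) = Fintype.card R := by
    rw [hR]
    rcases h with rfl | ⟨rfl, r, hr, hr1, hfix⟩
    · omega
    · have h2le : 1 < Fintype.card (Function.fixedPoints τ) :=
        Fintype.one_lt_card_iff.mpr ⟨⟨1, Subtype.ext (show q * (1 : G) * q⁻¹ = 1 by simp)⟩,
          ⟨⟨r, hr⟩, Subtype.ext hfix⟩, fun e => hr1 (congrArg (fun t => (t.1.1 : G)) e).symm⟩
      omega
  intro r hr
  obtain ⟨⟨t, ht⟩, he⟩ :=
    ((Fintype.bijective_iff_injective_and_card (Subtype.val : Function.fixedPoints τ → R)).mpr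
      ⟨Subtype.val_injective, hfull⟩).2 ⟨r, hr⟩
  subst he
  exact mul_inv_eq_iff_eq_mul.mp (congrArg Subtype.val ht)

theorem eight_dvd_of_sum [Finite G] [Nontrivial G] (hsolv : Group.IsSolvable G) (hG : DCS G)
    (hs : Smooth (Nat.card G)) (h2 : ∀ g : G, cent g ≠ 2) (h3 : ∀ g : G, cent g ≠ 3) :
    8 ∣ Nat.card G := by
  classical
  by_contra h8
  set K := Nat.card G + 9 with hK
  set E : Finset ℕ := {2 ^ 0 * 3 ^ 0 * 5 ^ 0, 2 ^ 1 * 3 ^ 0 * 5 ^ 0, 2 ^ 0 * 3 ^ 1 * 5 ^ 0,
    2 ^ 0 * 3 ^ 0 * 5 ^ 1, 2 ^ 1 * 3 ^ 0 * 5 ^ 1, 2 ^ 0 * 3 ^ 1 * 5 ^ 1, 2 ^ 2 * 3 ^ 0 * 5 ^ 1,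
    2 ^ 1 * 3 ^ 1 * 5 ^ 1, 2 ^ 0 * 3 ^ 2 * 5 ^ 1, 2 ^ 2 * 3 ^ 1 * 5 ^ 1} with hE
  have hD : cents G ⊆ box 2 K K := by
    intro d hd
    obtain ⟨g, rfl⟩ := mem_cents.mp hd
    have hle : ∀ p, (cent g).factorization p ≤ K := fun p => by
      have h1 := Nat.factorization_lt p (cent_pos g).ne'
      have h2 := Nat.le_of_dvd Nat.card_pos (cent_dvd g)
      omega
    refine smooth_dvd_box Nat.card_pos.ne' hs (cent_dvd g) ?_ (hle 3) (hle 5)
    by_contra hlt
    exact h8 (((pow_dvd_pow 2 (show 3 ≤ (cent g).factorization 2 by omega)).trans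
      (Nat.ordProj_dvd _ _)).trans (cent_dvd g))
  have hEbox : E ⊆ box 2 K K := by
    intro d hd
    simp only [hE, Finset.mem_insert, Finset.mem_singleton] at hd
    rcases hd with h | h | h | h | h | h | h | h | h | h <;> rw [h] <;>
      exact mem_box (by omega) (by omega) (by omega)
  have hdisj : Disjoint (cents G) E := by
    rw [Finset.disjoint_left]
    intro d hd hde
    obtain ⟨g, rfl⟩ := mem_cents.mp hd
    have h1 := cent_ne_one g
    have h2' := h2 g
    have h3' := h3 g
    have h5 := cent_ne_small_five hsolv hG hs g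
    simp only [hE, Finset.mem_insert, Finset.mem_singleton] at hde h5
    norm_num at hde
    omega
  have hle := sum_inv_le hD hEbox hdisj
  rw [sum_inv_cents hG] at hle
  have hEval : (∑ d ∈ E, (1 : ℚ) / d) = 1 + 1/2 + 1/3 + 1/5 + 1/10 + 1/15 + 1/20 +
      1/30 + 1/45 + 1/60 := by
    rw [hE]
    norm_num [Finset.sum_insert]
  rw [hEval] at hle
  have hg2 : geo 2 2 = 7 / 4 := by norm_num [geo, Finset.sum_range_succ]
  have hg : geo 2 2 * geo 3 K * geo 5 K ≤ (7 / 4 : ℚ) * (3 / 2) * (5 / 4) := by
    rw [hg2]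
    refine mul_le_mul (mul_le_mul le_rfl ?_ (geo_nonneg _ _) (by norm_num)) ?_ (geo_nonneg _ _)
      (by norm_num)
    · exact (geo_le (by norm_num) _).trans_eq (by norm_num)
    · exact (geo_le (by norm_num) _).trans_eq (by norm_num)
  norm_num at hle hg
  linarith

/-- In a Sylow group of order `8` with an element `x` whose centraliser there has order `4`. -/
theorem order_eight_facts {P : Type u} [Group P] [Finite P] (h8 : Nat.card P = 8) {x : P}
    (hx : cent x = 4) :
    ∃ z : P, z ≠ 1 ∧ z ^ 2 = 1 ∧ x ≠ 1 ∧ x ≠ z ∧ (∀ y, Commute z y) ∧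
      (∀ y, (∀ w, Commute y w) → y = 1 ∨ y = z) ∧ (x ^ 2 = 1 ∨ x ^ 2 = z) ∧
      (∀ y, ¬ Commute y x → y * x * y⁻¹ = x * z ∧ (y ^ 2 = 1 ∨ y ^ 2 = z)) ∧
      (∀ y w, y * w * y⁻¹ = w ∨ y * w * y⁻¹ = w * z) := by
  have : Fact (Nat.Prime 2) := ⟨Nat.prime_two⟩
  have hP : IsPGroup 2 P := IsPGroup.of_card (n := 3) (by rw [h8]; rfl)
  obtain ⟨hZ, -⟩ := cyclic_index_two hP hx h8.ge
  obtain ⟨z0, hz0, hu⟩ := (Nat.card_eq_two_iff' (1 : center P)).mp hZ
  set z : P := (z0 : P) with hz
  have hz1 : z ≠ 1 := fun h => hz0 (Subtype.ext h)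
  have hcen : ∀ y, Commute z y := fun y => (mem_center_iff.mp z0.2 y).symm
  have huniq : ∀ y, (∀ w, Commute y w) → y = 1 ∨ y = z := by
    intro y hy
    rcases eq_or_ne y 1 with h | h
    · exact Or.inl h
    · exact Or.inr (congrArg Subtype.val
        (hu ⟨y, mem_center_iff.mpr fun w => (hy w).symm⟩ (fun h' => h (congrArg Subtype.val h'))))
  have hz2 : z ^ 2 = 1 := by
    have := congrArg Subtype.val (pow_card_eq_one' (x := z0))
    rw [hZ] at this
    exact this
  have hxne : x ≠ 1 ∧ x ≠ z := by
    constructor <;>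
    · intro h
      have : centralizer ({x} : Set P) = ⊤ := by
        rw [eq_top_iff]
        intro y _
        rw [mem_cent, h]
        first | exact Commute.one_right y | exact (hcen y).symm
      rw [cent, this, Subgroup.card_top, h8] at hx
      omega
  set C := centralizer ({x} : Set P) with hC
  have hCidx : C.index = 2 := by
    have := C.card_mul_index
    change cent x * C.index = _ at this
    rw [hx, h8] at this
    omega
  have hCn := Subgroup.normal_of_index_eq_two hCidx
  have hquot : Nat.card (P ⧸ center P) = 4 := by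
    have := (center P).card_mul_index
    rw [hZ, h8, Subgroup.index_eq_card] at this
    omega
  have hcomm : ∀ y w : P, y * w * y⁻¹ = w ∨ y * w * y⁻¹ = w * z := by
    intro y w
    have habel : IsMulCommutative (P ⧸ center P) :=
      ⟨⟨(IsPGroup.commGroupOfCardEqPrimeSq (p := 2) hquot).mul_comm⟩⟩
    have h1 : w⁻¹ * (y * w * y⁻¹) ∈ center P := by
      rw [← QuotientGroup.eq_one_iff]
      simp only [QuotientGroup.mk_mul, QuotientGroup.mk_inv]
      rw [habel.is_comm.comm (QuotientGroup.mk y : P ⧸ center P) (QuotientGroup.mk w),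
        mul_inv_cancel_right, inv_mul_cancel]
    rcases huniq _ (fun v => (mem_center_iff.mp h1 v).symm) with h | h
    · exact Or.inl (inv_mul_eq_one.mp h).symm
    · exact Or.inr (inv_mul_eq_iff_eq_mul.mp h)
  have hx2 : x ^ 2 = 1 ∨ x ^ 2 = z := by
    refine huniq _ fun w => ?_
    have h' : Commute w (x ^ 2) := by
      refine mul_inv_eq_iff_eq_mul.mp ?_
      rw [← conj_pow (i := 2)]
      rcases hcomm w x with h | h
      · rw [h]
      · rw [h, (hcen x).symm.mul_pow, hz2, mul_one]
    exact h'.symm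
  refine ⟨z, hz1, hz2, hxne.1, hxne.2, hcen, huniq, hx2, fun y hy => ?_, hcomm⟩
  refine ⟨(hcomm y x).resolve_left fun h => hy (mul_inv_eq_iff_eq_mul.mp h), huniq _ fun w => ?_⟩
  have h' : Commute w (y ^ 2) := by
    refine mul_inv_eq_iff_eq_mul.mp ?_
    rw [← conj_pow (i := 2)]
    rcases hcomm w y with h | h
    · rw [h]
    · rw [h, (hcen y).symm.mul_pow, hz2, mul_one]
  exact h'.symm

set_option maxHeartbeats 800000 in
/-- No centraliser has order `4`. -/
theorem cent_ne_four [Finite G] [Nontrivial G] (hsolv : Group.IsSolvable G) (hG : DCS G)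
    (hs : Smooth (Nat.card G)) (h2 : ∀ g : G, cent g ≠ 2) (h3 : ∀ g : G, cent g ≠ 3) (x : G) :
    cent x ≠ 4 := by
  classical
  intro hx
  have hfact : Fact (Nat.Prime 2) := ⟨Nat.prime_two⟩
  have hR := hG.rational
  have h8 := eight_dvd_of_sum hsolv hG hs h2 h3
  -- a Sylow subgroup containing the centraliser of `x`
  have hCp : IsPGroup 2 (centralizer ({x} : Set G)) := IsPGroup.of_card (n := 2) hx
  obtain ⟨P, hCP⟩ := hCp.exists_le_sylow
  have hxP : x ∈ (P : Subgroup G) := hCP (self_mem_cent x)
  have hxPc : cent (⟨x, hxP⟩ : (P : Subgroup G)) = 4 := by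
    rw [← hx]
    exact Nat.card_congr ⟨fun y => ⟨y.1.1, mem_cent.mpr ((mem_cent.mp y.2).map (P : Subgroup G).subtype)⟩,
      fun y => ⟨⟨y.1, hCP y.2⟩, mem_cent.mpr (Subtype.ext (mem_cent.mp y.2))⟩, fun _ => rfl, fun _ => rfl⟩
  have hP8 : Nat.card (P : Subgroup G) = 8 := by
    have hle := hR.sylow_two_le P hxPc
    have hd : 2 ^ 3 ∣ Nat.card (P : Subgroup G) := P.pow_dvd_card_of_pow_dvd_card h8
    have := Nat.le_of_dvd Nat.card_pos hd
    omega
  obtain ⟨zP, hz1', hz2', hx1', hxz', hzc', huniq', hx2', hyx', hcomm'⟩ :=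
    order_eight_facts hP8 hxPc
  set z : G := (zP : G) with hzdef
  have hzP : z ∈ (P : Subgroup G) := zP.2
  have hz1 : z ≠ 1 := fun h => hz1' (Subtype.ext h)
  have hz2 : z ^ 2 = 1 := congrArg Subtype.val hz2'
  have hx1 : x ≠ 1 := fun h => hx1' (Subtype.ext h)
  have hxz : x ≠ z := fun h => hxz' (Subtype.ext h)
  have hzc : ∀ y ∈ (P : Subgroup G), Commute z y := fun y hy => congrArg Subtype.val (hzc' ⟨y, hy⟩)
  have hx2 : x ^ 2 = 1 ∨ x ^ 2 = z := hx2'.imp (congrArg Subtype.val) (congrArg Subtype.val)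
  have hyx : ∀ y ∈ (P : Subgroup G), ¬ Commute y x →
      y * x * y⁻¹ = x * z ∧ (y ^ 2 = 1 ∨ y ^ 2 = z) := by
    intro y hy hn
    obtain ⟨h1, h2⟩ := hyx' ⟨y, hy⟩ fun h => hn (congrArg Subtype.val h)
    exact ⟨congrArg Subtype.val h1, h2.imp (congrArg Subtype.val) (congrArg Subtype.val)⟩
  -- the odd core
  set O := pPrimeCore 2 G with hOdef
  have hOodd : Odd (Nat.card O) := Nat.coprime_two_right.mp (card_pPrimeCore_coprime 2)
  have hOord : ∀ a ∈ O, Odd (orderOf a) := fun a ha =>
    Odd.of_dvd_nat hOodd ((Subgroup.orderOf_mk a ha) ▸ orderOf_dvd_natCard _)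
  set f := QuotientGroup.mk' O with hfdef
  have hfs : Function.Surjective f := QuotientGroup.mk'_surjective O
  have hker : f.ker = O := QuotientGroup.ker_mk' O
  have hcop : ∀ y ∈ (P : Subgroup G), (orderOf y).Coprime (Nat.card f.ker) := by
    intro y hy
    obtain ⟨m, hm⟩ := IsPGroup.iff_orderOf.mp P.2 ⟨y, hy⟩
    rw [hker, ← Subgroup.orderOf_mk y hy, hm]
    exact (Nat.coprime_two_left.mpr hOodd).pow_left m
  have hinj : ∀ y ∈ (P : Subgroup G), f y = 1 → y = 1 := by
    intro y hy h
    have h1 : y ∈ O := (QuotientGroup.eq_one_iff y).mp h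
    have h2 := hcop y hy
    rw [hker] at h2
    have h3 : orderOf y ∣ Nat.card O := (Subgroup.orderOf_mk y h1) ▸ orderOf_dvd_natCard _
    exact orderOf_eq_one_iff.mp (Nat.eq_one_of_dvd_coprimes h2 dvd_rfl h3)
  have hxfix : ∀ a ∈ O, Commute x a → a = 1 := by
    intro a ha hc
    have h1 : a ∈ (P : Subgroup G) := hCP (mem_cent.mpr hc.symm)
    exact hinj a h1 ((QuotientGroup.eq_one_iff a).mpr ha)
  have hnO : ∀ y a : G, a ∈ O → y * a * y⁻¹ ∈ O := fun y a ha =>
    (inferInstance : O.Normal).conj_mem a ha y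
  -- the quotient
  have hsQ : Group.IsSolvable (G ⧸ O) := inferInstance
  have hcoreQ : pPrimeCore 2 (G ⧸ O) = ⊥ := pPrimeCore_quotient_eq_bot 2
  set R := pCore 2 (G ⧸ O) with hRdef
  have hCR : centralizer (R : Set (G ⧸ O)) ≤ R := centralizer_pCore_le Nat.prime_two hcoreQ
  set PQ := (P : Subgroup G).map f with hPQ
  have hPQcard : Nat.card PQ = 8 := by
    rw [hPQ, ← hP8]
    refine (Nat.card_congr (Equiv.ofBijective (fun y : (P : Subgroup G) => (⟨f y, ⟨y, y.2, rfl⟩⟩ : PQ))
      ⟨fun a b h => ?_, fun ⟨q, y, hy, e⟩ => ⟨⟨y, hy⟩, Subtype.ext e⟩⟩)).symm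
    have h1 : f ((a : G) * (b : G)⁻¹) = 1 := by
      rw [map_mul, map_inv, show f a = f b from congrArg Subtype.val h, mul_inv_cancel]
    exact Subtype.ext (mul_inv_eq_one.mp (hinj _ (Subgroup.mul_mem _ a.2 (Subgroup.inv_mem _ b.2)) h1))
  set PS : Sylow 2 (G ⧸ O) := P.mapSurjective hfs with hPSdef
  have hPS : (PS : Subgroup (G ⧸ O)) = PQ := rfl
  have hRle : R ≤ PQ := hPS ▸ pCore_le_sylow PS
  have hRdvd : Nat.card R ∣ 2 ^ 3 := by
    rw [show (2 : ℕ) ^ 3 = Nat.card PQ by rw [hPQcard]; rfl]
    exact Subgroup.card_dvd_of_le hRle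
  have hQ8 : 8 ∣ Nat.card (G ⧸ O) := hPQcard ▸ Subgroup.card_subgroup_dvd_card PQ
  have hRn : R.Normal := inferInstance
  obtain ⟨j, hj3, hRcard⟩ := (Nat.dvd_prime_pow Nat.prime_two).mp hRdvd
  have hj : 2 ≤ j := by
    by_contra hlt
    have hcent : centralizer (R : Set (G ⧸ O)) = ⊤ := by
      rw [eq_top_iff]
      intro q _ r hr
      have h2R : Nat.card R ≤ 2 := by
        rw [hRcard]
        calc 2 ^ j ≤ 2 ^ 1 := Nat.pow_le_pow_right two_pos (by omega)
          _ = 2 := pow_one 2
      rw [SetLike.mem_coe] at hr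
      rcases eq_or_ne r 1 with rfl | hr1
      · simp
      · have hq1 := hRn.conj_mem r hr q
        have he : q * r * q⁻¹ = r := by
          by_contra hne
          have : Fintype R := Fintype.ofFinite R
          have h3 : 2 < Nat.card R := by
            rw [Nat.card_eq_fintype_card]
            exact Fintype.two_lt_card_iff.mpr ⟨1, ⟨r, hr⟩, ⟨_, hq1⟩,
              fun h => hr1 (congrArg Subtype.val h).symm,
              fun h => hr1 (conj_eq_one_iff.mp (congrArg Subtype.val h).symm),
              fun h => hne (congrArg Subtype.val h).symm⟩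
          omega
        exact (mul_inv_eq_iff_eq_mul.mp he).symm
    rw [hcent, top_le_iff] at hCR
    rw [hCR, Subgroup.card_top] at hRcard
    rw [hRcard] at hQ8
    have := (Nat.pow_dvd_pow_iff_le_right (le_refl 2)).mp (show 2 ^ 3 ∣ 2 ^ j from hQ8)
    omega
  have hcents : ∀ y ∈ (P : Subgroup G),
      cent y = cent (f y) * Nat.card (O ⊓ centralizer ({y} : Set G) : Subgroup G) := by
    intro y hy
    have := cent_eq_mul hfs (hcop y hy)
    rwa [hker] at this
  have hnot8 : ∀ y ∈ (P : Subgroup G), ¬ 8 ∣ cent (f y) → ¬ 8 ∣ cent y := by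
    intro y hy h hd
    rw [hcents y hy] at hd
    refine h ((Nat.Coprime.dvd_mul_right ?_).mp hd)
    rw [show (8 : ℕ) = 2 ^ 3 from rfl]
    exact (Nat.coprime_two_left.mpr
      (Odd.of_dvd_nat hOodd (Subgroup.card_dvd_of_le inf_le_left))).pow_left 3
  -- common: `u` inverts the centraliser of `z` in `O`
  have hA : ∀ u ∈ (P : Subgroup G), u ≠ 1 → u ≠ z → (u ^ 2 = 1 ∨ u ^ 2 = z) → ¬ 8 ∣ cent (f u) →
      ∀ a ∈ O ⊓ centralizer ({z} : Set G), u * a * u⁻¹ = a⁻¹ := by
    intro u hu hu1 huz hu2 hu8 a ha
    set K := O ⊓ centralizer ({z} : Set G)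
    refine inverts_of_no_fixed K (Odd.of_dvd_nat hOodd (Subgroup.card_dvd_of_le inf_le_left))
      (fun b hb => ⟨hnO u b hb.1, mem_cent.mpr ?_⟩) (fun b hb => ?_) (fun b hb hc => ?_) a ha
    · have h := (mem_cent.mp hb.2).map (MulAut.conj u).toMonoidHom
      simp only [MulEquiv.coe_toMonoidHom, MulAut.conj_apply] at h
      rwa [(hzc u hu).symm.eq, mul_inv_cancel_right] at h
    · rcases hu2 with h | h <;> rw [h]
      · exact Commute.one_left b
      · exact (mem_cent.mp hb.2).symm
    · exact hR.kill P hP8 hu hzP hu1 hz1 huz (hzc u hu).symm (hnot8 u hu hu8) (hOord b hb.1) hc.symm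
        (mem_cent.mp hb.2)
  have hxinvA : x ^ 2 = z → ∀ a ∈ O ⊓ centralizer ({z} : Set G), x * a * x⁻¹ = a⁻¹ := by
    intro hxz2 a ha
    refine inverts_of_no_fixed (O ⊓ centralizer ({z} : Set G))
      (Odd.of_dvd_nat hOodd (Subgroup.card_dvd_of_le inf_le_left))
      (fun b hb => ⟨hnO x b hb.1, mem_cent.mpr ?_⟩) (fun b hb => hxz2 ▸ (mem_cent.mp hb.2).symm)
      (fun b hb hc => hxfix b hb.1 hc) a ha
    have h := (mem_cent.mp hb.2).map (MulAut.conj x).toMonoidHom
    simp only [MulEquiv.coe_toMonoidHom, MulAut.conj_apply] at h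
    rwa [(hzc x hxP).symm.eq, mul_inv_cancel_right] at h
  rcases Nat.lt_or_ge j 3 with hj2 | hj2
  swap
  · -- the Sylow subgroup is normal modulo `O`
    have hj' : j = 3 := by omega
    have hReq : R = PQ := Subgroup.eq_of_le_of_card_ge hRle (by rw [hPQcard, hRcard, hj']; rfl)
    have hQP : R = ⊤ := by
      have hq : Odd (Nat.card ((G ⧸ O) ⧸ R)) := by
        rw [← Subgroup.index_eq_card, hReq, ← hPS, Nat.odd_iff, ← Nat.two_dvd_ne_zero]
        exact PS.not_dvd_index
      rw [eq_top_iff]
      intro q _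
      rw [← QuotientGroup.eq_one_iff]
      exact ((hR.map hfs).map (QuotientGroup.mk'_surjective R)).eq_one_of_odd hq _
    have hGP : ∀ g : G, ∃ y ∈ (P : Subgroup G), ∃ a ∈ O, g = y * a := by
      intro g
      obtain ⟨y, hy, he⟩ : f g ∈ PQ := hReq ▸ hQP ▸ mem_top (f g)
      exact ⟨y, hy, y⁻¹ * g, QuotientGroup.eq.mp he, by group⟩
    rcases hx2 with hxx | hxx
    · -- `x` an involution
      obtain ⟨y, hy, hyc⟩ : ∃ y ∈ (P : Subgroup G), ¬ Commute y x := by
        by_contra! hall
        have : centralizer ({(⟨x, hxP⟩ : (P : Subgroup G))} : Set (P : Subgroup G)) = ⊤ := by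
          rw [eq_top_iff]
          exact fun w _ => mem_cent.mpr (Subtype.ext (hall w w.2))
        rw [cent, this, Subgroup.card_top, hP8] at hxPc
        omega
      obtain ⟨hconj, -⟩ := hyx y hy hyc
      have hinv := inverts_of_no_fixed O hOodd (fun a ha => hnO x a ha)
        (fun a _ => by rw [hxx]; exact Commute.one_left a) hxfix
      have hzO : ∀ a ∈ O, Commute z a := by
        intro a ha
        have h1 : (x * z) * a * (x * z)⁻¹ = a⁻¹ := by
          have h' := congrArg (MulAut.conj y) (hinv _ (hnO y⁻¹ a ha))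
          simp only [MulAut.conj_apply, inv_inv] at h'
          rw [← hconj]
          calc y * x * y⁻¹ * a * (y * x * y⁻¹)⁻¹ = y * (x * (y⁻¹ * a * y) * x⁻¹) * y⁻¹ := by group
            _ = a⁻¹ := by rw [h']; group
        have h2 : z * a * z⁻¹ = a := by
          have h3 := hinv _ (hnO z a ha)
          have e : x * (z * a * z⁻¹) * x⁻¹ = (x * z) * a * (x * z)⁻¹ := by group
          rw [e, h1, inv_inj] at h3
          exact h3.symm
        exact mul_inv_eq_iff_eq_mul.mp h2
      have hzcen : z ∈ center G := by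
        rw [mem_center_iff]
        intro g
        obtain ⟨y, hy, a, ha, rfl⟩ := hGP g
        exact ((hzc y hy).mul_right (hzO a ha)).eq.symm
      rw [hG.center_eq_bot, Subgroup.mem_bot] at hzcen
      exact hz1 hzcen
    · -- `x` of order four
      obtain ⟨u, hu, huc⟩ : ∃ u ∈ (P : Subgroup G), ¬ Commute u x := by
        by_contra! hall
        have : centralizer ({(⟨x, hxP⟩ : (P : Subgroup G))} : Set (P : Subgroup G)) = ⊤ := by
          rw [eq_top_iff]
          exact fun w _ => mem_cent.mpr (Subtype.ext (hall w w.2))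
        rw [cent, this, Subgroup.card_top, hP8] at hxPc
        omega
      have hcentP : ∀ y ∈ (P : Subgroup G), ¬ Commute y x → cent (f y) = 4 := by
        intro y hy hyc
        have hyz : Commute y z := (hzc y hy).symm
        have hle : Nat.card (centralizer ({f y} : Set (G ⧸ O))) ∣ 2 ^ 3 := by
          rw [show (2 : ℕ) ^ 3 = Nat.card R by rw [hRcard, hj'], hQP]
          exact Subgroup.card_dvd_of_le le_top
        obtain ⟨i, hi, hie⟩ := (Nat.dvd_prime_pow Nat.prime_two).mp hle
        change Nat.card (centralizer ({f y} : Set (G ⧸ O))) = 4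
        rw [hie]
        have hy1 : y ≠ 1 := fun h => hyc (h ▸ Commute.one_left x)
        have hyz1 : y ≠ z := fun h => hyc (h ▸ hzc x hxP)
        have h3 : 3 ≤ 2 ^ i := by
          rw [← hie]
          have := Fintype.ofFinite (centralizer ({f y} : Set (G ⧸ O)))
          rw [Nat.card_eq_fintype_card]
          refine Fintype.two_lt_card_iff.mpr ⟨1, ⟨f y, self_mem_cent _⟩,
            ⟨f z, mem_cent.mpr ((hyz.map f).symm)⟩, fun h => hy1 (hinj y hy (congrArg Subtype.val h).symm),
            fun h => hz1 (hinj z hzP (congrArg Subtype.val h).symm), fun h => hyz1 ?_⟩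
          have h' : f (y * z⁻¹) = 1 := by
            rw [map_mul, map_inv, show f y = f z from congrArg Subtype.val h, mul_inv_cancel]
          exact mul_inv_eq_one.mp (hinj _ (Subgroup.mul_mem _ hy (Subgroup.inv_mem _ hzP)) h')
        interval_cases i
        · norm_num at h3
        · norm_num at h3
        · rfl
        · exfalso
          apply hyc
          have hall : f x ∈ centralizer ({f y} : Set (G ⧸ O)) := by
            have : centralizer ({f y} : Set (G ⧸ O)) = ⊤ := Subgroup.eq_top_of_card_eq _ (by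
              rw [hie, ← Subgroup.card_top (G := G ⧸ O), ← hQP, hRcard, hj'])
            rw [this]; exact mem_top _
          have h' : f (y * x * y⁻¹ * x⁻¹) = 1 := by
            rw [map_mul, map_mul, map_mul, map_inv, map_inv, (mem_cent.mp hall).symm.eq]
            group
          exact mul_inv_eq_iff_eq_mul.mp (mul_inv_eq_one.mp (hinj _ (Subgroup.mul_mem _
            (Subgroup.mul_mem _ (Subgroup.mul_mem _ hy hxP) (Subgroup.inv_mem _ hy))
            (Subgroup.inv_mem _ hxP)) h'))
      have hux : ¬ Commute (u * x) x := fun h => huc (by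
        have := h.mul_left (Commute.refl x).inv_left
        simpa [mul_assoc] using this)
      have huP : u * x ∈ (P : Subgroup G) := Subgroup.mul_mem _ hu hxP
      have hinvA : ∀ y ∈ (P : Subgroup G), ¬ Commute y x → ∀ a ∈ O ⊓ centralizer ({z} : Set G),
          y * a * y⁻¹ = a⁻¹ := fun y hy hyc => hA y hy (fun h => hyc (h ▸ Commute.one_left x))
        (fun h => hyc (h ▸ hzc x hxP)) (hyx y hy hyc).2
        (by rw [hcentP y hy hyc]; norm_num)
      have hA1 : ∀ a ∈ O, Commute z a → a = 1 := by
        intro a ha hc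
        have ha' : a ∈ O ⊓ centralizer ({z} : Set G) := ⟨ha, mem_cent.mpr hc.symm⟩
        have h1 := hinvA u hu huc a ha'
        have h2 := hinvA (u * x) huP hux a ha'
        have h3 := hxinvA hxx a ha'
        refine eq_one_of_inverted_centralized (hOord a ha) ?_
        have h4 : u * (x * a * x⁻¹) * u⁻¹ = (u * x) * a * (u * x)⁻¹ := by group
        rw [h3, h2] at h4
        rw [← h4]
        calc a = (a⁻¹)⁻¹ := (inv_inv a).symm
          _ = (u * a * u⁻¹)⁻¹ := by rw [h1]
          _ = u * a⁻¹ * u⁻¹ := by group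
      have hzinv := inverts_of_no_fixed O hOodd (fun a ha => hnO z a ha)
        (fun a _ => by rw [hz2]; exact Commute.one_left a) hA1
      have hab : ∀ a ∈ O, ∀ b ∈ O, a * b = b * a := by
        intro a ha b hb
        have h1 := hzinv _ (O.mul_mem ha hb)
        have h2 : z * (a * b) * z⁻¹ = (z * a * z⁻¹) * (z * b * z⁻¹) := by group
        rw [h2, hzinv a ha, hzinv b hb, mul_inv_rev] at h1
        have h3 := congrArg (·⁻¹) h1
        simp only [mul_inv_rev, inv_inv] at h3
        exact h3.symm
      -- the fixed points of the two reflections have equal orders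
      have hfixcard : ∀ v ∈ (P : Subgroup G), ¬ Commute v x →
          (v ^ 2 = z → Nat.card (O ⊓ centralizer ({v} : Set G) : Subgroup G) = 1) ∧
          (v ^ 2 = 1 → Nat.card (O ⊓ centralizer ({v} : Set G) : Subgroup G) *
            Nat.card (O ⊓ centralizer ({v} : Set G) : Subgroup G) = Nat.card O) := by
        intro v hv hvc
        constructor
        · intro hv2
          rw [Subgroup.card_eq_one, eq_bot_iff]
          intro a ha
          exact hA1 a ha.1 (hv2 ▸ ((mem_cent.mp ha.2).symm.pow_left 2))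
        · intro hv2
          set F := O ⊓ centralizer ({v} : Set G)
          set F' := O ⊓ centralizer ({v * z} : Set G)
          have hxv : x * v * x⁻¹ = v * z := by
            have h1 := (hyx v hv hvc).1
            have h2 : v⁻¹ = v := inv_eq_of_mul_eq_one_right (by rw [← pow_two, hv2])
            calc x * v * x⁻¹ = v * (v⁻¹ * x * v) * x⁻¹ := by group
              _ = v * (v * x * v⁻¹) * x⁻¹ := by rw [h2]
              _ = v * z := by rw [h1, ← (hzc x hxP).eq]; group
          have hFF : Nat.card F' = Nat.card F := by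
            rw [← Subgroup.card_map_of_injective (K := F) (f := (MulAut.conj x).toMonoidHom) (MulAut.conj x).injective]
            congr 2
            ext a
            constructor
            · intro ha
              refine ⟨x⁻¹ * a * x, ⟨by simpa using hnO x⁻¹ a ha.1, mem_cent.mpr ?_⟩,
                by simp [mul_assoc]⟩
              have h := (mem_cent.mp ha.2).map (MulAut.conj x⁻¹).toMonoidHom
              simp only [MulEquiv.coe_toMonoidHom, MulAut.conj_apply, inv_inv] at h
              have e : x⁻¹ * (v * z) * x = v := by rw [← hxv]; group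
              rwa [e] at h
            · rintro ⟨b, hb, rfl⟩
              refine ⟨hnO x b hb.1, mem_cent.mpr ?_⟩
              have h := (mem_cent.mp hb.2).map (MulAut.conj x).toMonoidHom
              simp only [MulEquiv.coe_toMonoidHom, MulAut.conj_apply] at h ⊢
              rwa [hxv] at h
          nth_rewrite 2 [← hFF]
          rw [← Nat.card_prod]
          refine Nat.card_congr (Equiv.ofBijective (fun p : F × F' => (⟨(p.1 : G) * p.2,
            O.mul_mem p.1.2.1 p.2.2.1⟩ : O)) ⟨?_, ?_⟩)
          · intro p q h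
            have h' : (p.1 : G) * p.2 = (q.1 : G) * q.2 := congrArg Subtype.val h
            have h1 : (q.1 : G)⁻¹ * p.1 = (q.2 : G) * (p.2 : G)⁻¹ := by
              calc (q.1 : G)⁻¹ * p.1 = (q.1 : G)⁻¹ * ((p.1 : G) * p.2) * (p.2 : G)⁻¹ := by group
                _ = (q.2 : G) * (p.2 : G)⁻¹ := by rw [h']; group
            have hF : (q.1 : G)⁻¹ * p.1 ∈ F := F.mul_mem (F.inv_mem q.1.2) p.1.2
            have hF' : (q.1 : G)⁻¹ * p.1 ∈ F' := h1 ▸ F'.mul_mem q.2.2 (F'.inv_mem p.2.2)
            have hcz : Commute z ((q.1 : G)⁻¹ * p.1) := by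
              have := (mem_cent.mp hF.2).symm.inv_left.mul_left (mem_cent.mp hF'.2).symm
              rwa [inv_mul_cancel_left] at this
            have h0 := hA1 _ hF.1 hcz
            have e1 : (p.1 : G) = q.1 := (inv_mul_eq_one.mp h0).symm
            have e2 : (p.2 : G) = q.2 := by rw [e1] at h'; exact mul_left_cancel h'
            exact Prod.ext (Subtype.ext e1) (Subtype.ext e2)
          · intro a
            obtain ⟨b, hb⟩ : ∃ b : O, b ^ 2 = a := (powCoprime (Nat.coprime_two_right.mpr hOodd)).surjective a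
            set c : G := v * b * v⁻¹ with hc
            have hcO : c ∈ O := hnO v b b.2
            have hvc' : v * c * v⁻¹ = b := by
              calc v * c * v⁻¹ = v ^ 2 * b * (v ^ 2)⁻¹ := by rw [hc, pow_two]; group
                _ = b := by rw [hv2]; simp
            have hp1 : Commute ((b : G) * c) v := by
              refine ((mul_inv_eq_iff_eq_mul.mp ?_) : Commute v ((b : G) * c)).symm
              calc v * ((b : G) * c) * v⁻¹ = (v * b * v⁻¹) * (v * c * v⁻¹) := by group
                _ = c * (b : G) := by rw [hvc']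
                _ = (b : G) * c := hab c hcO b b.2
            have hp2 : Commute ((b : G) * c⁻¹) (v * z) := by
              refine ((mul_inv_eq_iff_eq_mul.mp ?_) : Commute (v * z) ((b : G) * c⁻¹)).symm
              have e := hzinv _ (O.mul_mem b.2 (O.inv_mem hcO))
              calc v * z * ((b : G) * c⁻¹) * (v * z)⁻¹ = v * (z * ((b : G) * c⁻¹) * z⁻¹) * v⁻¹ := by group
                _ = (v * c * v⁻¹) * (v * (b : G) * v⁻¹)⁻¹ := by rw [e]; group
                _ = (b : G) * c⁻¹ := by rw [hvc']
            refine ⟨(⟨(b : G) * c, O.mul_mem b.2 hcO, mem_cent.mpr hp1⟩,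
              ⟨(b : G) * c⁻¹, O.mul_mem b.2 (O.inv_mem hcO), mem_cent.mpr hp2⟩), Subtype.ext ?_⟩
            show (b : G) * c * ((b : G) * c⁻¹) = a
            rw [← hb, SubmonoidClass.coe_pow, pow_two]
            calc (b : G) * c * ((b : G) * c⁻¹) = (b : G) * ((c * (b : G)) * c⁻¹) := by group
              _ = (b : G) * b := by rw [hab c hcO b b.2]; group
      obtain ⟨hu1f, hu2f⟩ := hfixcard u hu huc
      obtain ⟨hux1, hux2⟩ := hfixcard (u * x) huP hux
      obtain ⟨hconj, husq⟩ := hyx u hu huc
      have hu2x : (u * x) ^ 2 = u ^ 2 := by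
        calc (u * x) ^ 2 = (u * x * u⁻¹) * (u * u) * x := by rw [pow_two]; group
          _ = x * z * (u * u) * x := by rw [hconj]
          _ = u ^ 2 := by
            rcases husq with h | h <;> rw [← pow_two, h]
            · rw [mul_one, mul_assoc, (hzc x hxP).eq, ← mul_assoc, ← pow_two, hxx, ← pow_two, hz2]
            · rw [mul_assoc x, ← pow_two, hz2, mul_one, ← pow_two, hxx]
      have hequal : Nat.card (O ⊓ centralizer ({u} : Set G) : Subgroup G) =
          Nat.card (O ⊓ centralizer ({u * x} : Set G) : Subgroup G) := by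
        rcases husq with h | h
        · exact Nat.mul_self_inj.mp ((hu2f h).trans (hux2 (hu2x.trans h)).symm)
        · rw [hu1f h, hux1 (hu2x.trans h)]
      have hcc : cent u = cent (u * x) := by
        rw [hcents u hu, hcents _ huP, hcentP u hu huc, hcentP _ huP hux, hequal]
      obtain ⟨c, hc⟩ := isConj_iff.mp (hG.isConj hcc)
      obtain ⟨w, hw, a, ha, rfl⟩ := hGP c
      have h1 : f (w * u * w⁻¹) = f (u * x) := by
        rw [← hc]
        simp [map_mul, (QuotientGroup.eq_one_iff a).mpr ha, hfdef]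
      have h2 : w * u * w⁻¹ = u * x := by
        refine mul_inv_eq_one.mp (hinj _ (Subgroup.mul_mem _ (Subgroup.mul_mem _
          (Subgroup.mul_mem _ hw hu) (Subgroup.inv_mem _ hw)) (Subgroup.inv_mem _ huP)) ?_)
        rw [map_mul, map_inv, h1, mul_inv_cancel]
      rcases hcomm' ⟨w, hw⟩ ⟨u, hu⟩ with h | h
      · have h' : w * u * w⁻¹ = u := congrArg Subtype.val h
        rw [h2] at h'
        exact hx1 (mul_eq_left.mp h')
      · have h' : w * u * w⁻¹ = u * z := congrArg Subtype.val h
        rw [h2] at h'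
        exact hxz (mul_left_cancel h')
  · -- `R` is a four-group
    have hj' : j = 2 := by omega
    have hR4 : Nat.card R = 4 := by rw [hRcard, hj']; rfl
    have hRab : ∀ r ∈ R, ∀ s ∈ R, r * s = s * r := by
      intro r hr s hs
      exact congrArg Subtype.val ((IsPGroup.commGroupOfCardEqPrimeSq (p := 2)
        (G := R) (by rw [hR4]; rfl)).mul_comm ⟨r, hr⟩ ⟨s, hs⟩)
    have hRC : ∀ q, (∀ r ∈ R, Commute q r) → q ∈ R := fun q hq =>
      hCR fun r hr => ((hq r hr).eq).symm
    have h3Q : 3 ∣ Nat.card (G ⧸ O) := by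
      by_contra h3
      -- the quotient would be a 2-group
      have hsub : Nat.card (G ⧸ O) ∣ Nat.card G := Subgroup.card_quotient_dvd_card O
      have hPtop : R = PQ := by
        refine le_antisymm hRle ?_
        have hidx : PQ.index ∣ 5 ^ (PQ.index) := by
          rcases eq_or_ne PQ.index 1 with h | h
          · rw [h]; exact one_dvd _
          · obtain ⟨k, hk⟩ : ∃ k, PQ.index = 5 ^ k := by
              refine ⟨PQ.index.primeFactorsList.length, Nat.eq_prime_pow_of_unique_prime_dvd
                Subgroup.index_ne_zero_of_finite fun {p} hp hpd => ?_⟩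
              have h5 := hs p hp ((hpd.trans (Subgroup.index_dvd_card PQ)).trans hsub)
              have := hp.two_le
              interval_cases p
              · exact absurd hpd (hPS ▸ PS.not_dvd_index)
              · exact absurd (hpd.trans (Subgroup.index_dvd_card PQ)) h3
              · exact absurd hp (by decide)
              · rfl
            rw [hk]
            exact pow_dvd_pow 5 (Nat.lt_pow_self (by norm_num)).le
        by_contra hnle
        -- a 5-element of the quotient acts trivially on `R`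
        rcases eq_or_ne PQ.index 1 with h | h
        · apply hnle
          have htop := Subgroup.index_eq_one.mp h
          have : IsPGroup 2 (G ⧸ O) := by
            intro q
            obtain ⟨m, hm⟩ := (hPS ▸ PS.2) ⟨q, htop ▸ mem_top q⟩
            exact ⟨m, congrArg Subtype.val hm⟩
          have hle : (⊤ : Subgroup (G ⧸ O)) ≤ R := le_pCore (this.to_subgroup ⊤)
          exact le_top.trans hle
        · have h5 : 5 ∣ Nat.card (G ⧸ O) := by
            obtain ⟨k, -, hk⟩ := (Nat.dvd_prime_pow (by norm_num : Nat.Prime 5)).mp hidx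
            have hk0 : k ≠ 0 := fun h0 => h (by rw [hk, h0, pow_zero])
            exact ((dvd_pow_self 5 hk0).trans (hk ▸ Subgroup.index_dvd_card PQ))
          have : Fact (Nat.Prime 5) := ⟨by norm_num⟩
          obtain ⟨q, hq⟩ := exists_prime_orderOf_dvd_card' (G := G ⧸ O) 5 h5
          have hqR : q ∈ R := by
            exact hRC q (commute_of_card_four hR4 (fun r hr => hRn.conj_mem r hr q) hq (Or.inl rfl))
          have h1 : orderOf q ∣ Nat.card R := (Subgroup.orderOf_mk q hqR) ▸ orderOf_dvd_natCard _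
          rw [hq, hR4] at h1
          norm_num at h1
      rw [hPtop, hPQcard] at hR4
      omega
    have : Fact (Nat.Prime 3) := ⟨Nat.prime_three⟩
    obtain ⟨q, hq⟩ := exists_prime_orderOf_dvd_card' (G := G ⧸ O) 3 h3Q
    have hqR : q ∉ R := fun h => by
      have h1 : orderOf q ∣ Nat.card R := (Subgroup.orderOf_mk q h) ▸ orderOf_dvd_natCard _
      rw [hq, hR4] at h1; norm_num at h1
    have hRelt : ∀ r ∈ R, r ≠ 1 → q * r * q⁻¹ ≠ r := by
      intro r hr hr1 hfix
      apply hqR
      -- `q` fixes `1` and `r`, hence all four points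
      exact hRC q (commute_of_card_four hR4 (fun t ht => hRn.conj_mem t ht q) hq
        (Or.inr ⟨rfl, r, hr, hr1, hfix⟩))
    -- lift `R` into `P`
    set RP := R.comap f ⊓ (P : Subgroup G) with hRP
    have hlift : ∀ r ∈ R, ∃ v ∈ RP, f v = r := by
      intro r hr
      obtain ⟨v, hv, rfl⟩ := hRle hr
      exact ⟨v, ⟨hr, hv⟩, rfl⟩
    have hRPn : ((R.comap f).subgroupOf (P : Subgroup G)).Normal := inferInstance
    have hzR : z ∈ RP := by
      refine ⟨?_, hzP⟩
      have hne : (R.comap f).subgroupOf (P : Subgroup G) ≠ ⊥ := by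
        intro h
        have h4 : R = ⊥ := by
          rw [eq_bot_iff]
          intro r hr
          obtain ⟨v, hv, rfl⟩ := hlift r hr
          have hmem : (⟨v, hv.2⟩ : (P : Subgroup G)) ∈ (⊥ : Subgroup (P : Subgroup G)) :=
            h ▸ Subgroup.mem_subgroupOf.mpr hv.1
          have hv1 : v = 1 := congrArg Subtype.val (Subgroup.mem_bot.mp hmem)
          simp [hv1]
        rw [h4, Subgroup.card_bot] at hR4
        omega
      have hnil : Group.IsNilpotent (P : Subgroup G) := P.2.isNilpotent
      have := inf_center_ne_bot_of_nilpotent hne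
      obtain ⟨w, hw, hw1⟩ := ((_ : Subgroup (P : Subgroup G)).bot_or_exists_ne_one).resolve_left this
      rcases huniq' w (fun v => (mem_center_iff.mp hw.2 v).symm) with h | h
      · exact absurd h hw1
      · have hwR : f (w : G) ∈ R := hw.1
        rwa [h] at hwR
    have hfzR : f z ∈ R := hzR.1
    have hfz1 : f z ≠ 1 := fun h => hz1 (hinj z hzP h)
    have hxR : x ∉ RP := by
      intro h
      have hfx1 : f x ≠ 1 := fun h' => hx1 (hinj x hxP h')
      have hle : R ≤ centralizer ({f x} : Set (G ⧸ O)) := fun s hs => mem_cent.mpr (hRab s hs _ h.1)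
      have h4 := cent_map_le hfs x
      rw [hx] at h4
      have heq : R = centralizer ({f x} : Set (G ⧸ O)) := by
        refine Subgroup.eq_of_le_of_card_ge hle ?_
        rw [hR4]; exact h4
      -- a Sylow subgroup fixes some nontrivial element of `R`
      have hcx : cent (f x) = 4 := by
        change Nat.card (centralizer ({f x} : Set (G ⧸ O))) = 4
        rw [← heq, hR4]
      have hfzx : f z ≠ f x := fun h' => hxz (mul_inv_eq_one.mp (hinj _
        (Subgroup.mul_mem _ hzP (Subgroup.inv_mem _ hxP))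
        (by rw [map_mul, map_inv, h', mul_inv_cancel]))).symm
      -- `q` or `q⁻¹` carries `f z` to `f x`
      have hconjzx : IsConj (f z) (f x) := by
        by_contra hnc
        have h1 : q * f z * q⁻¹ ≠ f z := hRelt _ hfzR hfz1
        have h2 : q * (q * f z * q⁻¹) * q⁻¹ ≠ q * f z * q⁻¹ :=
          hRelt _ (hRn.conj_mem _ hfzR q) (fun h' => hfz1 (conj_eq_one_iff.mp h'))
        have h3 : q * (q * f z * q⁻¹) * q⁻¹ ≠ f z := by
          intro h'
          apply h1
          calc q * f z * q⁻¹ = q ^ 3 * (q * f z * q⁻¹) * (q ^ 3)⁻¹ := by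
                rw [← hq, pow_orderOf_eq_one]; simp
            _ = q * (q * (q * (q * f z * q⁻¹) * q⁻¹) * q⁻¹) * q⁻¹ := by
                rw [pow_succ, pow_two]; group
            _ = q * (q * f z * q⁻¹) * q⁻¹ := congrArg (fun t => q * (q * t * q⁻¹) * q⁻¹) h'
            _ = f z := h'
        have := Fintype.ofFinite R
        have h5 : 4 < Nat.card R + 1 := by omega
        have hsub : ({⟨1, R.one_mem⟩, ⟨f z, hfzR⟩, ⟨_, hRn.conj_mem _ hfzR q⟩,
            ⟨_, hRn.conj_mem _ (hRn.conj_mem _ hfzR q) q⟩, ⟨f x, h.1⟩} : Finset R).card ≤ 4 := by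
          rw [← hR4, Nat.card_eq_fintype_card]
          exact Finset.card_le_univ _
        have hne : ∀ g : G ⧸ O, g * f z * g⁻¹ ≠ f x := fun g hg => hnc (isConj_iff.mpr ⟨g, hg⟩)
        have hcard : ({⟨1, R.one_mem⟩, ⟨f z, hfzR⟩, ⟨_, hRn.conj_mem _ hfzR q⟩,
            ⟨_, hRn.conj_mem _ (hRn.conj_mem _ hfzR q) q⟩, ⟨f x, h.1⟩} : Finset R).card = 5 := by
          have e5 : ∀ g : G ⧸ O, g * f z * g⁻¹ ≠ 1 := fun g hg => hfz1 (conj_eq_one_iff.mp hg)
          have hqq : q * (q * f z * q⁻¹) * q⁻¹ = (q * q) * f z * (q * q)⁻¹ := by group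
          repeat rw [Finset.card_insert_of_notMem]
          · simp
          all_goals simp only [Finset.mem_insert, Finset.mem_singleton, Subtype.ext_iff, not_or]
          · exact fun h' => hne (q * q) (hqq ▸ h')
          · exact ⟨fun h' => h2 h'.symm, hne q⟩
          · exact ⟨fun h' => h1 h'.symm, fun h' => h3 h'.symm, hfzx⟩
          · exact ⟨fun h' => hfz1 h'.symm, fun h' => e5 q h'.symm,
              fun h' => e5 (q * q) (hqq ▸ h'.symm), fun h' => hfx1 h'.symm⟩
        omega
      have hcz : 8 ∣ cent (f z) := by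
        rw [← hPQcard]
        refine Subgroup.card_dvd_of_le ?_
        rintro _ ⟨y, hy, rfl⟩
        exact mem_cent.mpr ((hzc y hy).symm.map f)
      rw [cent_eq_of_isConj hconjzx, hcx] at hcz
      norm_num at hcz
    have hno8 : ∀ y ∈ (P : Subgroup G), f y ∉ R → ¬ 8 ∣ cent (f y) := by
      intro y hy hyR hd
      -- `f y` is then central in a Sylow subgroup, which contains `R`
      obtain ⟨S, hS⟩ := Sylow.exists_subgroup_card_pow_prime 2 (n := 3)
        (G := centralizer ({f y} : Set (G ⧸ O))) (show 2 ^ 3 ∣ _ from hd)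
      have hSp : IsPGroup 2 (S.map (centralizer ({f y} : Set (G ⧸ O))).subtype) :=
        (IsPGroup.of_card (p := 2) hS).map _
      obtain ⟨T, hT⟩ := hSp.exists_le_sylow
      have hTeq : S.map (centralizer ({f y} : Set (G ⧸ O))).subtype = (T : Subgroup (G ⧸ O)) := by
        refine Subgroup.eq_of_le_of_card_ge hT ?_
        rw [Subgroup.card_map_of_injective (Subgroup.subtype_injective _), hS, T.card_eq_multiplicity,
          ← PS.card_eq_multiplicity, hPS, hPQcard]
        rfl
      apply hyR
      refine hRC _ fun r hr => ?_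
      have hrT : r ∈ (T : Subgroup (G ⧸ O)) := pCore_le_sylow T hr
      rw [← hTeq] at hrT
      obtain ⟨s, -, rfl⟩ := hrT
      exact (mem_cent.mp s.2).symm
    obtain ⟨z', hz'R, hz'⟩ : ∃ z' ∈ RP, z' ≠ 1 ∧ z' ≠ z := by
      by_contra! hall
      have hsub : ∀ r : R, (r : G ⧸ O) = 1 ∨ (r : G ⧸ O) = f z := by
        intro r
        obtain ⟨v, hv, he⟩ := hlift r r.2
        by_cases hv1 : v = 1
        · exact Or.inl (by rw [← he, hv1, map_one])
        · exact Or.inr (by rw [← he, hall v hv hv1])
      have := Fintype.ofFinite R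
      have h2 : Fintype.card R ≤ ({⟨1, R.one_mem⟩, ⟨f z, hfzR⟩} : Finset R).card :=
        Finset.card_le_card (fun r _ => by
          rcases hsub r with h | h <;> simp [Subtype.ext_iff, h])
      rw [← Nat.card_eq_fintype_card, hR4] at h2
      have := h2.trans Finset.card_le_two
      omega
    have hz'c : ¬ Commute z' x := by
      intro hc
      apply hxR
      refine ⟨hRC (f x) fun r hr => ?_, hxP⟩
      obtain ⟨v, hv, rfl⟩ := hlift r hr
      -- `RP` is generated by `z` and `z'`
      have hRPcard : Nat.card RP ≤ 4 := by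
        rw [← hR4]
        refine Nat.card_le_card_of_injective (fun v : RP => (⟨f v, v.2.1⟩ : R)) fun a b h => ?_
        exact Subtype.ext (mul_inv_eq_one.mp (hinj _ (Subgroup.mul_mem _ a.2.2 (Subgroup.inv_mem _ b.2.2))
          (by rw [map_mul, map_inv, show f a = f b from congrArg Subtype.val h, mul_inv_cancel])))
      have hle : RP ≤ centralizer ({x} : Set G) := by
        set H := RP ⊓ centralizer ({x} : Set G) with hH
        have hz'H : z' ∈ H := ⟨hz'R, mem_cent.mpr hc⟩
        have hzH : z ∈ H := ⟨hzR, mem_cent.mpr (hzc x hxP)⟩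
        have h3 : 3 ≤ Nat.card H := by
          have := Fintype.ofFinite H
          rw [Nat.card_eq_fintype_card]
          exact Fintype.two_lt_card_iff.mpr ⟨1, ⟨z', hz'H⟩, ⟨z, hzH⟩,
            fun h => hz'.1 (congrArg Subtype.val h).symm, fun h => hz1 (congrArg Subtype.val h).symm,
            fun h => hz'.2 (congrArg Subtype.val h)⟩
        have hd : Nat.card H ∣ Nat.card RP := Subgroup.card_dvd_of_le inf_le_left
        have : Nat.card H = Nat.card RP := by
          obtain ⟨m, hm⟩ := hd
          rcases Nat.lt_or_ge m 2 with hm2 | hm2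
          · interval_cases m
            · have := Nat.card_pos (α := RP); omega
            · omega
          · nlinarith
        exact (Subgroup.eq_of_le_of_card_ge inf_le_left this.ge).ge.trans inf_le_right
      exact ((mem_cent.mp (hle hv)).map f).symm
    obtain ⟨hconj', hz'2⟩ := hyx z' hz'R.2 hz'c
    -- all nontrivial elements of `RP` are conjugate under its normaliser
    have hsylRP : ∀ M : Subgroup G, M = R.comap f → ∃ T : Sylow 2 M, (T : Subgroup M).map M.subtype = RP := by
      intro M hM
      subst hM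
      have hTp : IsPGroup 2 (RP.subgroupOf (R.comap f)) :=
        (P.2.to_le (inf_le_right : RP ≤ P)).comap_of_injective _ (Subgroup.subtype_injective _)
      have hidx : ¬ 2 ∣ (RP.subgroupOf (R.comap f)).index := by
        intro hd
        have h1 := (RP.subgroupOf (R.comap f)).card_mul_index
        rw [card_comap_mk, hR4, Nat.card_congr (Subgroup.subgroupOfEquivOfLe (inf_le_left : RP ≤ _)).toEquiv]
          at h1
        have hc4 : Nat.card RP = 4 := by
          rw [← hR4]
          refine Nat.card_congr (Equiv.ofBijective (fun v : RP => (⟨f v, v.2.1⟩ : R)) ⟨fun a b h => ?_, ?_⟩)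
          · exact Subtype.ext (mul_inv_eq_one.mp (hinj _ (Subgroup.mul_mem _ a.2.2 (Subgroup.inv_mem _ b.2.2))
              (by rw [map_mul, map_inv, show f a = f b from congrArg Subtype.val h, mul_inv_cancel])))
          · rintro ⟨r, hr⟩
            obtain ⟨v, hv, rfl⟩ := hlift r hr
            exact ⟨⟨v, hv⟩, rfl⟩
        rw [hc4, mul_comm (Nat.card O)] at h1
        rw [Nat.eq_of_mul_eq_mul_left (by norm_num) h1] at hd
        exact (Nat.not_even_iff_odd.mpr hOodd) (even_iff_two_dvd.mpr hd)
      refine ⟨hTp.toSylow hidx, ?_⟩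
      exact Subgroup.map_subgroupOf_eq_of_le inf_le_left
    obtain ⟨T, hT⟩ := hsylRP _ rfl
    have hfrat := Sylow.normalizer_sup_eq_top T
    rw [hT] at hfrat
    obtain ⟨g0, hg0⟩ := hfs q
    have hg0mem : g0 ∈ normalizer (RP : Set G) ⊔ R.comap f := hfrat ▸ mem_top g0
    obtain ⟨g, hg, w, hw, hgw⟩ := Subgroup.mem_sup_of_normal_right.mp hg0mem
    have hact : ∀ v ∈ RP, f (g * v * g⁻¹) = q * f v * q⁻¹ := by
      intro v hv
      have hc : Commute (f w) (f v) := hRab _ hw _ hv.1
      rw [← hg0, ← hgw, map_mul, map_mul, map_mul, map_inv, mul_inv_rev]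
      calc f g * f v * (f g)⁻¹ = f g * (f v * f w) * (f w)⁻¹ * (f g)⁻¹ := by group
        _ = f g * f w * f v * ((f w)⁻¹ * (f g)⁻¹) := by rw [← hc.eq]; group
    have hgmem : ∀ v ∈ RP, g * v * g⁻¹ ∈ RP := fun v hv => (mem_normalizer_iff.mp hg v).mp hv
    have hmove : ∀ v ∈ RP, v ≠ 1 → g * v * g⁻¹ ≠ v := by
      intro v hv hv1 h
      refine hRelt (f v) hv.1 (fun h' => hv1 (hinj v hv.2 h')) ?_
      rw [← hact v hv, h]
    set z1 := g * z * g⁻¹ with hz1def
    have hz1R : z1 ∈ RP := hgmem z hzR
    set z2 := g * z1 * g⁻¹ with hz2def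
    have hz2R : z2 ∈ RP := hgmem z1 hz1R
    have hz1ne : z1 ≠ 1 := fun h => hz1 (conj_eq_one_iff.mp h)
    have hz2ne : z2 ≠ 1 := fun h => hz1ne (conj_eq_one_iff.mp h)
    have hz10 : z1 ≠ z := hmove z hzR hz1
    have hz21 : z2 ≠ z1 := hmove z1 hz1R hz1ne
    have hz20 : z2 ≠ z := by
      intro h
      apply hz10
      have h1 : f (g * z2 * g⁻¹) = f z := by
        have e : q ^ 3 = 1 := by rw [← hq, pow_orderOf_eq_one]
        rw [hact z2 hz2R, hz2def, hact z1 hz1R, hz1def, hact z hzR]
        calc q * (q * (q * f z * q⁻¹) * q⁻¹) * q⁻¹ = q ^ 3 * f z * (q ^ 3)⁻¹ := by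
              rw [pow_succ, pow_two]; group
          _ = f z := by rw [e]; simp
      rw [h] at h1
      exact mul_inv_eq_one.mp (hinj _ (Subgroup.mul_mem _ hz1R.2 (Subgroup.inv_mem _ hzP))
        (by rw [map_mul, map_inv, hz1def, h1, mul_inv_cancel]))
    have hRPle : Nat.card RP ≤ 4 := by
      rw [← hR4]
      refine Nat.card_le_card_of_injective (fun v : RP => (⟨f v, v.2.1⟩ : R)) fun a b h => ?_
      exact Subtype.ext (mul_inv_eq_one.mp (hinj _ (Subgroup.mul_mem _ a.2.2 (Subgroup.inv_mem _ b.2.2))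
        (by rw [map_mul, map_inv, show f a = f b from congrArg Subtype.val h, mul_inv_cancel])))
    have hfour : ∀ v ∈ RP, v = 1 ∨ v = z ∨ v = z1 ∨ v = z2 := by
      intro v hv
      by_contra hne
      push Not at hne
      have := Fintype.ofFinite RP
      have h5 : ({⟨1, RP.one_mem⟩, ⟨z, hzR⟩, ⟨z1, hz1R⟩, ⟨z2, hz2R⟩, ⟨v, hv⟩} : Finset RP).card = 5 := by
        repeat rw [Finset.card_insert_of_notMem]
        · simp
        all_goals simp only [Finset.mem_insert, Finset.mem_singleton, Subtype.mk.injEq, not_or]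
        · exact fun h => hne.2.2.2 h.symm
        · exact ⟨fun h => hz21 h.symm, fun h => hne.2.2.1 h.symm⟩
        · exact ⟨fun h => hz10 h.symm, fun h => hz20 h.symm, fun h => hne.2.1 h.symm⟩
        · exact ⟨fun h => hz1 h.symm, fun h => hz1ne h.symm, fun h => hz2ne h.symm, fun h => hne.1 h.symm⟩
      have h4 := Finset.card_le_univ ({⟨1, RP.one_mem⟩, ⟨z, hzR⟩, ⟨z1, hz1R⟩, ⟨z2, hz2R⟩, ⟨v, hv⟩} : Finset RP)
      rw [h5, ← Nat.card_eq_fintype_card] at h4
      omega
    have hgO : ∀ {v a : G}, a ∈ O → Commute v a → g * a * g⁻¹ ∈ O ∧ Commute (g * v * g⁻¹) (g * a * g⁻¹) :=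
      fun {v a} ha hc => ⟨hnO g a ha, hc.map (MulAut.conj g).toMonoidHom⟩
    -- `z` centralises `O`
    have hzO : ∀ a ∈ O, Commute z a := by
      rcases hx2 with hxx | hxx
      · have hinv := inverts_of_no_fixed O hOodd (fun a ha => hnO x a ha)
          (fun a _ => by rw [hxx]; exact Commute.one_left a) hxfix
        intro a ha
        have h1 : (x * z) * a * (x * z)⁻¹ = a⁻¹ := by
          have h' := hinv _ (hnO z'⁻¹ a ha)
          rw [inv_inv] at h'
          rw [← hconj']
          calc z' * x * z'⁻¹ * a * (z' * x * z'⁻¹)⁻¹ = z' * (x * (z'⁻¹ * a * z') * x⁻¹) * z'⁻¹ := by group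
            _ = a⁻¹ := by rw [h']; group
        have h3 := hinv _ (hnO z a ha)
        have e : x * (z * a * z⁻¹) * x⁻¹ = (x * z) * a * (x * z)⁻¹ := by group
        rw [e, h1, inv_inj] at h3
        exact mul_inv_eq_iff_eq_mul.mp h3.symm
      · -- every element centralised by `z` is centralised by `RP`
        have hsub : ∀ a ∈ O, Commute z a → ∀ v ∈ RP, Commute v a := by
          intro a ha hc v hv
          have ha' : a ∈ O ⊓ centralizer ({z} : Set G) := ⟨ha, mem_cent.mpr hc.symm⟩
          rcases eq_or_ne v 1 with rfl | hv1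
          · exact Commute.one_left a
          rcases eq_or_ne v z with rfl | hvz
          · exact hc
          have hvc : ¬ Commute v x := by
            intro hvx
            -- otherwise `z'` would commute with `x` as well
            apply hz'c
            set H := RP ⊓ centralizer ({x} : Set G)
            have h3 : 3 ≤ Nat.card H := by
              have := Fintype.ofFinite H
              rw [Nat.card_eq_fintype_card]
              exact Fintype.two_lt_card_iff.mpr ⟨1, ⟨v, hv, mem_cent.mpr hvx⟩,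
                ⟨z, hzR, mem_cent.mpr (hzc x hxP)⟩, fun h => hv1 (congrArg Subtype.val h).symm,
                fun h => hz1 (congrArg Subtype.val h).symm, fun h => hvz (congrArg Subtype.val h)⟩
            obtain ⟨m, hm⟩ : Nat.card H ∣ Nat.card RP := Subgroup.card_dvd_of_le inf_le_left
            have hHe : Nat.card H = Nat.card RP := by
              rcases Nat.lt_or_ge m 2 with hm2 | hm2
              · interval_cases m
                · have := Nat.card_pos (α := RP); omega
                · omega
              · nlinarith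
            exact mem_cent.mp ((Subgroup.eq_of_le_of_card_ge (inf_le_left : H ≤ RP) hHe.ge).ge hz'R).2
          obtain ⟨hvconj, hv2⟩ := hyx v hv.2 hvc
          set s := x * v with hs'
          have hsP : s ∈ (P : Subgroup G) := Subgroup.mul_mem _ hxP hv.2
          have hsc : ¬ Commute s x := fun h => hvc (by
            have := (Commute.refl x).inv_left.mul_left h
            simpa [hs', mul_assoc] using this)
          have hsR : f s ∉ R := fun h => hxR ⟨by
            have := R.mul_mem h (R.inv_mem hv.1)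
            simpa [hs', map_mul, mul_assoc] using this, hxP⟩
          have hs1 : s ≠ 1 := fun h => hsc (h ▸ Commute.one_left x)
          have hsz : s ≠ z := fun h => hsc (h ▸ hzc x hxP)
          have h1 := hA s hsP hs1 hsz (hyx s hsP hsc).2 (hno8 s hsP hsR) a ha'
          have h2 := hxinvA hxx a ha'
          refine mul_inv_eq_iff_eq_mul.mp ((MulAut.conj x).injective ?_)
          simp only [MulAut.conj_apply]
          rw [h2, ← h1, hs']
          group
        have hall1 : ∀ a ∈ O, Commute z1 a → Commute z a := by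
          intro a ha hc
          have hb : g⁻¹ * a * g ∈ O := by simpa using hnO g⁻¹ a ha
          have hcb : Commute z (g⁻¹ * a * g) := by
            have := hc.map (MulAut.conj g⁻¹).toMonoidHom
            simpa [hz1def, mul_assoc] using this
          have h' := (hgO hb (hsub _ hb hcb z2 hz2R)).2
          have e1 : g * (g⁻¹ * a * g) * g⁻¹ = a := by group
          rw [e1] at h'
          have e2 : g * z2 * g⁻¹ = z := by
            have hm := hgmem z2 hz2R
            rcases hfour _ hm with h | h | h | h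
            · exact absurd (conj_eq_one_iff.mp h) hz2ne
            · exact h
            · exfalso
              apply hz20
              have : g * z2 * g⁻¹ = g * z * g⁻¹ := by rw [h, hz1def]
              exact mul_left_cancel (mul_right_cancel this)
            · exact absurd h (hmove z2 hz2R hz2ne)
          rwa [e2] at h'
        have hall2 : ∀ a ∈ O, Commute z2 a → Commute z a := by
          intro a ha hc
          have hb : g⁻¹ * a * g ∈ O := by simpa using hnO g⁻¹ a ha
          have hcb : Commute z1 (g⁻¹ * a * g) := by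
            have := hc.map (MulAut.conj g⁻¹).toMonoidHom
            simpa [hz2def, mul_assoc] using this
          have hcz := hall1 _ hb hcb
          have h' := (hgO hb hcz).2
          have e1 : g * (g⁻¹ * a * g) * g⁻¹ = a := by group
          rw [e1] at h'
          exact hall1 a ha h'
        have hKc : IsMulCommutative RP := ⟨⟨fun a b => by
          have hv2 : ∀ v ∈ RP, v ^ 2 = 1 := by
            intro v hv
            rcases hfour v hv with h | h | h | h <;>
              simp [h, hz1def, hz2def, conj_pow, hz2]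
          have hinv : ∀ v ∈ RP, v⁻¹ = v := fun v hv =>
            inv_eq_of_mul_eq_one_right (by rw [← pow_two, hv2 v hv])
          apply Subtype.ext
          show (a : G) * b = b * a
          rw [← hinv _ (RP.mul_mem a.2 b.2), mul_inv_rev, hinv _ a.2, hinv _ b.2]⟩⟩
        have hncyc : ¬ IsCyclic RP := by
          intro hcyc
          obtain ⟨c, hc⟩ := hcyc.exists_generator
          have hc2 : (c : G) ^ 2 = 1 := by
            rcases hfour _ c.2 with h | h | h | h <;> simp [h, hz1def, hz2def, conj_pow, hz2]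
          have hle : Nat.card RP ≤ 2 := by
            rw [← orderOf_eq_card_of_forall_mem_zpowers hc]
            refine Nat.le_of_dvd two_pos (orderOf_dvd_of_pow_eq_one (Subtype.ext ?_))
            simpa using hc2
          have := Fintype.ofFinite RP
          have h3 : 2 < Fintype.card RP := Fintype.two_lt_card_iff.mpr ⟨⟨1, RP.one_mem⟩, ⟨z, hzR⟩,
            ⟨z1, hz1R⟩, fun h => hz1 (congrArg Subtype.val h).symm,
            fun h => hz1ne (congrArg Subtype.val h).symm, fun h => hz10 (congrArg Subtype.val h).symm⟩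
          rw [← Nat.card_eq_fintype_card] at h3
          omega
        have hcopRP : (Nat.card RP).Coprime (Nat.card O) := by
          obtain ⟨k, hk⟩ := IsPGroup.iff_card.mp (P.2.to_le (inf_le_right : RP ≤ P))
          rw [hk]
          exact (Nat.coprime_two_left.mpr hOodd).pow_left k
        have hgen := coprime_generated_by_centralizers hncyc
          (K := O) (by rw [normalizer_eq_top]; exact le_top) hcopRP
        intro a ha
        rw [← hgen] at ha
        have hle : (⨆ v ∈ {v : G | v ∈ RP ∧ v ≠ 1}, O ⊓ centralizer {v}) ≤ centralizer ({z} : Set G) := by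
          refine iSup₂_le fun v hv b hb => ?_
          rcases hfour v hv.1 with h | h | h | h
          · exact absurd h hv.2
          · exact h ▸ hb.2
          · exact mem_cent.mpr (hall1 b hb.1 (h ▸ (mem_cent.mp hb.2).symm)).symm
          · exact mem_cent.mpr (hall2 b hb.1 (h ▸ (mem_cent.mp hb.2).symm)).symm
        exact (mem_cent.mp (hle ha)).symm
    have hz1O : ∀ a ∈ O, Commute z1 a := by
      intro a ha
      have hb : g⁻¹ * a * g ∈ O := by simpa using hnO g⁻¹ a ha
      have h' := (hgO hb (hzO _ hb)).2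
      have e1 : g * (g⁻¹ * a * g) * g⁻¹ = a := by group
      rwa [e1] at h'
    have hz2O : ∀ a ∈ O, Commute z2 a := by
      intro a ha
      have hb : g⁻¹ * a * g ∈ O := by simpa using hnO g⁻¹ a ha
      have h' := (hgO hb (hz1O _ hb)).2
      have e1 : g * (g⁻¹ * a * g) * g⁻¹ = a := by group
      rwa [e1] at h'
    have hz'O : ∀ a ∈ O, Commute z' a := by
      intro a ha
      rcases hfour z' hz'R with h | h | h | h
      · exact absurd h hz'.1
      · exact absurd h hz'.2
      · rw [h]; exact hz1O a ha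
      · rw [h]; exact hz2O a ha
    have hxinv := inverts_of_no_fixed O hOodd (fun a ha => hnO x a ha) (fun a ha => by
      rcases hx2 with h | h <;> rw [h]
      · exact Commute.one_left a
      · exact hzO a ha) hxfix
    set s := x * z' with hs'
    have hsP : s ∈ (P : Subgroup G) := Subgroup.mul_mem _ hxP hz'R.2
    have hsR : f s ∉ R := fun h => hxR ⟨by
      have := R.mul_mem h (R.inv_mem hz'R.1)
      simpa [hs', map_mul, mul_assoc] using this, hxP⟩
    have hscent : cent s = cent x := by
      have h1 : Nat.card (O ⊓ centralizer ({s} : Set G) : Subgroup G) = 1 := by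
        rw [Subgroup.card_eq_one, eq_bot_iff]
        intro a ha
        refine Subgroup.mem_bot.mpr (eq_one_of_inverted_centralized (hOord a ha.1) ?_)
        have hsa : s * a * s⁻¹ = a := by rw [← (mem_cent.mp ha.2).eq, mul_inv_cancel_right]
        calc a = s * a * s⁻¹ := hsa.symm
          _ = x * (z' * a * z'⁻¹) * x⁻¹ := by rw [hs']; group
          _ = a⁻¹ := by rw [(hz'O a ha.1).eq, mul_inv_cancel_right, hxinv a ha.1]
      rw [hx, hcents s hsP, h1, mul_one]
      -- the centraliser of `f s`
      have hs8 := hno8 s hsP hsR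
      have hle : 4 ∣ cent (f s) := by
        set H := PQ ⊓ centralizer ({f s} : Set (G ⧸ O))
        have hd : Nat.card H ∣ 2 ^ 3 := by
          rw [show (2 : ℕ) ^ 3 = Nat.card PQ by rw [hPQcard]; rfl]
          exact Subgroup.card_dvd_of_le inf_le_left
        have h3 : 3 ≤ Nat.card H := by
          have := Fintype.ofFinite H
          rw [Nat.card_eq_fintype_card]
          refine Fintype.two_lt_card_iff.mpr ⟨1, ⟨f s, ⟨s, hsP, rfl⟩, self_mem_cent _⟩,
            ⟨f z, ⟨z, hzP, rfl⟩, mem_cent.mpr ((hzc s hsP).map f)⟩,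
            fun h => hsR (by rw [← show (1 : G ⧸ O) = f s from congrArg Subtype.val h]; exact R.one_mem),
            fun h => hfz1 (congrArg Subtype.val h).symm,
            fun h => hsR (by rw [show f s = f z from congrArg Subtype.val h]; exact hfzR)⟩
        obtain ⟨i, hi, hie⟩ := (Nat.dvd_prime_pow Nat.prime_two).mp hd
        have h4 : 4 ∣ Nat.card H := by interval_cases i <;> omega
        exact h4.trans (Subgroup.card_dvd_of_le inf_le_right)
      have h3' : ¬ 3 ∣ cent (f s) := by
        intro h3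
        obtain ⟨p, hp⟩ := exists_prime_orderOf_dvd_card' (G := centralizer ({f s} : Set (G ⧸ O))) 3 h3
        apply hsR
        refine hRC _ fun r hr => ?_
        have hpo : orderOf (p : G ⧸ O) = 3 := by rw [Subgroup.orderOf_coe, hp]
        have hpc : Commute (f s) (p : G ⧸ O) := (mem_cent.mp p.2).symm
        have hsz' : Commute (f s) (f z) := ((hzc s hsP).map f).symm
        -- the set fixed by `f s` is stable under `p`
        set F := centralizer ({f s} : Set (G ⧸ O)) ⊓ R with hF
        have hpF : ∀ v ∈ F, (p : G ⧸ O) * v * (p : G ⧸ O)⁻¹ ∈ F := by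
          intro v hv
          refine ⟨mem_cent.mpr ?_, hRn.conj_mem v hv.2 _⟩
          exact ((hpc.mul_right (mem_cent.mp hv.1).symm).mul_right hpc.inv_right).symm
        have hcard : Nat.card F ∣ 4 := hR4 ▸ Subgroup.card_dvd_of_le inf_le_right
        have hfzF : f z ∈ F := ⟨mem_cent.mpr hsz'.symm, hfzR⟩
        have hp1 : (p : G ⧸ O) * f z * (p : G ⧸ O)⁻¹ ≠ f z := by
          intro h
          -- then `p` centralises `R`
          have hpR : (p : G ⧸ O) ∈ R := by
            exact hRC _ (commute_of_card_four hR4 (fun t ht => hRn.conj_mem t ht _) hpo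
              (Or.inr ⟨rfl, f z, hfzR, hfz1, h⟩))
          have h1 : orderOf (p : G ⧸ O) ∣ Nat.card R := (Subgroup.orderOf_mk _ hpR) ▸ orderOf_dvd_natCard _
          rw [hpo, hR4] at h1; norm_num at h1
        have h3F : 3 ≤ Nat.card F := by
          have := Fintype.ofFinite F
          rw [Nat.card_eq_fintype_card]
          exact Fintype.two_lt_card_iff.mpr ⟨1, ⟨f z, hfzF⟩, ⟨_, hpF _ hfzF⟩,
            fun h => hfz1 (congrArg Subtype.val h).symm,
            fun h => hfz1 (conj_eq_one_iff.mp (congrArg Subtype.val h).symm),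
            fun h => hp1 (congrArg Subtype.val h).symm⟩
        have hF4 : Nat.card F = 4 := by
          obtain ⟨m, hm⟩ := hcard
          rcases Nat.lt_or_ge m 2 with hm2 | hm2
          · interval_cases m <;> omega
          · nlinarith
        have hrF : r ∈ F := (Subgroup.eq_of_le_of_card_ge (inf_le_right : F ≤ R) (by rw [hF4, hR4])).ge hr
        exact (mem_cent.mp hrF.1).symm
      -- so it has order 4
      have hdQ : cent (f s) ∣ Nat.card G := (cent_dvd (f s)).trans (Subgroup.card_quotient_dvd_card O)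
      have hle4 : cent (f s) = 4 := by
        obtain ⟨m, hm⟩ := hle
        have hm2 : ¬ 2 ∣ m := fun ⟨k, hk⟩ => hs8 ⟨k, by rw [hm, hk]; ring⟩
        by_contra hne
        obtain ⟨p, hp, hpd⟩ := Nat.exists_prime_and_dvd (show m ≠ 1 by omega)
        have hpd' : p ∣ cent (f s) := hm ▸ dvd_mul_of_dvd_right hpd 4
        have hp5 := hs p hp (hpd'.trans hdQ)
        have := hp.two_le
        interval_cases p
        · exact hm2 hpd
        · exact h3' hpd'
        · exact absurd hp (by decide)
        · -- a five-element centralising `f s` centralises `R`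
          have : Fact (Nat.Prime 5) := ⟨by norm_num⟩
          obtain ⟨p5, hp5o⟩ := exists_prime_orderOf_dvd_card' (G := G ⧸ O) 5 (hpd'.trans (cent_dvd (f s)))
          have hqR5 : p5 ∈ R := by
            exact hRC p5 (commute_of_card_four hR4 (fun r hr => hRn.conj_mem r hr p5) hp5o (Or.inl rfl))
          have h1 : orderOf p5 ∣ Nat.card R := (Subgroup.orderOf_mk p5 hqR5) ▸ orderOf_dvd_natCard _
          rw [hp5o, hR4] at h1
          norm_num at h1
      exact hle4
    obtain ⟨c, hc⟩ := isConj_iff.mp (hG.isConj hscent)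
    have hord : s ^ 2 = 1 ↔ x ^ 2 = 1 := by
      rw [← hc, conj_pow, conj_eq_one_iff]
    have hs2 : s ^ 2 = x ^ 2 * z := by
      have hz'sq : z' ^ 2 = 1 := by
        rcases hfour z' hz'R with h | h | h | h <;> simp [h, hz1def, hz2def, conj_pow, hz2]
      have hz'inv : z'⁻¹ = z' := inv_eq_of_mul_eq_one_right (by rw [← pow_two, hz'sq])
      calc s ^ 2 = x * (z' * x * z') := by rw [hs', pow_two]; group
        _ = x * (z' * x * z'⁻¹) := by rw [hz'inv]
        _ = x ^ 2 * z := by rw [hconj', pow_two]; group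
    rw [hs2] at hord
    rcases hx2 with h | h
    · rw [h, one_mul] at hord
      exact hz1 (hord.mpr rfl)
    · rw [h, ← pow_two, hz2] at hord
      exact hz1 (hord.mp rfl)

end CfsgLib.S3Conj
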