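import Cfsg.Agent.Lib.S3Conj.SixCore

/-!
A centraliser of order `6` forces `S₃`.
-/

set_option autoImplicit false

namespace CfsgLib.S3Conj

open Subgroup Cfsg

universe u

/-- A commuting triple cyclically permuted by a root of `1 + Y + Y²`. -/
theorem quadratic_sq_zero {R : Type*} [Ring R] {Y a a' a'' : R} (hq : 1 + Y + Y * Y = 0)
    (hY : IsUnit Y) (c1 : Y * a = a' * Y) (c2 : Y * a' = a'' * Y) (c3 : Y * a'' = a * Y)
    (h01 : Commute a a') (h02 : Commute a a'') (h12 : Commute a' a'') :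
    (a - a') * (a - a') = 0 := by
  have d1 : ∀ t, Y * (a * t) = a' * (Y * t) := fun t => by rw [← mul_assoc, c1, mul_assoc]
  have d2 : ∀ t, Y * (a' * t) = a'' * (Y * t) := fun t => by rw [← mul_assoc, c2, mul_assoc]
  have d3 : ∀ t, Y * (a'' * t) = a * (Y * t) := fun t => by rw [← mul_assoc, c3, mul_assoc]
  have o1 : ∀ t, a' * (a * t) = a * (a' * t) := fun t => by rw [← mul_assoc, ← h01.eq, mul_assoc]
  have o2 : ∀ t, a'' * (a * t) = a * (a'' * t) := fun t => by rw [← mul_assoc, ← h02.eq, mul_assoc]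
  have o3 : ∀ t, a'' * (a' * t) = a' * (a'' * t) := fun t => by rw [← mul_assoc, ← h12.eq, mul_assoc]
  have key : (a - a') * (a - a') * Y = a * (1 + Y + Y * Y) * a'' - (1 + Y + Y * Y) * a * a'' -
      a' * (a * (1 + Y + Y * Y) - (1 + Y + Y * Y) * a) := by
    simp only [mul_add, add_mul, sub_mul, mul_sub, mul_one, one_mul, mul_assoc, c1, c3, d1, d2, d3,
      o1, o2, o3, h01.eq.symm, h02.eq.symm, h12.eq.symm]
    abel
  rw [hq] at key
  simp only [zero_mul, mul_zero, sub_zero] at key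
  exact hY.mul_left_eq_zero.mp key

variable {H : Type u} [Group H] {V : Type*} [AddCommGroup V] [Module (ZMod 5) V]

/-- A fixed-point-free operator of order `3` is a root of `1 + Y + Y²`. -/
theorem quadratic_of_fpf (ρ : H →* Module.End (ZMod 5) V) {m : H} (hm : m ^ 3 = 1)
    (hf : ∀ v, ρ m v = v → v = 0) : 1 + ρ m + ρ m * ρ m = 0 := by
  refine LinearMap.ext fun v => hf _ ?_
  have h3 : ρ m * (ρ m * ρ m) = 1 := by
    rw [← map_mul, ← map_mul, show m * (m * m) = m ^ 3 by rw [pow_succ, pow_two, mul_assoc], hm,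
      map_one]
  rw [← Module.End.mul_apply]
  congr 1
  rw [mul_add, mul_add, mul_one, h3]
  abel

/-- A fixed-point-free element of order `3` centralises the abelian subgroups it normalises. -/
theorem commute_of_normalizes_abelian [Finite H] (ρ : H →* Module.End (ZMod 5) V)
    (hρ : Function.Injective ρ) (h5 : ¬ 5 ∣ Nat.card H) {y : H} (hy : y ^ 3 = 1)
    (hf : ∀ v, ρ y v = v → v = 0) (A : Subgroup H) (hA : ∀ a ∈ A, ∀ b ∈ A, Commute a b)
    (hyA : ∀ a ∈ A, y * a * y⁻¹ ∈ A) : ∀ a ∈ A, Commute y a := by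
  intro a ha
  have : Fact (Nat.Prime 5) := ⟨by norm_num⟩
  set a1 := y * a * y⁻¹ with ha1
  set a2 := y * a1 * y⁻¹ with ha2
  have h1 : a1 ∈ A := hyA a ha
  have h2 : a2 ∈ A := hyA a1 h1
  have e1 : y * a = a1 * y := by rw [ha1]; group
  have e2 : y * a1 = a2 * y := by rw [ha2]; group
  have e3 : y * a2 = a * y := by
    calc y * a2 = y ^ 3 * a * (y ^ 2)⁻¹ := by rw [ha2, ha1, pow_succ, pow_two]; group
      _ = a * (y ^ 2)⁻¹ := by rw [hy, one_mul]
      _ = a * y := by rw [inv_eq_of_mul_eq_one_right (by rw [← pow_succ, hy] : y ^ 2 * y = 1)]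
  have hsq : (ρ a - ρ a1) * (ρ a - ρ a1) = 0 := quadratic_sq_zero (quadratic_of_fpf ρ hy hf)
    (IsUnit.map ρ (Group.isUnit y))
    (by rw [← map_mul, ← map_mul, e1]) (by rw [← map_mul, ← map_mul, e2])
    (by rw [← map_mul, ← map_mul, e3])
    ((hA a ha a1 h1).map ρ) ((hA a ha a2 h2).map ρ) ((hA a1 h1 a2 h2).map ρ)
  set k := a⁻¹ * a1 with hk
  set N := ρ a⁻¹ * (ρ a1 - ρ a) with hN
  have hk1 : ρ k = 1 + N := by
    rw [hN, hk, mul_sub, ← map_mul, ← map_mul, inv_mul_cancel, map_one]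
    abel
  have hN2 : N * N = 0 := by
    have hc : Commute (ρ a1 - ρ a) (ρ a⁻¹) :=
      ((hA a1 h1 a⁻¹ (A.inv_mem ha)).map ρ).sub_left ((hA a ha a⁻¹ (A.inv_mem ha)).map ρ)
    have hz : (ρ a1 - ρ a) * (ρ a1 - ρ a) = 0 := by
      rw [← hsq, show ρ a1 - ρ a = -(ρ a - ρ a1) by abel, neg_mul_neg]
    rw [hN, mul_assoc, ← mul_assoc (ρ a1 - ρ a) (ρ a⁻¹), hc.eq, mul_assoc, hz, mul_zero, mul_zero]
  have hpow : ∀ n : ℕ, (1 + N) ^ n = 1 + n • N := by
    intro n
    induction n with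
    | zero => simp
    | succ n ih =>
      rw [pow_succ, ih, add_mul, one_mul, smul_mul_assoc, mul_add, mul_one, hN2, add_zero,
        add_smul, one_smul]
      abel
  have hm : orderOf k • N = 0 := by
    have h := hpow (orderOf k)
    rw [← hk1, ← map_pow, pow_orderOf_eq_one, map_one] at h
    exact left_eq_add.mp h
  have hm5 : ((orderOf k : ℕ) : ZMod 5) ≠ 0 := by
    rw [Ne, ZMod.natCast_eq_zero_iff]
    exact fun h => h5 (h.trans (orderOf_dvd_natCard k))
  rw [← Nat.cast_smul_eq_nsmul (ZMod 5)] at hm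
  have hN0 : N = 0 := (smul_eq_zero.mp hm).resolve_left hm5
  have hk0 : k = 1 := hρ (by rw [hk1, hN0, add_zero, map_one])
  rw [hk, inv_mul_eq_one] at hk0
  exact mul_inv_eq_iff_eq_mul.mp hk0.symm

/-- Four subgroups of order `3` cannot all act without fixed points. -/
theorem exists_fixed_of_nine (ρ : H →* Module.End (ZMod 5) V) {c y : H} (hc : c ^ 3 = 1)
    (hy : y ^ 3 = 1) (hcy : Commute c y) (hv : ∃ v : V, v ≠ 0) :
    ∃ m, (m = y ∨ m = c ∨ m = c * y ∨ m = c * (y * y)) ∧ ∃ v, ρ m v = v ∧ v ≠ 0 := by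
  by_contra hno
  push Not at hno
  obtain ⟨v, hv⟩ := hv
  have hy2 : (y * y) ^ 3 = 1 := by rw [← pow_two, ← pow_mul, pow_mul', hy, one_pow]
  have q1 := quadratic_of_fpf ρ hy fun w hw => hno y (Or.inl rfl) w hw
  have q2 := quadratic_of_fpf ρ hc fun w hw => hno c (Or.inr (Or.inl rfl)) w hw
  have q3 := quadratic_of_fpf ρ (by rw [hcy.mul_pow, hc, hy, one_mul] : (c * y) ^ 3 = 1)
    fun w hw => hno _ (Or.inr (Or.inr (Or.inl rfl))) w hw
  have q4 := quadratic_of_fpf ρ
    (by rw [(hcy.mul_right hcy).mul_pow, hc, hy2, one_mul] : (c * (y * y)) ^ 3 = 1)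
    fun w hw => hno _ (Or.inr (Or.inr (Or.inr rfl))) w hw
  have e1 : (c * y) * (c * y) = (c * c) * (y * y) := by
    calc c * y * (c * y) = c * (y * c) * y := by group
      _ = c * c * (y * y) := by rw [← hcy.eq]; group
  have e2 : (c * (y * y)) * (c * (y * y)) = (c * c) * y := by
    calc c * (y * y) * (c * (y * y)) = c * ((y * y) * c) * (y * y) := by group
      _ = c * c * (y ^ 3 * y) := by rw [← (hcy.mul_right hcy).eq, pow_succ, pow_two]; group
      _ = c * c * y := by rw [hy, one_mul]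
  rw [← map_mul, e1] at q3
  rw [← map_mul, e2] at q4
  have : Fact (Nat.Prime 5) := ⟨by norm_num⟩
  have h3 : (3 : Module.End (ZMod 5) V) = 0 := by
    have h : (3 : Module.End (ZMod 5) V) = (1 + ρ y + ρ y * ρ y) + (1 + ρ c + ρ c * ρ c) +
        (1 + ρ (c * y) + ρ ((c * c) * (y * y))) + (1 + ρ (c * (y * y)) + ρ ((c * c) * y)) -
        (1 + ρ c + ρ c * ρ c) * (1 + ρ y + ρ y * ρ y) := by
      simp only [map_mul]
      noncomm_ring
      norm_num
    rw [q1, q2, q3, q4] at h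
    simpa using h
  have h3v : (3 : ZMod 5) • v = 0 := by
    have h := LinearMap.congr_fun h3 v
    rwa [show (3 : Module.End (ZMod 5) V) = (3 : ZMod 5) • 1 by
      rw [show (3 : Module.End (ZMod 5) V) = ((3 : ℕ) : Module.End (ZMod 5) V) from (Nat.cast_ofNat).symm,
        ← nsmul_one, ← Nat.cast_smul_eq_nsmul (ZMod 5)]
      rfl] at h
  exact hv ((smul_eq_zero.mp h3v).resolve_left (by
    rw [show (3 : ZMod 5) = ((3 : ℕ) : ZMod 5) from rfl, ZMod.natCast_eq_zero_iff]
    norm_num))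

/-- An element scaling by `2` while centralising an element of order `3`. -/
theorem exists_scaler {G : Type*} [Group G] (hR : Rational G) {c a : G} (hc : orderOf c = 3)
    (ha : orderOf a = 5) (hca : Commute c a) : ∃ h, Commute h c ∧ h * a * h⁻¹ = a ^ 2 := by
  have ho : orderOf (c * a) = 15 := by
    rw [hca.orderOf_mul_eq_mul_orderOf_of_coprime (by rw [hc, ha]; decide), hc, ha]
  obtain ⟨h, hh⟩ := hR.exists_conj (c * a) (k := 7) (by rw [ho]; decide)
  have hconj : ∀ t : ℕ, h * (c ^ t * a ^ t) * h⁻¹ = c ^ (7 * t) * a ^ (7 * t) := by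
    intro t
    rw [← hca.mul_pow, ← conj_pow (i := t), hh, ← pow_mul, hca.mul_pow]
  have hc' : ∀ t, c ^ t = c ^ (t % 3) := fun t => by rw [← hc, pow_mod_orderOf]
  have ha' : ∀ t, a ^ t = a ^ (t % 5) := fun t => by rw [← ha, pow_mod_orderOf]
  refine ⟨h, ?_, ?_⟩
  · have h1 := hconj 10
    rw [hc' 10, ha' 10, hc' (7 * 10), ha' (7 * 10)] at h1
    simp only [Nat.reduceMul, Nat.reduceMod, pow_one, pow_zero, mul_one] at h1
    exact mul_inv_eq_iff_eq_mul.mp h1
  · have h1 := hconj 6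
    rw [hc' 6, ha' 6, hc' (7 * 6), ha' (7 * 6)] at h1
    simp only [Nat.reduceMul, Nat.reduceMod, pow_one, pow_zero, one_mul] at h1
    exact h1

/-- An element scaling by `2` has order divisible by `4` modulo the module. -/
theorem four_dvd_of_scales {G : Type*} [Group G] {Q : Type*} [Group Q] (f : G →* Q)
    {h a : G} (ha : orderOf a = 5) (hk : ∀ m ∈ f.ker, Commute m a) (hh : h * a * h⁻¹ = a ^ 2) :
    4 ∣ orderOf (f h) := by
  have hpow : ∀ n : ℕ, h ^ n * a * (h ^ n)⁻¹ = a ^ 2 ^ n := by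
    intro n
    induction n with
    | zero => simp
    | succ n ih =>
      calc h ^ (n + 1) * a * (h ^ (n + 1))⁻¹ = h * (h ^ n * a * (h ^ n)⁻¹) * h⁻¹ := by
            rw [pow_succ' h]; group
        _ = a ^ 2 ^ (n + 1) := by rw [ih, ← conj_pow, hh, ← pow_mul, ← pow_succ']
  set m := orderOf (f h) with hm
  have hmem : h ^ m ∈ f.ker := by rw [MonoidHom.mem_ker, map_pow, pow_orderOf_eq_one]
  have h1 := hpow m
  rw [(hk _ hmem).eq, mul_inv_cancel_right] at h1
  have h2 : 2 ^ m % 5 = 1 := by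
    have h3 : a ^ 1 = a ^ 2 ^ m := (pow_one a).trans h1
    rw [pow_eq_pow_iff_modEq, ha] at h3
    exact h3.symm
  rw [← Nat.div_add_mod m 4, pow_add, pow_mul, Nat.mul_mod, Nat.pow_mod] at h2
  norm_num at h2
  have h4 : m % 4 < 4 := Nat.mod_lt _ (by norm_num)
  refine Nat.dvd_of_mod_eq_zero ?_
  interval_cases hr : m % 4 <;> first | rfl | (norm_num at h2)

set_option maxHeartbeats 800000 in
/-- The quotient at the top `5`-chief factor. -/
theorem six_quotient {Q : Type u} [Group Q] [Finite Q] (hsolv : Group.IsSolvable Q) (hR : Rational Q)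
    (hs : Smooth (Nat.card Q)) (h5 : 5 ∣ Nat.card Q)
    (hmin : ∀ N : Subgroup Q, N.Normal → N ≠ ⊥ → ¬ 5 ∣ N.index) {X : Q} (hX : cent X ≤ 6)
    (hXo : orderOf X ∣ 6) : False := by
  classical
  have h5f : Fact (Nat.Prime 5) := ⟨by norm_num⟩
  have hne : Nontrivial Q := Finite.one_lt_card_iff_nontrivial.mp
    (lt_of_lt_of_le (by norm_num) (Nat.le_of_dvd Nat.card_pos h5))
  obtain ⟨M, hMn, -, hM0, hMmin⟩ := exists_minimal_normal (N := (⊤ : Subgroup Q)) top_ne_bot
  obtain ⟨hMc, r, hr, hMexp'⟩ := minimal_normal_elementary hM0 inferInstance hMmin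
  have hdvd : ∀ N : Subgroup Q, N.Normal → N ≠ ⊥ → 5 ∣ Nat.card N := fun N hN h0 =>
    ((Nat.Prime.dvd_mul h5f.out).mp (N.card_mul_index.symm ▸ h5)).resolve_right (hmin N hN h0)
  have hr5 : r = 5 := by
    obtain ⟨m, hm⟩ := exists_prime_orderOf_dvd_card' (G := M) 5 (hdvd M hMn hM0)
    have h1 : orderOf (m : Q) ∣ r := orderOf_dvd_of_pow_eq_one (hMexp' m m.2)
    rw [Subgroup.orderOf_coe, hm] at h1
    exact ((Nat.prime_dvd_prime_iff_eq h5f.out hr).mp h1).symm
  subst hr5
  have hcomm : ∀ a ∈ M, ∀ b ∈ M, a * b = b * a := fun a ha b hb =>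
    congrArg Subtype.val (hMc.is_comm.comm ⟨a, ha⟩ ⟨b, hb⟩)
  have hMo : ∀ a ∈ M, a ≠ 1 → orderOf a = 5 := fun a ha h => orderOf_eq_prime (hMexp' a ha) h
  have hO : pPrimeCore 5 Q = ⊥ := by
    by_contra h0
    exact absurd (Nat.eq_one_of_dvd_coprimes (card_pPrimeCore_coprime 5)
      (hdvd _ inferInstance h0) dvd_rfl) (by decide)
  set f := QuotientGroup.mk' M with hf
  have hfs : Function.Surjective f := QuotientGroup.mk'_surjective M
  have hker : f.ker = M := QuotientGroup.ker_mk' M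
  have hH5 : ¬ 5 ∣ Nat.card (Q ⧸ M) := by rw [← Subgroup.index_eq_card]; exact hmin M hMn hM0
  have hP : pCore 5 Q ≤ M := by
    intro q hq
    rw [← hker, MonoidHom.mem_ker]
    obtain ⟨k, hk⟩ := IsPGroup.iff_orderOf.mp (isPGroup_pCore (G := Q) 5) ⟨q, hq⟩
    rw [Subgroup.orderOf_mk] at hk
    have hc : (5 ^ k).Coprime (Nat.card (Q ⧸ M)) :=
      ((Nat.Prime.coprime_iff_not_dvd h5f.out).mpr hH5).pow_left k
    exact orderOf_eq_one_iff.mp (Nat.eq_one_of_dvd_coprimes hc (hk ▸ orderOf_map_dvd f q)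
      (orderOf_dvd_natCard _))
  have hCM : ∀ q : Q, (∀ a ∈ M, Commute q a) → q ∈ M := fun q hq =>
    hP (centralizer_pCore_le h5f.out hO fun a ha => ((hq a (hP ha)).eq).symm)
  have h23 : ∀ p : ℕ, p.Prime → p ∣ Nat.card (Q ⧸ M) → p = 2 ∨ p = 3 := by
    intro p hp hpd
    have h := hs p hp (hpd.trans (Subgroup.card_quotient_dvd_card M))
    have := hp.two_le
    interval_cases p
    · exact Or.inl rfl
    · exact Or.inr rfl
    · exact absurd hp (by decide)
    · exact absurd hpd hH5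
  obtain ⟨V, _, _, ρ, e, he, hρ⟩ := exists_module (p := 5) M hcomm hMexp'
  have he1 : e 1 = 0 := by
    have := he 1 1
    rw [one_mul] at this
    exact left_eq_add.mp this
  have hρM : M ≤ ρ.ker := by
    intro m hm
    rw [MonoidHom.mem_ker]
    refine LinearMap.ext fun v => ?_
    obtain ⟨w, rfl⟩ := e.surjective v
    rw [hρ, Module.End.one_apply]
    refine congrArg e (Subtype.ext ?_)
    show m * w * m⁻¹ = (w : Q)
    rw [hcomm m hm w w.2, mul_inv_cancel_right]
  set ρH : Q ⧸ M →* Module.End (ZMod 5) V := QuotientGroup.lift M ρ hρM with hρH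
  have hρHf : ∀ q, ρH (f q) = ρ q := fun q => rfl
  have hfix : ∀ (q : Q) (a : M), ρH (f q) (e a) = e a ↔ Commute q (a : Q) := by
    intro q a
    rw [hρHf, hρ]
    refine ⟨fun h => mul_inv_eq_iff_eq_mul.mp (congrArg Subtype.val (e.injective h)),
      fun h => congrArg e (Subtype.ext ?_)⟩
    show q * a * q⁻¹ = (a : Q)
    rw [h.eq, mul_inv_cancel_right]
  have hinj : Function.Injective ρH := by
    rw [← MonoidHom.ker_eq_bot_iff, eq_bot_iff]
    intro s hs'
    obtain ⟨q, rfl⟩ := hfs s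
    rw [Subgroup.mem_bot]
    refine (QuotientGroup.eq_one_iff q).mpr (hCM q fun a ha => (hfix q ⟨a, ha⟩).mp ?_)
    rw [MonoidHom.mem_ker.mp hs', Module.End.one_apply]
  obtain ⟨a0, ha0, ha01⟩ := (M.bot_or_exists_ne_one).resolve_left hM0
  have hV : ∃ v : V, v ≠ 0 := ⟨e ⟨a0, ha0⟩, fun h => ha01
    (congrArg Subtype.val (e.injective (h.trans he1.symm)))⟩
  have hkc : ∀ a ∈ M, ∀ m ∈ f.ker, Commute m a := fun a ha m hm => hcomm m (hker ▸ hm) a ha
  -- eight divides the order of the quotient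
  have h8 : 8 ∣ Nat.card (Q ⧸ M) := by
    obtain ⟨h, hh⟩ := hR.exists_conj a0 (k := 2) (by rw [hMo a0 ha0 ha01]; decide)
    obtain ⟨m, hm⟩ := four_dvd_of_scales f (hMo a0 ha0 ha01) (hkc a0 ha0) hh
    refine (hR.map hfs).eight_dvd (g := f h ^ m) ?_
    have hm0 : m ≠ 0 := fun h0 => (orderOf_pos (f h)).ne' (by rw [hm, h0, mul_zero])
    rw [orderOf_pow' _ hm0, hm, Nat.gcd_eq_right (dvd_mul_left _ _),
      Nat.mul_div_cancel _ (Nat.pos_of_ne_zero hm0)]
  -- the element acts without fixed points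
  have hX1 : X ≠ 1 := by
    intro h
    have htop : centralizer ({X} : Set Q) = ⊤ := by
      rw [eq_top_iff, h]; exact fun a _ => mem_cent.mpr (Commute.one_right a)
    rw [cent, htop, Subgroup.card_top] at hX
    have := Subgroup.card_quotient_dvd_card M
    have := Nat.le_of_dvd Nat.card_pos (h8.trans this)
    omega
  have hXfix : ∀ a ∈ M, Commute X a → a = 1 := by
    intro a ha hc
    by_contra h1
    have ho := hMo a ha h1
    have hcop : (orderOf X).Coprime (orderOf a) := by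
      rw [ho]
      exact Nat.Coprime.coprime_dvd_left hXo (by decide)
    have h := orderOf_dvd_natCard (G := centralizer ({X} : Set Q))
      ⟨X * a, mem_cent.mpr ((Commute.refl X).mul_left hc.symm)⟩
    rw [Subgroup.orderOf_mk, hc.orderOf_mul_eq_mul_orderOf_of_coprime hcop, ho] at h
    have h2 : 2 ≤ orderOf X := by
      have := orderOf_pos X
      have : orderOf X ≠ 1 := fun h' => hX1 (orderOf_eq_one_iff.mp h')
      omega
    have := Nat.le_of_dvd (cent_pos X) h
    omega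
  have hfX : cent (f X) ≤ 6 := (cent_map_le hfs X).trans hX
  have hfXo : orderOf (f X) = orderOf X := by
    refine Nat.dvd_antisymm (orderOf_map_dvd f X) ?_
    have hmem : X ^ orderOf (f X) ∈ M := (QuotientGroup.eq_one_iff _).mp (show f (X ^ orderOf (f X)) = 1 by
      rw [map_pow, pow_orderOf_eq_one])
    exact orderOf_dvd_of_pow_eq_one (hXfix _ hmem ((Commute.refl X).pow_right _))
  -- not an involution
  have hX2 : orderOf X ≠ 2 := by
    intro h2
    have hcard : Odd (Nat.card M) := by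
      have hp : IsPGroup 5 M := fun x => ⟨1, Subtype.ext (by simpa using hMexp' x x.2)⟩
      obtain ⟨k, hk⟩ := IsPGroup.iff_card.mp hp
      rw [hk]
      exact Odd.pow (by decide)
    have hinv := inverts_of_no_fixed M hcard (t := X) (fun a ha => hMn.conj_mem a ha X)
      (fun a _ => by rw [← h2, pow_orderOf_eq_one]; exact Commute.one_left a) hXfix
    have hcen : centralizer ({f X} : Set (Q ⧸ M)) = ⊤ := by
      rw [eq_top_iff]
      intro s _
      obtain ⟨q, rfl⟩ := hfs s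
      rw [mem_cent]
      refine mul_inv_eq_iff_eq_mul.mp ?_
      rw [← map_mul, ← map_inv, ← map_mul]
      apply hinj
      rw [hρHf, hρHf]
      refine LinearMap.ext fun v => ?_
      obtain ⟨w, rfl⟩ := e.surjective v
      rw [hρ, hρ]
      refine congrArg e (Subtype.ext ?_)
      show q * X * q⁻¹ * w * (q * X * q⁻¹)⁻¹ = X * w * X⁻¹
      have h' := hinv (q⁻¹ * w * q) (by simpa using hMn.conj_mem w w.2 q⁻¹)
      calc q * X * q⁻¹ * w * (q * X * q⁻¹)⁻¹ = q * (X * (q⁻¹ * w * q) * X⁻¹) * q⁻¹ := by group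
        _ = (w : Q)⁻¹ := by rw [h']; group
        _ = X * w * X⁻¹ := (hinv w w.2).symm
    rw [cent, hcen, Subgroup.card_top] at hfX
    have := Nat.le_of_dvd Nat.card_pos h8
    omega
  have ho : orderOf X = 3 ∨ orderOf X = 6 := by
    have h := Nat.le_of_dvd (by norm_num) hXo
    have h1 : orderOf X ≠ 1 := fun h' => hX1 (orderOf_eq_one_iff.mp h')
    have hp := orderOf_pos X
    interval_cases hn : orderOf X <;> omega
  obtain ⟨hYo, hY4, -, -⟩ := six_parts hX ho
  set Y := X ^ 4 with hY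
  have hYfix : ∀ a ∈ M, Commute Y a → a = 1 := by
    intro a ha hc
    by_contra h1
    obtain ⟨h, hhY, hha⟩ := exists_scaler hR hYo (hMo a ha h1) hc
    have h4 := four_dvd_of_scales f (hMo a ha h1) (hkc a ha) hha
    refine hY4 ((h4.trans (orderOf_map_dvd f h)).trans ?_)
    have := orderOf_dvd_natCard (G := centralizer ({Y} : Set Q)) ⟨h, mem_cent.mpr hhY⟩
    rwa [Subgroup.orderOf_mk] at this
  have hyfpf : ∀ v, ρH (f X ^ 4) v = v → v = 0 := by
    intro v hv
    obtain ⟨a, rfl⟩ := e.surjective v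
    rw [← map_pow, ← hY, hfix] at hv
    rw [show a = 1 from Subtype.ext (hYfix a a.2 hv), he1]
  refine six_core inferInstance (hR.map hfs) h23 h8 hfX (by rw [hfXo]; exact ho)
    (fun A hA hyA => commute_of_normalizes_abelian ρH hinj hH5 ?_ hyfpf A hA hyA) ?_
  · rw [← map_pow, ← hY, ← map_pow, ← hYo, pow_orderOf_eq_one, map_one]
  intro c hc hcy hcn
  have hc3 : c ^ 3 = 1 := hc ▸ pow_orderOf_eq_one c
  have hy3 : (f X ^ 4) ^ 3 = 1 := by
    rw [← map_pow, ← hY, ← map_pow, ← hYo, pow_orderOf_eq_one, map_one]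
  obtain ⟨m, hm, v, hmv, hv0⟩ := exists_fixed_of_nine ρH hc3 hy3 hcy hV
  have hm1 : m ^ 3 = 1 ∧ m ≠ 1 := by
    rcases hm with rfl | rfl | rfl | rfl
    · exact absurd (hyfpf v hmv) hv0
    · exact ⟨hc3, fun h => hcn (h ▸ one_mem _)⟩
    · refine ⟨by rw [hcy.mul_pow, hc3, hy3, one_mul], fun h => hcn ?_⟩
      rw [eq_inv_of_mul_eq_one_left h]
      exact inv_mem (mem_zpowers _)
    · refine ⟨?_, fun h => hcn ?_⟩
      · rw [(hcy.mul_right hcy).mul_pow, hc3, one_mul, ← pow_two, ← pow_mul, pow_mul', hy3, one_pow]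
      · rw [eq_inv_of_mul_eq_one_left h]
        exact inv_mem (mul_mem (mem_zpowers _) (mem_zpowers _))
  obtain ⟨a, rfl⟩ := e.surjective v
  have ha1 : (a : Q) ≠ 1 := fun h => hv0 (by rw [show a = 1 from Subtype.ext h, he1])
  have hao := hMo _ a.2 ha1
  obtain ⟨m0, rfl⟩ := hfs m
  have hmem : m0 ^ 3 ∈ M := (QuotientGroup.eq_one_iff _).mp (show f (m0 ^ 3) = 1 by rw [map_pow, hm1.1])
  have h15 : m0 ^ 15 = 1 := by rw [show 15 = 3 * 5 from rfl, pow_mul]; exact hMexp' _ hmem
  set E := m0 ^ 10 with hE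
  have hfE : f E = f m0 := by
    rw [hE, map_pow, show 10 = 3 * 3 + 1 from rfl, pow_succ, pow_mul, hm1.1, one_pow, one_mul]
  have hE3 : orderOf E = 3 := by
    have : Fact (Nat.Prime 3) := ⟨Nat.prime_three⟩
    refine orderOf_eq_prime (by rw [hE, ← pow_mul, show 10 * 3 = 15 * 2 from rfl, pow_mul, h15, one_pow])
      fun h => hm1.2 (by rw [← hfE, h, map_one])
  have hEa : Commute E (a : Q) := ((hfix m0 a).mp hmv).pow_left 10
  obtain ⟨h, hhE, hha⟩ := exists_scaler hR hE3 hao hEa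
  obtain ⟨n, hn⟩ := four_dvd_of_scales f hao (hkc _ a.2) hha
  have hn0 : n ≠ 0 := fun h0 => (orderOf_pos (f h)).ne' (by rw [hn, h0, mul_zero])
  refine ⟨f m0, f h ^ n, ?_, ?_, ?_⟩
  · have : Fact (Nat.Prime 3) := ⟨Nat.prime_three⟩
    exact orderOf_eq_prime hm1.1 hm1.2
  · rw [orderOf_pow' _ hn0, hn, Nat.gcd_eq_right (dvd_mul_left _ _),
      Nat.mul_div_cancel _ (Nat.pos_of_ne_zero hn0)]
  · rw [← hfE]
    exact ((hhE.map f).symm).pow_right n

/-- A centraliser of order `6` forces `S₃`. -/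
theorem iso_of_cent_six {G : Type u} [Group G] [Finite G] [Nontrivial G]
    (hsolv : Group.IsSolvable G) (hG : DCS G)
    (hs : Smooth (Nat.card G)) (h2 : ∀ g : G, cent g ≠ 2) (h3 : ∀ g : G, cent g ≠ 3)
    (h4 : ∀ g : G, cent g ≠ 4) {x : G} (hx : cent x = 6) : Nonempty (G ≃* Equiv.Perm (Fin 3)) := by
  classical
  have hn2 : 2 ∣ Nat.card G := (by norm_num : 2 ∣ 6).trans (hx ▸ cent_dvd x)
  by_cases hn4 : 4 ∣ Nat.card G
  swap
  · exact iso_of_four_not_dvd hG hs hn2 hn4
  exfalso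
  -- five divides the order
  have h5 : 5 ∣ Nat.card G := by
    by_contra h5
    set K := Nat.card G + 9 with hK
    set E : Finset ℕ := {2 ^ 0 * 3 ^ 0 * 5 ^ 0, 2 ^ 1 * 3 ^ 0 * 5 ^ 0, 2 ^ 0 * 3 ^ 1 * 5 ^ 0,
      2 ^ 2 * 3 ^ 0 * 5 ^ 0} with hE
    have hD : cents G ⊆ box K K 0 := by
      intro d hd
      obtain ⟨g, rfl⟩ := mem_cents.mp hd
      have hle : ∀ p, (cent g).factorization p ≤ K := fun p => by
        have h1 := Nat.factorization_lt p (cent_pos g).ne'
        have h2 := Nat.le_of_dvd Nat.card_pos (cent_dvd g)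
        omega
      refine smooth_dvd_box Nat.card_pos.ne' hs (cent_dvd g) (hle 2) (hle 3) ?_
      rw [Nat.factorization_eq_zero_of_not_dvd fun h => h5 (h.trans (cent_dvd g))]
    have hEbox : E ⊆ box K K 0 := by
      intro d hd
      simp only [hE, Finset.mem_insert, Finset.mem_singleton] at hd
      rcases hd with h | h | h | h <;> rw [h] <;> exact mem_box (by omega) (by omega) (by omega)
    have hdisj : Disjoint (cents G) E := by
      rw [Finset.disjoint_left]
      intro d hd hde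
      obtain ⟨g, rfl⟩ := mem_cents.mp hd
      have h1 := cent_ne_one g
      have := h2 g
      have := h3 g
      have := h4 g
      simp only [hE, Finset.mem_insert, Finset.mem_singleton] at hde
      norm_num at hde
      omega
    have hle := sum_inv_le hD hEbox hdisj
    rw [sum_inv_cents hG] at hle
    have hEval : (∑ d ∈ E, (1 : ℚ) / d) = 1 + 1/2 + 1/3 + 1/4 := by
      rw [hE]
      norm_num [Finset.sum_insert]
    rw [hEval] at hle
    have hg5 : geo 5 0 = 1 := by simp [geo]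
    have hg : geo 2 K * geo 3 K * geo 5 0 ≤ (2 : ℚ) * (3 / 2) := by
      rw [hg5, mul_one]
      exact mul_le_mul ((geo_le (le_refl 2) _).trans_eq (by norm_num))
        ((geo_le (by norm_num) _).trans_eq (by norm_num)) (geo_nonneg _ _) (by norm_num)
    norm_num at hle hg
    linarith
  -- the order of `x`
  have hxd : orderOf x ∣ 6 := hx ▸ orderOf_dvd_cent x
  -- the top chief factor of order divisible by five
  have hfin : Finite (Subgroup G) := inferInstance
  obtain ⟨K, hK, hKmax⟩ := ({N : Subgroup G | N.Normal ∧ 5 ∣ N.index}).toFinite.exists_maximalFor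
    (fun N : Subgroup G => Nat.card N) _ ⟨⊥, inferInstance, by rw [Subgroup.index_bot]; exact h5⟩
  obtain ⟨hKn, hK5⟩ := hK
  have hfs : Function.Surjective (QuotientGroup.mk' K) := QuotientGroup.mk'_surjective K
  refine six_quotient (Q := G ⧸ K) inferInstance (hG.rational.map hfs)
    (fun p hp hpd => hs p hp (hpd.trans (Subgroup.card_quotient_dvd_card K)))
    (by rwa [← Subgroup.index_eq_card]) (fun N hN hN0 hN5 => ?_) (X := QuotientGroup.mk' K x)
    (hx ▸ cent_map_le hfs x) ((orderOf_map_dvd _ x).trans hxd)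
  set L := N.comap (QuotientGroup.mk' K) with hL
  have hKL : K ≤ L := by
    intro a ha
    rw [hL, Subgroup.mem_comap, show QuotientGroup.mk' K a = 1 from (QuotientGroup.eq_one_iff a).mpr ha]
    exact one_mem N
  have hle := hKmax (j := L) ⟨hN.comap _, by rwa [hL, Subgroup.index_comap_of_surjective _ hfs]⟩
    (Nat.le_of_dvd Nat.card_pos (Subgroup.card_dvd_of_le hKL))
  apply hN0
  have hKeq : K = L := Subgroup.eq_of_le_of_card_ge hKL hle
  rw [eq_bot_iff]
  intro s hs'
  obtain ⟨a, rfl⟩ := hfs s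
  rw [Subgroup.mem_bot]
  exact (QuotientGroup.eq_one_iff a).mpr (hKeq ▸ (Subgroup.mem_comap.mpr hs' : a ∈ L))

end CfsgLib.S3Conj
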