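import Cfsg.Agent.Lib.S3Conj.Basic

/-!
`2`-groups with an element whose centraliser has order `4`.
-/

set_option autoImplicit false

namespace CfsgLib.S3Conj

open Subgroup

universe u

variable {P : Type u} [Group P] [Finite P]

omit [Finite P] in
theorem mem_center_of_commute_index_two {M : Subgroup P} (hM : M.index = 2)
    (hcomm : ∀ x ∈ M, ∀ y ∈ M, x * y = y * x) {g z : P} (hg : g ∉ M) (hz : z ∈ M)
    (hgz : Commute g z) : z ∈ center P := by
  rw [mem_center_iff]
  intro y
  by_cases hy : y ∈ M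
  · exact hcomm y hy z hz
  · have h1 : g⁻¹ * y ∈ M := (mul_mem_iff_of_index_two hM).mpr (by simp [inv_mem_iff, hg, hy])
    calc y * z = g * ((g⁻¹ * y) * z) := by group
      _ = (g * z) * (g⁻¹ * y) := by rw [hcomm _ h1 z hz]; group
      _ = z * y := by rw [hgz.eq]; group

/-- A `2`-group of order at least `8` with an element whose centraliser has order `4` has a cyclic
subgroup of index `2`, and its centre has order `2`. -/
theorem cyclic_index_two (hP : IsPGroup 2 P) {x : P} (hx : cent x = 4) (h8 : 8 ≤ Nat.card P) :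
    Nat.card (center P) = 2 ∧ ∃ c : P, (zpowers c).index = 2 := by
  induction hn : Nat.card P using Nat.strong_induction_on generalizing P with
  | h n ih =>
  subst hn
  have : Fact (Nat.Prime 2) := ⟨Nat.prime_two⟩
  have : Nontrivial P := Finite.one_lt_card_iff_nontrivial.mp (by omega)
  have hxc : x ∉ center P := by
    intro hxc
    have : centralizer ({x} : Set P) = ⊤ := by
      rw [eq_top_iff]
      exact fun y _ => mem_cent.mpr (mem_center_iff.mp hxc y)
    rw [cent, this, Subgroup.card_top] at hx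
    omega
  have hZle : center P ≤ centralizer ({x} : Set P) := fun z hz =>
    mem_cent.mpr (mem_center_iff.mp hz x).symm
  have hZne : center P ≠ ⊥ := (Subgroup.nontrivial_iff_ne_bot _).mp hP.center_nontrivial
  have hZ : Nat.card (center P) = 2 := by
    have hdvd := Subgroup.card_dvd_of_le hZle
    have hlt : center P < centralizer ({x} : Set P) :=
      lt_of_le_of_ne hZle fun h => hxc (h ▸ self_mem_cent x)
    have h2 : Nat.card (center P) < cent x := Set.Finite.card_lt_card (Set.toFinite _) hlt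
    have h1 : 1 < Nat.card (center P) := (Subgroup.one_lt_card_iff_ne_bot _).mpr hZne
    change Nat.card (center P) ∣ cent x at hdvd
    rw [hx] at hdvd h2
    interval_cases h : Nat.card (center P) <;> omega
  refine ⟨hZ, ?_⟩
  obtain ⟨k, hk⟩ := IsPGroup.iff_card.mp hP
  have hk3 : 3 ≤ k := by
    by_contra hk3
    push Not at hk3
    have := Nat.pow_le_pow_right (two_pos : 0 < 2) (show k ≤ 2 by omega)
    omega
  by_cases hk4 : k = 3
  · subst hk4
    by_cases hex : ∃ y : P, orderOf y = 4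
    · obtain ⟨y, hy⟩ := hex
      refine ⟨y, ?_⟩
      have h1 := (zpowers y).card_mul_index
      rw [Nat.card_zpowers, hy, hk] at h1
      norm_num at h1
      omega
    · exfalso
      have hsq : ∀ y : P, y * y = 1 := by
        intro y
        have hd : orderOf y ∣ 2 ^ 3 := hk ▸ orderOf_dvd_natCard y
        obtain ⟨j, hj, hjo⟩ := (Nat.dvd_prime_pow Nat.prime_two).mp hd
        interval_cases j
        · rw [pow_zero, orderOf_eq_one_iff] at hjo; rw [hjo, one_mul]
        · rw [← pow_two, ← pow_one 2, ← hjo, pow_orderOf_eq_one]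
        · exact absurd ⟨y, hjo⟩ hex
        · exfalso
          refine hex ⟨y ^ 2, ?_⟩
          rw [orderOf_pow' y two_ne_zero, hjo]
          rfl
      apply hxc
      rw [mem_center_iff]
      intro y
      have hinv : ∀ z : P, z⁻¹ = z := fun z => inv_eq_of_mul_eq_one_right (hsq z)
      have := hinv (y * x)
      rwa [mul_inv_rev, hinv, hinv, eq_comm] at this
  -- the step
  have h16 : 16 ≤ Nat.card P := by
    rw [hk]
    exact le_trans (by norm_num) (Nat.pow_le_pow_right two_pos (show 4 ≤ k by omega))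
  set Z := center P
  set f := QuotientGroup.mk' Z with hf
  have hfs : Function.Surjective f := QuotientGroup.mk'_surjective Z
  have hcardQ : Nat.card (P ⧸ Z) * 2 = Nat.card P := by
    rw [← hZ, ← Subgroup.index_eq_card, Z.index_mul_card]
  have hQp : IsPGroup 2 (P ⧸ Z) := hP.to_quotient Z
  have hQ4 : cent (f x) = 4 := by
    have hle := cent_map_le hfs x
    rw [hx] at hle
    have hne : f x ∉ center (P ⧸ Z) := by
      intro h
      have : centralizer ({f x} : Set (P ⧸ Z)) = ⊤ := by
        rw [eq_top_iff]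
        exact fun y _ => mem_cent.mpr (mem_center_iff.mp h y)
      rw [cent, this, Subgroup.card_top] at hle
      omega
    have : Nontrivial (P ⧸ Z) := Finite.one_lt_card_iff_nontrivial.mp (by omega)
    have hlt : center (P ⧸ Z) < centralizer ({f x} : Set (P ⧸ Z)) :=
      lt_of_le_of_ne (fun z hz => mem_cent.mpr (mem_center_iff.mp hz (f x)).symm)
        fun h => hne (h ▸ self_mem_cent (f x))
    have h2 : Nat.card (center (P ⧸ Z)) < cent (f x) := Set.Finite.card_lt_card (Set.toFinite _) hlt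
    have hdvd : Nat.card (center (P ⧸ Z)) ∣ cent (f x) := Subgroup.card_dvd_of_le hlt.le
    have h1 : 1 < Nat.card (center (P ⧸ Z)) :=
      Finite.one_lt_card_iff_nontrivial.mpr hQp.center_nontrivial
    obtain ⟨m, hm⟩ := hdvd
    rcases Nat.lt_or_ge m 2 with hm2 | hm2
    · interval_cases m <;> omega
    · nlinarith
  obtain ⟨-, cb, hcb⟩ := ih (Nat.card (P ⧸ Z)) (by omega) (hQp) hQ4 (by omega) rfl
  obtain ⟨c, rfl⟩ := hfs cb
  set M := (zpowers (f c)).comap f with hM
  have hMidx : M.index = 2 := by rw [hM, Subgroup.index_comap_of_surjective _ hfs, hcb]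
  have hMmem : ∀ m ∈ M, ∃ i : ℤ, ∃ z ∈ Z, m = c ^ i * z := by
    intro m hm
    obtain ⟨i, hi⟩ := Subgroup.mem_zpowers_iff.mp (Subgroup.mem_comap.mp hm)
    refine ⟨i, (c ^ i)⁻¹ * m, ?_, by group⟩
    rw [← map_zpow] at hi
    exact QuotientGroup.eq.mp hi
  have hMcomm : ∀ a ∈ M, ∀ b ∈ M, a * b = b * a := by
    intro a ha b hb
    obtain ⟨i, z, hz, rfl⟩ := hMmem a ha
    obtain ⟨j, w, hw, rfl⟩ := hMmem b hb
    have hzc : ∀ v ∈ Z, ∀ y : P, Commute v y := fun v hv y => (mem_center_iff.mp hv y).symm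
    exact (((Commute.refl c).zpow_zpow i j).mul_right ((hzc w hw _).symm)).mul_left (hzc z hz _)
  have hcM : c ∈ M := Subgroup.mem_comap.mpr (mem_zpowers (f c))
  refine ⟨c, ?_⟩
  suffices h : zpowers c = M by rw [h, hMidx]
  refine le_antisymm (zpowers_le.mpr hcM) ?_
  have hZc : Z ≤ zpowers c := by
    by_contra hZc
    have hdisj : ∀ z ∈ Z, z ∈ zpowers c → z = 1 := by
      intro z hz hzc
      by_contra hz1
      apply hZc
      have : Z = zpowers z := (Subgroup.eq_of_le_of_card_ge (zpowers_le.mpr hz) (by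
        rw [hZ, Nat.card_zpowers]
        exact (Nat.two_le_iff _).mpr ⟨(orderOf_pos z).ne', fun h => hz1 (orderOf_eq_one_iff.mp h)⟩)).symm
      rw [this]
      exact zpowers_le.mpr hzc
    obtain ⟨j, hj⟩ := IsPGroup.iff_orderOf.mp hP c
    have hfc : Nat.card (zpowers (f c)) * 2 = Nat.card (P ⧸ Z) := by
      rw [← hcb, (zpowers (f c)).card_mul_index]
    have h4c : 4 ≤ orderOf c := by
      have h1 : Nat.card (zpowers (f c)) ≤ orderOf c := by
        rw [Nat.card_zpowers]
        exact Nat.le_of_dvd (orderOf_pos c) (orderOf_map_dvd f c)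
      omega
    have hj2 : 2 ≤ j := by
      by_contra hj2
      have := Nat.pow_le_pow_right (two_pos : 0 < 2) (show j ≤ 1 by omega)
      omega
    set t := c ^ 2 ^ (j - 1) with ht
    have htne : t ≠ 1 := by
      intro h1
      have := orderOf_dvd_of_pow_eq_one h1
      rw [hj] at this
      have := (Nat.pow_dvd_pow_iff_le_right (le_refl 2)).mp this
      omega
    have ht2 : t ^ 2 = 1 := by
      rw [ht, ← pow_mul, ← pow_succ, show j - 1 + 1 = j by omega, ← hj, pow_orderOf_eq_one]
    obtain ⟨g, hg⟩ : ∃ g, g ∉ M := by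
      by_contra! h
      rw [(Subgroup.eq_top_iff' M).mpr h, Subgroup.index_top] at hMidx
      omega
    have hnM := Subgroup.normal_of_index_eq_two hMidx
    obtain ⟨i, z, hz, hgc⟩ := hMmem _ (hnM.conj_mem c hcM g)
    have hgt : g * t * g⁻¹ = t ^ i := by
      have hzc : Commute (c ^ i) z := (mem_center_iff.mp hz _)
      have hz2 : z ^ 2 ^ (j - 1) = 1 := by
        have h2 : z ^ 2 = 1 := by
          rw [← hZ]
          exact congrArg Subtype.val (pow_card_eq_one' (x := (⟨z, hz⟩ : Z)))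
        obtain ⟨v, hv⟩ : 2 ∣ 2 ^ (j - 1) := dvd_pow_self 2 (by omega)
        rw [hv, pow_mul, h2, one_pow]
      rw [ht, ← conj_pow, hgc, hzc.mul_pow, hz2, mul_one, ← zpow_natCast c (2 ^ (j - 1)),
        ← zpow_natCast (c ^ i), ← zpow_mul, ← zpow_mul, mul_comm]
    have hti : t ^ i = t := by
      rcases Int.emod_two_eq_zero_or_one i with h | h
      · exfalso
        obtain ⟨v, rfl⟩ := Int.dvd_of_emod_eq_zero h
        rw [zpow_mul, zpow_two, ← pow_two, ht2, one_zpow] at hgt
        exact htne (conj_eq_one_iff.mp hgt)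
      · rw [← Int.emod_add_mul_ediv i 2, h, zpow_add, zpow_one, zpow_mul, zpow_two, ← pow_two, ht2,
          one_zpow, mul_one]
    rw [hti] at hgt
    have htZ : t ∈ Z := mem_center_of_commute_index_two hMidx hMcomm hg
      (M.pow_mem hcM _) (mul_inv_eq_iff_eq_mul.mp hgt)
    exact htne (hdisj t htZ (pow_mem (mem_zpowers c) _))
  intro m hm
  obtain ⟨i, z, hz, rfl⟩ := hMmem m hm
  exact mul_mem (zpow_mem (mem_zpowers c) i) (hZc hz)

set_option maxHeartbeats 1000000 in
/-- In a rational group, a Sylow `2`-subgroup with an element whose centraliser in it has order `4`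
has order at most `8`. -/
theorem Rational.sylow_two_le {G : Type u} [Group G] [Finite G] (hG : Rational G) (P : Sylow 2 G)
    {x : (P : Subgroup G)} (hx : cent x = 4) : Nat.card (P : Subgroup G) ≤ 8 := by
  have : Fact (Nat.Prime 2) := ⟨Nat.prime_two⟩
  by_contra hlt
  push Not at hlt
  obtain ⟨hZ, c, hcidx⟩ := cyclic_index_two P.2 hx (by omega)
  have hcomm : ∀ a ∈ zpowers c, ∀ b ∈ zpowers c, a * b = b * a := by
    intro a ha b hb
    obtain ⟨i, rfl⟩ := Subgroup.mem_zpowers_iff.mp ha
    obtain ⟨j, rfl⟩ := Subgroup.mem_zpowers_iff.mp hb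
    exact ((Commute.refl c).zpow_zpow i j).eq
  -- outside `⟨c⟩` the orders are at most 4
  have hout : ∀ y : (P : Subgroup G), y ∉ zpowers c → y ^ 4 = 1 := by
    intro y hy
    have h2 : y ^ 2 ∈ center (P : Subgroup G) := mem_center_of_commute_index_two hcidx hcomm hy
      (Subgroup.sq_mem_of_index_two hcidx y) ((Commute.refl y).pow_right 2)
    have h3 := congrArg Subtype.val (pow_card_eq_one' (x := (⟨_, h2⟩ : center (P : Subgroup G))))
    rw [SubmonoidClass.coe_pow, hZ, ← pow_mul] at h3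
    exact h3
  have hco : 8 ≤ orderOf c := by
    have h1 := (zpowers c).card_mul_index
    rw [Nat.card_zpowers, hcidx] at h1
    obtain ⟨k, hk⟩ := IsPGroup.iff_card.mp P.2
    have hk4 : 4 ≤ k := by
      by_contra hk4
      have := Nat.pow_le_pow_right (two_pos : 0 < 2) (show k ≤ 3 by omega)
      omega
    have := Nat.pow_le_pow_right (two_pos : 0 < 2) hk4
    omega
  obtain ⟨j, hj⟩ := IsPGroup.iff_orderOf.mp P.2 c
  have hj3 : 3 ≤ j := by
    by_contra hj3
    have := Nat.pow_le_pow_right (two_pos : 0 < 2) (show j ≤ 2 by omega)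
    omega
  set a : G := ((c ^ 2 ^ (j - 3) : (P : Subgroup G)) : G) with ha
  have hao : orderOf a = 8 := by
    rw [ha, Subgroup.orderOf_coe, orderOf_pow' c (pow_ne_zero _ two_ne_zero), hj,
      Nat.gcd_eq_right (pow_dvd_pow 2 (by omega)), Nat.pow_div (by omega) two_pos,
      show j - (j - 3) = 3 by omega]
    rfl
  -- the normaliser of `⟨a⟩`
  set A := zpowers a with hA
  set N := normalizer (A : Set G) with hN
  set C := (centralizer ({a} : Set G)).subgroupOf N with hC
  have hact : ∀ h ∈ N, ∃ i : ℕ, i < 8 ∧ h * a * h⁻¹ = a ^ i := by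
    intro h hh
    have h1 : h * a * h⁻¹ ∈ A := (mem_normalizer_iff.mp hh a).mp (mem_zpowers a)
    obtain ⟨i, hi⟩ := Subgroup.mem_zpowers_iff.mp h1
    refine ⟨(i % 8).toNat, by omega, ?_⟩
    rw [← hi, ← zpow_natCast, Int.toNat_of_nonneg (Int.emod_nonneg _ (by norm_num)),
      ← zpow_mod_orderOf a i, hao]
    rfl
  have hodd : ∀ h ∈ N, ∀ i : ℕ, h * a * h⁻¹ = a ^ i → i % 2 = 1 := by
    intro h _ i hi
    have h1 : orderOf (h * a * h⁻¹) = 8 := by
      rw [← hao]; exact orderOf_injective (MulAut.conj h).toMonoidHom (MulAut.conj h).injective a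
    rw [hi, orderOf_pow, hao] at h1
    rcases Nat.mod_two_eq_zero_or_one i with h2 | h2
    · exfalso
      obtain ⟨v, rfl⟩ := Nat.dvd_of_mod_eq_zero h2
      have : 2 ∣ Nat.gcd 8 (2 * v) := Nat.dvd_gcd (by norm_num) (dvd_mul_right 2 v)
      obtain ⟨w, hw⟩ := this
      have h8 : Nat.gcd 8 (2 * v) = 1 := by
        have := Nat.div_mul_cancel (Nat.gcd_dvd_left 8 (2 * v))
        rw [h1] at this
        omega
      omega
    · exact h2
  have hsq : ∀ h : N, h ^ 2 ∈ C := by
    intro h
    obtain ⟨i, hi8, hi⟩ := hact _ h.2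
    have hio := hodd _ h.2 i hi
    rw [hC, mem_subgroupOf, mem_cent]
    refine mul_inv_eq_iff_eq_mul.mp ?_
    calc ((h ^ 2 : N) : G) * a * ((h ^ 2 : N) : G)⁻¹ = (h : G) * ((h : G) * a * (h : G)⁻¹) * (h : G)⁻¹ := by
          rw [SubmonoidClass.coe_pow, pow_two]; group
      _ = ((h : G) * a * (h : G)⁻¹) ^ i := by rw [conj_pow (i := i), hi]
      _ = a := by
        rw [hi, ← pow_mul, ← pow_mod_orderOf, hao]
        interval_cases i <;> simp_all
  have hCn : C.Normal := by
    constructor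
    intro y hy z
    rw [hC, mem_subgroupOf, mem_cent] at hy ⊢
    obtain ⟨i, -, hi⟩ := hact _ (N.inv_mem z.2)
    rw [inv_inv] at hi
    have h' : Commute (y : G) ((z : G)⁻¹ * a * (z : G)) := by rw [hi]; exact hy.pow_right i
    simpa [mul_assoc] using (Commute.map h' (MulAut.conj (z : G)).toMonoidHom)
  have hQ : IsPGroup 2 (N ⧸ C) := by
    intro q
    obtain ⟨y, rfl⟩ := QuotientGroup.mk_surjective q
    exact ⟨1, by rw [pow_one, ← QuotientGroup.mk_pow, QuotientGroup.eq_one_iff]; exact hsq y⟩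
  obtain ⟨T⟩ := (inferInstance : Nonempty (Sylow 2 N))
  have hTC : (T : Subgroup N) ⊔ C = ⊤ := by
    obtain ⟨k, hk⟩ := IsPGroup.iff_card.mp hQ
    rw [← Subgroup.index_eq_card] at hk
    rw [← Subgroup.index_eq_one]
    refine Nat.eq_one_of_dvd_coprimes ?_ (Subgroup.index_dvd_of_le le_sup_right)
      (Subgroup.index_dvd_of_le le_sup_left)
    rw [hk]
    exact Nat.Coprime.pow_left k
      ((Nat.Prime.coprime_iff_not_dvd Nat.prime_two).mpr T.not_dvd_index)
  have haN : a ∈ N := Subgroup.le_normalizer (mem_zpowers a)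
  have haT : (⟨a, haN⟩ : N) ∈ (T : Subgroup N) := by
    have hAn : (zpowers (⟨a, haN⟩ : N)).Normal := by
      constructor
      intro y hy z
      obtain ⟨i, rfl⟩ := Subgroup.mem_zpowers_iff.mp hy
      obtain ⟨s, -, hs⟩ := hact _ z.2
      refine ⟨(s : ℤ) * i, Subtype.ext ?_⟩
      simp only [Subgroup.coe_zpow, Subgroup.coe_mul, Subgroup.coe_inv]
      rw [zpow_mul, zpow_natCast, ← hs, conj_zpow]
    have hAp : IsPGroup 2 (zpowers (⟨a, haN⟩ : N)) := IsPGroup.of_card (n := 3) (by
      rw [Nat.card_zpowers, Subgroup.orderOf_mk, hao]; rfl)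
    exact (hAp.le_sylow_of_normal T) (mem_zpowers _)
  -- carry `T` into `P`
  have hTp : IsPGroup 2 ((T : Subgroup N).map N.subtype) := T.2.map _
  obtain ⟨Q, hQ'⟩ := hTp.exists_le_sylow
  obtain ⟨d, hd⟩ := MulAction.exists_smul_eq G Q P
  have hin : ∀ y ∈ (Q : Subgroup G), d * y * d⁻¹ ∈ (P : Subgroup G) := by
    intro y hy
    rw [← hd, Sylow.coe_subgroup_smul]
    exact ⟨y, hy, rfl⟩
  have haP : d * a * d⁻¹ ∈ (P : Subgroup G) := hin a (hQ' ⟨⟨a, haN⟩, haT, rfl⟩)
  set b : (P : Subgroup G) := ⟨_, haP⟩ with hb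
  have hbo : orderOf b = 8 := by
    rw [← Subgroup.orderOf_coe, ← hao]
    exact orderOf_injective (MulAut.conj d).toMonoidHom (MulAut.conj d).injective a
  have hbc : b ∈ zpowers c := by
    by_contra h
    have := Nat.le_of_dvd (by norm_num) (orderOf_dvd_of_pow_eq_one (hout b h))
    omega
  -- a realisation of every automiser element inside `P`
  have hreal : ∀ i : ℕ, i.Coprime 8 → ∃ s : (P : Subgroup G), s * b * s⁻¹ = b ^ i := by
    intro i hi
    obtain ⟨h, hh⟩ := hG.exists_conj a (hao ▸ hi)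
    have hhN : h ∈ N := by
      rw [hN, mem_normalizer_iff]
      have e : A.map (MulAut.conj h).toMonoidHom = A := by
        refine Subgroup.eq_of_le_of_card_ge ?_ ?_
        · rw [hA, MonoidHom.map_zpowers, zpowers_le]
          simp only [MulEquiv.coe_toMonoidHom, MulAut.conj_apply, hh]
          exact pow_mem (mem_zpowers a) i
        · rw [Subgroup.card_map_of_injective (MulAut.conj h).injective]
      intro y
      constructor
      · intro hy; rw [← e]; exact ⟨y, hy, rfl⟩
      · intro hy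
        rw [← e] at hy
        obtain ⟨z, hz, he⟩ := hy
        simp only [MulEquiv.coe_toMonoidHom, MulAut.conj_apply, mul_left_inj, mul_right_inj] at he
        exact he ▸ hz
    obtain ⟨t, ht, w, hw, htw⟩ : ∃ t ∈ (T : Subgroup N), ∃ w ∈ C, t * w = ⟨h, hhN⟩ := by
      have h1 : (⟨h, hhN⟩ : N) ∈ (T : Subgroup N) ⊔ C := hTC ▸ mem_top _
      exact Subgroup.mem_sup_of_normal_right.mp h1
    refine ⟨⟨d * (t : G) * d⁻¹, hin _ (hQ' ⟨t, ht, rfl⟩)⟩, Subtype.ext ?_⟩
    rw [hC, mem_subgroupOf, mem_cent] at hw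
    have h2 : (t : G) * a * (t : G)⁻¹ = a ^ i := by
      rw [← hh, show h = (t : G) * (w : G) from (congrArg Subtype.val htw).symm]
      calc (t : G) * a * (t : G)⁻¹ = (t : G) * (a * (w : G)) * (w : G)⁻¹ * (t : G)⁻¹ := by group
        _ = ((t : G) * (w : G)) * a * ((t : G) * (w : G))⁻¹ := by rw [← hw.eq]; group
    simp only [hb, Subgroup.coe_mul, Subgroup.coe_inv, SubmonoidClass.coe_pow]
    rw [conj_pow, ← h2]
    group
  have hvals : ∀ s s' : (P : Subgroup G), (s ∈ zpowers c ↔ s' ∈ zpowers c) →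
      s * b * s⁻¹ = s' * b * s'⁻¹ := by
    intro s s' hss
    have h1 : s⁻¹ * s' ∈ zpowers c := (mul_mem_iff_of_index_two hcidx).mpr (by simpa using hss)
    calc s * b * s⁻¹ = s * (b * (s⁻¹ * s')) * (s⁻¹ * s')⁻¹ * s⁻¹ := by group
      _ = s' * b * s'⁻¹ := by rw [hcomm b hbc _ h1]; group
  obtain ⟨s3, h3⟩ := hreal 3 (by decide)
  obtain ⟨s5, h5⟩ := hreal 5 (by decide)
  have hne : ∀ m n : ℕ, m % 8 ≠ n % 8 → b ^ m ≠ b ^ n := fun m n hmn h => by
    rw [pow_eq_pow_iff_modEq, hbo] at h
    exact hmn h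
  by_cases hs3 : s3 ∈ zpowers c
  · refine hne 3 1 (by decide) ?_
    rw [← h3, hvals s3 1 (by simp [hs3, one_mem])]
    simp
  by_cases hs5 : s5 ∈ zpowers c
  · refine hne 5 1 (by decide) ?_
    rw [← h5, hvals s5 1 (by simp [hs5, one_mem])]
    simp
  exact hne 3 5 (by decide) (by rw [← h3, ← h5]; exact hvals s3 s5 (by simp [hs3, hs5]))

end CfsgLib.S3Conj
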