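import Cfsg.Agent.Lib.S3Conj.FiveBound
import Cfsg.Agent.Lib.S3Conj.TwoGroup

/-!
The cases of a centraliser of order `2` or `3`.
-/

set_option autoImplicit false

namespace CfsgLib.S3Conj

open Subgroup

universe u

variable {G : Type u} [Group G]

theorem mem_normalizer_zpowers [Finite G] {g h : G} {i : ℕ} (hh : h * g * h⁻¹ = g ^ i) :
    h ∈ normalizer (zpowers g : Set G) := by
  rw [mem_normalizer_iff]
  have e : (zpowers g).map (MulAut.conj h).toMonoidHom = zpowers g := by
    refine Subgroup.eq_of_le_of_card_ge ?_ ?_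
    · rw [MonoidHom.map_zpowers, zpowers_le]
      simp only [MulEquiv.coe_toMonoidHom, MulAut.conj_apply, hh]
      exact pow_mem (mem_zpowers g) i
    · rw [Subgroup.card_map_of_injective (MulAut.conj h).injective]
  intro x
  constructor
  · intro hx; rw [← e]; exact ⟨x, hx, rfl⟩
  · intro hx
    rw [← e] at hx
    obtain ⟨y, hy, he⟩ := hx
    simp only [MulEquiv.coe_toMonoidHom, MulAut.conj_apply, mul_left_inj, mul_right_inj] at he
    exact he ▸ hy

theorem centralizer_le_normalizer_zpowers (a : G) :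
    centralizer ({a} : Set G) ≤ normalizer (zpowers a : Set G) := by
  intro y hy
  rw [mem_normalizer_iff]
  intro b
  have hy' : Commute y a := mem_cent.mp hy
  constructor
  · rintro ⟨i, rfl⟩
    exact ⟨i, by simp [(hy'.zpow_right i).eq]⟩
  · rintro ⟨i, hb⟩
    refine ⟨i, ?_⟩
    have h9 : y * a ^ i * y⁻¹ = a ^ i := by simp [(hy'.zpow_right i).eq]
    exact mul_left_cancel (mul_right_cancel (h9.trans hb))

theorem centralizer_normal_in_normalizer {g : G} (L : Subgroup G)
    (hL : L ≤ normalizer (zpowers g : Set G)) :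
    ((centralizer ({g} : Set G)).subgroupOf L).Normal := by
  constructor
  intro c hc x
  rw [mem_subgroupOf, mem_cent] at hc ⊢
  obtain ⟨i, hi⟩ : ((x : G))⁻¹ * g * (x : G) ∈ zpowers g := by
    have := (mem_normalizer_iff.mp (hL (L.inv_mem x.2)) g).mp (mem_zpowers g)
    simpa using this
  have h' : Commute (c : G) ((x : G)⁻¹ * g * (x : G)) := by rw [← hi]; exact hc.zpow_right i
  simpa [mul_assoc] using (Commute.map h' (MulAut.conj (x : G)).toMonoidHom)

/-- An element of odd order centralised by a Sylow `2`-subgroup of the centraliser of a commuting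
`2`-element is trivial. -/
theorem Rational.eq_one_of_two_part [Finite G] (hG : Rational G) {a j : G} (ha : Odd (orderOf a))
    (hj : ∃ k, orderOf j = 2 ^ k) (hc : Commute a j)
    (h2 : ∀ k, 2 ^ k ∣ cent j →
      2 ^ k ∣ Nat.card (centralizer ({a} : Set G) ⊓ centralizer ({j} : Set G) : Subgroup G)) :
    a = 1 := by
  have : Fact (Nat.Prime 2) := ⟨Nat.prime_two⟩
  obtain ⟨k, hk⟩ := hj
  have hcop : (orderOf a).Coprime (orderOf j) := hk ▸ ha.coprime_two_right.pow_right k
  have hzo := hc.orderOf_mul_eq_mul_orderOf_of_coprime hcop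
  obtain ⟨e, he1, he2⟩ := Nat.chineseRemainder hcop (orderOf a - 1) 1
  obtain ⟨i, hi1, hi2⟩ := Nat.chineseRemainder hcop 1 0
  obtain ⟨l, hl1, hl2⟩ := Nat.chineseRemainder hcop 0 1
  have hecop : e.Coprime (orderOf (a * j)) := by
    rw [hzo]
    refine Nat.Coprime.mul_right ?_ ?_
    · rw [Nat.coprime_iff_gcd_eq_one, he1.gcd_eq, ← Nat.coprime_iff_gcd_eq_one, Nat.coprime_comm]
      exact (Nat.coprime_self_sub_right (orderOf_pos a)).mpr (Nat.coprime_one_right _)
    · rw [Nat.coprime_iff_gcd_eq_one, he2.gcd_eq, Nat.gcd_one_left]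
  obtain ⟨h, hh⟩ := hG.exists_conj _ hecop
  have hpow : ∀ t s1 s2 : ℕ, t ≡ s1 [MOD orderOf a] → t ≡ s2 [MOD orderOf j] →
      (a * j) ^ t = a ^ s1 * j ^ s2 := by
    intro t s1 s2 ht1 ht2
    rw [hc.mul_pow, pow_eq_pow_iff_modEq.mpr ht1, pow_eq_pow_iff_modEq.mpr ht2]
  have hconj : ∀ t : ℕ, h * (a * j) ^ t * h⁻¹ = ((a * j) ^ t) ^ e := by
    intro t
    rw [← conj_pow (i := t), hh, ← pow_mul, ← pow_mul, mul_comm]
  have hha : h * a * h⁻¹ = a ^ (orderOf a - 1) := by
    have h1 := hconj i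
    rw [hpow i 1 0 hi1 hi2, pow_one, pow_zero, mul_one] at h1
    rw [h1, pow_eq_pow_iff_modEq.mpr he1]
  have hhj : h ∈ centralizer ({j} : Set G) := by
    have h1 := hconj l
    rw [hpow l 0 1 hl1 hl2, pow_one, pow_zero, one_mul, pow_eq_pow_iff_modEq.mpr he2, pow_one] at h1
    exact mem_cent.mpr (mul_inv_eq_iff_eq_mul.mp h1)
  set L := normalizer (zpowers a : Set G) ⊓ centralizer ({j} : Set G) with hL
  have hhL : h ∈ L := ⟨mem_normalizer_zpowers hha, hhj⟩
  have hn := centralizer_normal_in_normalizer (g := a) L inf_le_left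
  set C := (centralizer ({a} : Set G)).subgroupOf L with hC
  have hainv : a ^ (orderOf a - 1) = a⁻¹ := by
    refine eq_inv_of_mul_eq_one_left ?_
    rw [← pow_succ, Nat.sub_add_cancel (orderOf_pos a), pow_orderOf_eq_one]
  rw [hainv] at hha
  have hsq : (⟨h, hhL⟩ : L) ^ 2 ∈ C := by
    rw [hC, mem_subgroupOf, mem_cent]
    refine mul_inv_eq_iff_eq_mul.mp ?_
    show (h ^ 2) * a * (h ^ 2)⁻¹ = a
    calc h ^ 2 * a * (h ^ 2)⁻¹ = h * (h * a * h⁻¹) * h⁻¹ := by rw [pow_two]; group
      _ = h * a⁻¹ * h⁻¹ := by rw [hha]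
      _ = (h * a * h⁻¹)⁻¹ := by group
      _ = a := by rw [hha, inv_inv]
  have hodd : ¬ 2 ∣ C.index := by
    intro hd
    obtain ⟨t, ht⟩ := hd
    have hD : Nat.card (centralizer ({a} : Set G) ⊓ centralizer ({j} : Set G) : Subgroup G) ∣
        Nat.card C := by
      refine dvd_of_eq (Nat.card_congr
        (⟨fun y => ⟨⟨y.1, centralizer_le_normalizer_zpowers a y.2.1, y.2.2⟩, y.2.1⟩,
        fun y => ⟨y.1.1, y.2, y.1.2.2⟩, fun y => rfl, fun y => rfl⟩ :
          (centralizer ({a} : Set G) ⊓ centralizer ({j} : Set G) : Subgroup G) ≃ C))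
    have hLj : Nat.card L ∣ cent j := Subgroup.card_dvd_of_le inf_le_right
    obtain ⟨m, hm2, hmd⟩ : ∃ m, 2 ^ m ∣ Nat.card C ∧ ¬ 2 ^ (m + 1) ∣ Nat.card C := by
      obtain ⟨m, r, hr, hmr⟩ := Nat.exists_eq_pow_mul_and_not_dvd (Nat.card_pos (α := C)).ne' 2 (by decide)
      refine ⟨m, hmr ▸ dvd_mul_right _ _, fun hd => hr ?_⟩
      rw [hmr, pow_succ] at hd
      exact (Nat.mul_dvd_mul_iff_left (pow_pos two_pos m)).mp hd
    refine hmd ((h2 (m + 1) ?_).trans hD)
    refine dvd_trans ?_ hLj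
    rw [← C.card_mul_index, ht, pow_succ]
    exact Nat.mul_dvd_mul hm2 (dvd_mul_right 2 t)
  have hhC : (⟨h, hhL⟩ : L) ∈ C := by
    by_contra hno
    apply hodd
    have ho : orderOf (QuotientGroup.mk' C ⟨h, hhL⟩) = 2 := by
      refine orderOf_eq_prime ?_ fun h0 => hno ((QuotientGroup.eq_one_iff _).mp h0)
      rw [← map_pow]; exact (QuotientGroup.eq_one_iff _).mpr hsq
    rw [Subgroup.index_eq_card]
    exact (dvd_of_eq ho.symm).trans (orderOf_dvd_natCard _)
  rw [hC, mem_subgroupOf, mem_cent] at hhC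
  rw [hhC.eq, mul_inv_cancel_right] at hha
  have h4 : orderOf a ∣ 2 := orderOf_dvd_of_pow_eq_one (by
    rw [pow_two]; nth_rw 2 [hha]; exact mul_inv_cancel a)
  rcases (Nat.dvd_prime Nat.prime_two).mp h4 with h | h
  · exact orderOf_eq_one_iff.mp h
  · exact absurd (h ▸ ha) (by decide)

theorem card_le_cent [Finite G] {S : Subgroup G} {g : G} (h : ∀ y ∈ S, Commute y g) :
    Nat.card S ∣ cent g :=
  Subgroup.card_dvd_of_le fun y hy => mem_cent.mpr (h y hy)

/-- A `p`-element whose centraliser order is not divisible by `p²` forces small Sylow subgroups. -/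
theorem not_sq_dvd [Finite G] {p : ℕ} [hp : Fact p.Prime] {x : G} (hx : orderOf x = p)
    (hc : ¬ p ^ 2 ∣ cent x) : ¬ p ^ 2 ∣ Nat.card G := by
  intro hn
  have hxp : IsPGroup p (zpowers x) := IsPGroup.of_card (n := 1) (by rw [Nat.card_zpowers, hx, pow_one])
  obtain ⟨P, hP⟩ := hxp.exists_le_sylow
  have hxP : x ∈ (P : Subgroup G) := hP (mem_zpowers x)
  have hP2 : p ^ 2 ∣ Nat.card (P : Subgroup G) := P.pow_dvd_card_of_pow_dvd_card hn
  have : Nontrivial (P : Subgroup G) := Finite.one_lt_card_iff_nontrivial.mp (by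
    have := Nat.le_of_dvd Nat.card_pos hP2
    have h4 : 2 ^ 2 ≤ p ^ 2 := Nat.pow_le_pow_left hp.out.two_le 2
    omega)
  have hZ : p ∣ Nat.card (center (P : Subgroup G)) := by
    have := P.2.center_nontrivial
    obtain ⟨k, hk⟩ := IsPGroup.iff_card.mp (P.2.to_subgroup (center (P : Subgroup G)))
    have := Finite.one_lt_card (α := center (P : Subgroup G))
    rcases k with _ | k
    · rw [pow_zero] at hk; omega
    · rw [hk]; exact dvd_pow_self p (Nat.succ_ne_zero k)
  obtain ⟨z, hz⟩ := exists_prime_orderOf_dvd_card' p hZ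
  set z' : G := (((z : center (P : Subgroup G)) : (P : Subgroup G)) : G) with hz'
  have hzo : orderOf z' = p := by rw [hz', Subgroup.orderOf_coe, Subgroup.orderOf_coe, hz]
  have hzc : ∀ y ∈ (P : Subgroup G), Commute y z' := fun y hy =>
    congrArg Subtype.val (mem_center_iff.mp z.2 ⟨y, hy⟩)
  apply hc
  by_cases hzx : z' ∈ zpowers x
  · have hxz : x ∈ zpowers z' := by
      have : zpowers z' = zpowers x := Subgroup.eq_of_le_of_card_ge (zpowers_le.mpr hzx)
        (by rw [Nat.card_zpowers, Nat.card_zpowers, hzo, hx])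
      rw [this]; exact mem_zpowers x
    obtain ⟨i, hi⟩ := Subgroup.mem_zpowers_iff.mp hxz
    exact hP2.trans (card_le_cent fun y hy => hi ▸ (hzc y hy).zpow_right i)
  · set C := centralizer ({x} : Set G)
    have hzC : z' ∈ C := mem_cent.mpr (hzc x hxP).symm
    set D := (zpowers x).subgroupOf C
    have hDn : D.Normal := by
      constructor
      intro y hy g
      rw [mem_subgroupOf] at hy ⊢
      obtain ⟨i, hi⟩ := Subgroup.mem_zpowers_iff.mp hy
      refine ⟨i, ?_⟩
      simp only [Subgroup.coe_mul, Subgroup.coe_inv, ← hi]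
      rw [((mem_cent.mp g.2).zpow_right i).eq, mul_inv_cancel_right]
    have hD : Nat.card D = p := by
      rw [Nat.card_congr (Subgroup.subgroupOfEquivOfLe (zpowers_le.mpr (self_mem_cent x))).toEquiv,
        Nat.card_zpowers, hx]
    by_contra hno
    exact hzx (mem_of_normal_of_sq_not_dvd (H := C) hno D (hD ▸ dvd_refl p) (x := ⟨z', hzC⟩)
      (by rw [Subgroup.orderOf_mk, hzo]))

theorem DCS.center_eq_bot [Finite G] (hG : DCS G) : center G = ⊥ := by
  rw [eq_bot_iff]
  intro z hz
  rw [Subgroup.mem_bot]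
  have h : ∀ g ∈ center G, cent g = Nat.card G := by
    intro g hg
    have : centralizer ({g} : Set G) = ⊤ := by
      rw [eq_top_iff]
      exact fun y _ => mem_cent.mpr (mem_center_iff.mp hg y)
    rw [cent, this, Subgroup.card_top]
  obtain ⟨c, hc⟩ := isConj_iff.mp (hG.isConj ((h 1 (one_mem _)).trans (h z hz).symm))
  simpa using hc.symm

theorem smooth_five_mem {d : ℕ} (hd : d = 5 ∨ d = 10 ∨ d = 15 ∨ d = 20 ∨ d = 30 ∨ d = 40 ∨ d = 45 ∨ d = 60) :
    5 ∣ d ∧ ¬ 25 ∣ d ∧ d < 80 := by
  rcases hd with rfl | rfl | rfl | rfl | rfl | rfl | rfl | rfl <;> decide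

/-- No centraliser order is a small single multiple of `5`. -/
theorem cent_ne_small_five [Finite G] (hsolv : Group.IsSolvable G) (hG : DCS G)
    (hs : Smooth (Nat.card G)) (g : G) : cent g ∉ ({5, 10, 15, 20, 30, 40, 45, 60} : Finset ℕ) := by
  intro h
  simp only [Finset.mem_insert, Finset.mem_singleton] at h
  obtain ⟨h5, h25, hlt⟩ := smooth_five_mem h
  have := five_bound hsolv hG.rational hs h5 h25
  omega

theorem cent_ne_one [Finite G] [Nontrivial G] (g : G) : cent g ≠ 1 := by
  intro h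
  have h1 : g = 1 := orderOf_eq_one_iff.mp (Nat.dvd_one.mp (h ▸ orderOf_dvd_cent g))
  have htop : centralizer ({g} : Set G) = ⊤ := by
    rw [eq_top_iff, h1]
    exact fun y _ => mem_cent.mpr (Commute.one_right y)
  rw [cent, htop, Subgroup.card_top] at h
  have := Finite.one_lt_card (α := G)
  omega

/-- A group of order `6` with trivial centre is `S₃`. -/
theorem iso_perm_three [Finite G] (h6 : Nat.card G = 6) (hZ : center G = ⊥) :
    Nonempty (G ≃* Equiv.Perm (Fin 3)) := by
  have : Fact (Nat.Prime 2) := ⟨Nat.prime_two⟩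
  obtain ⟨x, hx⟩ := exists_prime_orderOf_dvd_card' (G := G) 2 (h6 ▸ by norm_num)
  set H := zpowers x with hH
  have hcard : Nat.card H = 2 := by rw [hH, Nat.card_zpowers, hx]
  have hidx : Nat.card (G ⧸ H) = 3 := by
    have := H.card_mul_index
    rw [hcard, h6, Subgroup.index_eq_card] at this
    omega
  let e : G ⧸ H ≃ Fin 3 := Finite.equivFinOfCardEq hidx
  let f : G →* Equiv.Perm (Fin 3) := e.permCongrHom.toMonoidHom.comp (MulAction.toPermHom G (G ⧸ H))
  have hinj : Function.Injective f := by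
    rw [← MonoidHom.ker_eq_bot_iff, eq_bot_iff]
    intro g hg
    have hg' : g ∈ (MulAction.toPermHom G (G ⧸ H)).ker := by
      rw [MonoidHom.mem_ker] at hg ⊢
      exact e.permCongrHom.injective (hg.trans e.permCongrHom.map_one.symm)
    rw [← Subgroup.normalCore_eq_ker] at hg'
    have hle := H.normalCore_le
    have hZle : H.normalCore ≤ center G := by
      intro y hy
      rw [mem_center_iff]
      intro z
      have hy2 : ∀ w ∈ H, w = 1 ∨ w = x := by
        intro w hw
        obtain ⟨i, rfl⟩ := Subgroup.mem_zpowers_iff.mp hw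
        rw [← zpow_mod_orderOf, hx]
        rcases Int.emod_two_eq_zero_or_one i with h | h <;> simp [h]
      rcases hy2 y (hle hy) with rfl | rfl
      · simp
      · have := hy2 _ (hle ((inferInstance : H.normalCore.Normal).conj_mem y hy z))
        rcases this with h | h
        · exfalso
          rw [conj_eq_one_iff.mp h, orderOf_one] at hx
          omega
        · exact mul_inv_eq_iff_eq_mul.mp h
    have := hZle hg'
    rwa [hZ] at this
  refine ⟨MulEquiv.ofBijective f ((Nat.bijective_iff_injective_and_card f).mpr ⟨hinj, ?_⟩)⟩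
  rw [h6, Nat.card_eq_fintype_card, Fintype.card_perm, Fintype.card_fin]
  rfl

theorem sum_geo_three (N : ℕ) :
    (∑ j ∈ Finset.Icc 1 N, (1 : ℚ) / ((3 ^ j : ℕ) : ℚ)) = 1 / 2 - 1 / (2 * 3 ^ N) := by
  induction N with
  | zero => simp
  | succ N ih =>
    rw [Finset.sum_Icc_succ_top (by omega), ih]
    push_cast
    rw [pow_succ]
    field_simp
    ring

/-- The case `4 ∤ |G|`. -/
theorem iso_of_four_not_dvd [Finite G] [Nontrivial G] (hG : DCS G) (hs : Smooth (Nat.card G))
    (h2 : 2 ∣ Nat.card G) (h4 : ¬ 4 ∣ Nat.card G) : Nonempty (G ≃* Equiv.Perm (Fin 3)) := by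
  classical
  have hfact : Fact (Nat.Prime 2) := ⟨Nat.prime_two⟩
  have hR := hG.rational
  set n := Nat.card G with hn
  obtain ⟨P⟩ := (inferInstance : Nonempty (Sylow 2 G))
  obtain ⟨k, hk⟩ := IsPGroup.iff_card.mp P.2
  have hk1 : k = 1 := by
    have h1 := P.pow_dvd_card_of_pow_dvd_card (n := 1) (by rwa [pow_one])
    rw [hk] at h1
    have h1' := (Nat.pow_dvd_pow_iff_le_right (le_refl 2)).mp h1
    by_contra hne
    exact h4 ((pow_dvd_pow 2 (show 2 ≤ k by omega)).trans (hk ▸ Subgroup.card_subgroup_dvd_card _))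
  subst hk1
  rw [pow_one] at hk
  have hPC : normalizer ((P : Subgroup G) : Set G) ≤ centralizer ((P : Subgroup G) : Set G) := by
    intro g hg y hy
    have hy2 : ∀ w ∈ (P : Subgroup G), w ≠ 1 → ∀ v ∈ (P : Subgroup G), v ≠ 1 → w = v := by
      intro w hw hw1 v hv hv1
      have h1 := Nat.card_eq_two_iff' (⟨1, one_mem _⟩ : (P : Subgroup G)) |>.mp hk
      obtain ⟨u, -, hu⟩ := h1
      exact congrArg Subtype.val ((hu ⟨w, hw⟩ (fun h => hw1 (congrArg Subtype.val h))).trans
        (hu ⟨v, hv⟩ (fun h => hv1 (congrArg Subtype.val h))).symm)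
    rw [SetLike.mem_coe] at hy
    rcases eq_or_ne y 1 with rfl | hy1
    · simp
    · have h1 := (mem_normalizer_iff.mp hg y).mp hy
      exact (mul_inv_eq_iff_eq_mul.mp (hy2 _ h1 (fun h => hy1 (conj_eq_one_iff.mp h)) y hy hy1)).symm
  set O := (MonoidHom.transferSylow P hPC).ker with hO
  have hc := MonoidHom.ker_transferSylow_isComplement' P hPC
  have hOidx : O.index = 2 := hc.symm.index_eq_card.trans hk
  have hOn : O.Normal := inferInstance
  have hOmul : Nat.card O * 2 = n := by rw [← hOidx, O.card_mul_index]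
  have hOodd : ¬ 2 ∣ Nat.card O := by
    intro hd
    exact h4 (hOmul ▸ Nat.mul_dvd_mul hd (dvd_refl 2))
  have hord : ∀ a ∈ O, Odd (orderOf a) := by
    intro a ha
    rw [Nat.odd_iff, ← Nat.two_dvd_ne_zero]
    intro hd
    apply hOodd
    rw [← Subgroup.orderOf_mk a ha] at hd
    exact hd.trans (orderOf_dvd_natCard _)
  -- the key: centralisers of elements of odd order are odd
  have key : ∀ a : G, Odd (orderOf a) → a ≠ 1 → ¬ 2 ∣ cent a := by
    intro a ha ha1 hd
    refine ha1 (hR.eq_one_of_two_part ha ⟨0, by simp⟩ (Commute.one_right a) fun m hm => ?_)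
    have htop : centralizer ({(1 : G)} : Set G) = ⊤ := by
      rw [eq_top_iff]
      exact fun y _ => mem_cent.mpr (Commute.one_right y)
    rw [htop, inf_top_eq]
    rw [cent, htop, Subgroup.card_top] at hm
    have : m ≤ 1 := by
      by_contra hm1
      exact h4 ((pow_dvd_pow 2 (show 2 ≤ m by omega)).trans hm)
    exact (pow_dvd_pow 2 this).trans (by rw [pow_one]; exact hd)
  -- the odd part is a 3-group
  obtain ⟨N, hN⟩ : ∃ N, Nat.card O = 3 ^ N := by
    have h5 : ¬ 5 ∣ Nat.card O := by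
      intro hd
      have : Fact (Nat.Prime 5) := ⟨by norm_num⟩
      obtain ⟨a, ha⟩ := exists_prime_orderOf_dvd_card' (G := O) 5 hd
      have hao : orderOf (a : G) = 5 := by rw [Subgroup.orderOf_coe, ha]
      obtain ⟨h, hh⟩ := hR.exists_conj (a : G) (k := 2) (by rw [hao]; decide)
      set L := normalizer (zpowers (a : G) : Set G)
      have hhL : h ∈ L := mem_normalizer_zpowers hh
      have := centralizer_normal_in_normalizer (g := (a : G)) L le_rfl
      set C := (centralizer ({(a : G)} : Set G)).subgroupOf L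
      have hact : ∀ m : ℕ, h ^ m * (a : G) * (h ^ m)⁻¹ = (a : G) ^ 2 ^ m := by
        intro m
        induction m with
        | zero => simp
        | succ m ih =>
          calc h ^ (m + 1) * (a : G) * (h ^ (m + 1))⁻¹ = h * (h ^ m * (a : G) * (h ^ m)⁻¹) * h⁻¹ := by
                rw [pow_succ']; group
            _ = (h * (a : G) * h⁻¹) ^ 2 ^ m := by rw [ih, conj_pow]
            _ = (a : G) ^ 2 ^ (m + 1) := by rw [hh, ← pow_mul, pow_succ']
      have hmem : ∀ m : ℕ, (⟨h, hhL⟩ : L) ^ m ∈ C ↔ 2 ^ m % 5 = 1 := by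
        intro m
        rw [mem_subgroupOf, mem_cent, SubmonoidClass.coe_pow]
        show h ^ m * (a : G) = (a : G) * h ^ m ↔ _
        rw [← mul_inv_eq_iff_eq_mul, hact, ← pow_mod_orderOf, hao]
        constructor
        · intro he
          have : (a : G) ^ (2 ^ m % 5) = (a : G) ^ 1 := by rw [he, pow_one]
          rw [pow_eq_pow_iff_modEq, hao, Nat.ModEq, Nat.mod_mod] at this
          simpa using this
        · intro he; rw [he, pow_one]
      have ho : orderOf (QuotientGroup.mk' C ⟨h, hhL⟩) = 2 ^ 2 := by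
        refine orderOf_eq_prime_pow ?_ ?_
        · rw [← map_pow]
          exact fun h0 => absurd ((hmem _).mp ((QuotientGroup.eq_one_iff _).mp h0)) (by norm_num)
        · rw [← map_pow]
          exact (QuotientGroup.eq_one_iff _).mpr ((hmem _).mpr (by norm_num))
      have h1 : (2 : ℕ) ^ 2 ∣ C.index := by
        rw [Subgroup.index_eq_card]
        exact (dvd_of_eq ho.symm).trans (orderOf_dvd_natCard _)
      exact h4 ((h1.trans (Dvd.intro_left _ C.card_mul_index)).trans
        (Subgroup.card_subgroup_dvd_card L))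
    refine ⟨(Nat.card O).primeFactorsList.length, Nat.eq_prime_pow_of_unique_prime_dvd
      Nat.card_pos.ne' fun {p} hp hpd => ?_⟩
    have h5' := hs p hp (hpd.trans (Subgroup.card_subgroup_dvd_card O))
    have := hp.two_le
    interval_cases p
    · exact absurd hpd hOodd
    · rfl
    · exact absurd hp (by decide)
    · exact absurd hpd h5
  obtain ⟨t, ht⟩ := exists_prime_orderOf_dvd_card' (G := G) 2 h2
  -- centraliser orders
  have hcents : ∀ g : G, g ≠ 1 → cent g = 2 ∨ ∃ j, 1 ≤ j ∧ j ≤ N ∧ cent g = 3 ^ j := by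
    intro g hg
    by_cases hgO : g ∈ O
    · right
      have hd : cent g ∣ 2 * 3 ^ N := by rw [mul_comm, ← hN, hOmul]; exact cent_dvd g
      have hcop : Nat.Coprime (cent g) 2 :=
        ((Nat.Prime.coprime_iff_not_dvd Nat.prime_two).mpr (key g (hord g hgO) hg)).symm
      obtain ⟨j, hj, hje⟩ := (Nat.dvd_prime_pow Nat.prime_three).mp (hcop.dvd_of_dvd_mul_left hd)
      refine ⟨j, ?_, hj, hje⟩
      by_contra hj0
      exact cent_ne_one g (by rw [hje, show j = 0 by omega, pow_zero])
    · left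
      obtain ⟨k, m, hgk, hm, hmo, hpo, -⟩ := exists_split (p := 2) Nat.prime_two g
      have hk : k = 1 := by
        have hk1 : k ≤ 1 := by
          by_contra hk
          exact h4 ((pow_dvd_pow 2 (show 2 ≤ k by omega)).trans
            ((Dvd.intro m hgk.symm).trans (orderOf_dvd_natCard g)))
        by_contra hk0
        apply hgO
        have hm1 : orderOf g = m := by rw [hgk, show k = 0 by omega, pow_zero, one_mul]
        have hodd : Odd m := Nat.odd_iff.mpr (Nat.two_dvd_ne_zero.mp hm)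
        obtain ⟨r, hr⟩ := hodd
        have : g = (g ^ 2) ^ (r + 1) := by
          rw [← pow_mul, show 2 * (r + 1) = orderOf g + 1 by omega, pow_succ, pow_orderOf_eq_one,
            one_mul]
        rw [this]
        exact pow_mem (Subgroup.sq_mem_of_index_two hOidx g) _
      subst hk
      rw [pow_one] at hgk hmo hpo
      have hmg : g ^ 2 = 1 := by
        by_contra hne
        refine key (g ^ 2) (hmo ▸ Nat.odd_iff.mpr (Nat.two_dvd_ne_zero.mp hm)) hne ?_
        exact (dvd_of_eq hpo.symm).trans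
          ((Subgroup.orderOf_mk _ (mem_cent.mpr ((Commute.refl g).pow_pow m 2))).symm ▸
            orderOf_dvd_natCard (G := centralizer ({g ^ 2} : Set G)) _)
      have hgo : orderOf g = 2 := orderOf_eq_prime hmg hg
      have hd : cent g ∣ 2 * 3 ^ N := by rw [mul_comm, ← hN, hOmul]; exact cent_dvd g
      have h2c : 2 ∣ cent g := hgo ▸ orderOf_dvd_cent g
      obtain ⟨r, hr⟩ := h2c
      rw [hr] at hd
      obtain ⟨j, -, hje⟩ := (Nat.dvd_prime_pow Nat.prime_three).mp (Nat.dvd_of_mul_dvd_mul_left two_pos hd)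
      rcases Nat.eq_zero_or_pos j with rfl | hj
      · rw [hr, hje, pow_zero, mul_one]
      · exfalso
        have h3 : 3 ∣ cent g := hr ▸ hje ▸ dvd_mul_of_dvd_right (dvd_pow_self 3 (by omega)) 2
        have : Fact (Nat.Prime 3) := ⟨Nat.prime_three⟩
        obtain ⟨y, hy⟩ := exists_prime_orderOf_dvd_card' (G := centralizer ({g} : Set G)) 3 h3
        have hyo : orderOf (y : G) = 3 := by rw [Subgroup.orderOf_coe, hy]
        refine key y (by rw [hyo]; decide) (fun h => by rw [h, orderOf_one] at hyo; omega) ?_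
        exact (dvd_of_eq hgo.symm).trans
          ((Subgroup.orderOf_mk g (mem_cent.mpr (mem_cent.mp y.2).symm)).symm ▸
            orderOf_dvd_natCard (G := centralizer ({(y : G)} : Set G)) _)
  have hsub : cents G ⊆ {n, 2} ∪ (Finset.Icc 1 N).image (3 ^ ·) := by
    intro d hd
    obtain ⟨g, rfl⟩ := mem_cents.mp hd
    rcases eq_or_ne g 1 with rfl | hg
    · refine Finset.mem_union_left _ (Finset.mem_insert.mpr (Or.inl ?_))
      have htop : centralizer ({(1 : G)} : Set G) = ⊤ := by
        rw [eq_top_iff]; exact fun y _ => mem_cent.mpr (Commute.one_right y)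
      rw [cent, htop, Subgroup.card_top]
    · rcases hcents g hg with h | ⟨j, hj1, hj2, h⟩
      · exact Finset.mem_union_left _ (by simp [h])
      · exact Finset.mem_union_right _ (Finset.mem_image.mpr ⟨j, Finset.mem_Icc.mpr ⟨hj1, hj2⟩, h.symm⟩)
  have hN1 : 1 ≤ N := by
    by_contra h0
    rw [show N = 0 by omega, pow_zero] at hN
    rw [hN, one_mul] at hOmul
    have hc : ∀ a b : G, a * b = b * a := by
      have : Fact (Nat.Prime (Nat.card G)) := ⟨by rw [← hn, ← hOmul]; exact Nat.prime_two⟩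
      have := isCyclic_of_prime_card (α := G) rfl
      exact IsCyclic.commGroup.mul_comm
    have : center G = ⊤ := by
      rw [eq_top_iff]; exact fun y _ => mem_center_iff.mpr fun z => hc z y
    rw [hG.center_eq_bot] at this
    exact bot_ne_top this
  -- all powers of three occur
  have h3mem : 3 ∈ cents G := by
    by_contra hno
    have hsub' : cents G ⊆ ({n, 2} ∪ (Finset.Icc 1 N).image (3 ^ ·)).erase 3 := by
      intro d hd
      exact Finset.mem_erase.mpr ⟨fun h => hno (h ▸ hd), hsub hd⟩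
    have hle := Finset.sum_le_sum_of_subset_of_nonneg hsub'
      (f := fun d : ℕ => (1 : ℚ) / d) (fun i _ _ => by positivity)
    rw [sum_inv_cents hG, Finset.sum_erase_eq_sub (Finset.mem_union_right _
      (Finset.mem_image.mpr ⟨1, Finset.mem_Icc.mpr ⟨le_rfl, hN1⟩, by norm_num⟩))] at hle
    have hu : (∑ d ∈ ({n, 2} : Finset ℕ) ∪ (Finset.Icc 1 N).image (fun x : ℕ => (3 : ℕ) ^ x), (1 : ℚ) / d) ≤
        (∑ d ∈ ({n, 2} : Finset ℕ), (1 : ℚ) / d) +
          ∑ d ∈ (Finset.Icc 1 N).image (fun x : ℕ => (3 : ℕ) ^ x), (1 : ℚ) / d := by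
      rw [← Finset.sum_union_inter]
      exact le_add_of_nonneg_right (Finset.sum_nonneg fun i _ => by positivity)
    rw [Finset.sum_image (fun a _ b _ h => Nat.pow_right_injective (by norm_num) h), sum_geo_three]
      at hu
    have hn2 : n ≠ 2 := by
      have := Nat.pow_le_pow_right (show 0 < 3 by norm_num) hN1
      omega
    rw [Finset.sum_pair hn2] at hu
    have hnq : (n : ℚ) = 2 * 3 ^ N := by rw [← hOmul, hN]; push_cast; ring
    rw [hnq] at hu
    push_cast at hle hu
    linarith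
  obtain ⟨a, ha⟩ := mem_cents.mp h3mem
  have : Fact (Nat.Prime 3) := ⟨Nat.prime_three⟩
  have hao : orderOf a = 3 := by
    have h1 := ha ▸ orderOf_dvd_cent a
    rcases (Nat.dvd_prime Nat.prime_three).mp h1 with h | h
    · exfalso
      rw [orderOf_eq_one_iff.mp h] at ha
      have htop : centralizer ({(1 : G)} : Set G) = ⊤ := by
        rw [eq_top_iff]; exact fun y _ => mem_cent.mpr (Commute.one_right y)
      rw [cent, htop, Subgroup.card_top] at ha
      omega
    · exact h
  have h9 : ¬ 3 ^ 2 ∣ n := not_sq_dvd hao (by rw [ha]; norm_num)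
  have hN' : N = 1 := by
    by_contra hne
    apply h9
    rw [← hOmul, hN]
    exact dvd_mul_of_dvd_left (pow_dvd_pow 3 (show 2 ≤ N by omega)) 2
  refine iso_perm_three (G := G) ?_ hG.center_eq_bot
  rw [← hn, ← hOmul, hN, hN']
  rfl

/-- A centraliser of order `2` forces `S₃`. -/
theorem iso_of_cent_two [Finite G] [Nontrivial G] (hG : DCS G) (hs : Smooth (Nat.card G)) {x : G}
    (hx : cent x = 2) : Nonempty (G ≃* Equiv.Perm (Fin 3)) := by
  have : Fact (Nat.Prime 2) := ⟨Nat.prime_two⟩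
  refine iso_of_four_not_dvd hG hs (hx ▸ cent_dvd x) ?_
  rcases (Nat.dvd_prime Nat.prime_two).mp (hx ▸ orderOf_dvd_cent x) with h | h
  · intro h4
    rw [orderOf_eq_one_iff.mp h] at hx
    have htop : centralizer ({(1 : G)} : Set G) = ⊤ := by
      rw [eq_top_iff]; exact fun y _ => mem_cent.mpr (Commute.one_right y)
    rw [cent, htop, Subgroup.card_top] at hx
    rw [hx] at h4
    norm_num at h4
  · exact not_sq_dvd (p := 2) h (by rw [hx]; norm_num)

theorem small_dvd_cases {n d : ℕ} (hn : n ≤ 24) (hn3 : 3 ∣ n) (hn0 : 0 < n) (hdn : d ∣ n)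
    (h3 : ¬ 3 ∣ d) : d ∈ ({1, 2, 4, 5, 7, 8} : Finset ℕ) := by
  have hd : d ≤ 24 := (Nat.le_of_dvd hn0 hdn).trans hn
  have h : (3 * d) ∣ n := Nat.Coprime.mul_dvd_of_dvd_of_dvd
    ((Nat.Prime.coprime_iff_not_dvd Nat.prime_three).mpr h3) hn3 hdn
  have := Nat.le_of_dvd hn0 h
  interval_cases d <;> simp_all <;> omega

theorem exists_of_zero_three {G : Type u} [Group G] [Finite G] (hG : DCS G) {D : Finset ℕ}
    (hD : cents G ⊆ insert 3 (insert (Nat.card G) D)) :
    (1 : ℚ) ≤ 1 / 3 + (1 / (Nat.card G : ℚ) + ∑ d ∈ D, (1 : ℚ) / d) := by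
  refine (sum_inv_cents hG).symm.le.trans ?_
  refine (Finset.sum_le_sum_of_subset_of_nonneg hD (fun i _ _ => by positivity)).trans ?_
  have hins : ∀ (a : ℕ) (s : Finset ℕ),
      (∑ d ∈ insert a s, (1 : ℚ) / d) ≤ (1 : ℚ) / a + ∑ d ∈ s, (1 : ℚ) / d := by
    intro a s
    by_cases h : a ∈ s
    · rw [Finset.insert_eq_of_mem h]
      have : (0 : ℚ) ≤ 1 / a := by positivity
      linarith
    · rw [Finset.sum_insert h]
  refine (hins 3 _).trans ?_
  have := hins (Nat.card G) D
  push_cast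
  linarith

/-- No centraliser has order `3`, unless one has order `2`. -/
theorem cent_ne_three [Finite G] [Nontrivial G] (hsolv : Group.IsSolvable G) (hG : DCS G)
    (hs : Smooth (Nat.card G)) (h2 : ∀ g : G, cent g ≠ 2) (x : G) : cent x ≠ 3 := by
  classical
  intro hx
  have : Fact (Nat.Prime 3) := ⟨Nat.prime_three⟩
  set n := Nat.card G with hn
  have hn3 : 3 ∣ n := hx ▸ cent_dvd x
  have hxo : orderOf x = 3 := by
    rcases (Nat.dvd_prime Nat.prime_three).mp (hx ▸ orderOf_dvd_cent x) with h | h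
    · exfalso
      rw [orderOf_eq_one_iff.mp h] at hx
      have htop : centralizer ({(1 : G)} : Set G) = ⊤ := by
        rw [eq_top_iff]; exact fun y _ => mem_cent.mpr (Commute.one_right y)
      rw [cent, htop, Subgroup.card_top] at hx
      have : Fact (Nat.Prime (Nat.card G)) := ⟨hx ▸ Nat.prime_three⟩
      have := isCyclic_of_prime_card (α := G) rfl
      have hc : center G = ⊤ := by
        rw [eq_top_iff]
        exact fun y _ => mem_center_iff.mpr fun z => IsCyclic.commGroup.mul_comm z y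
      rw [hG.center_eq_bot] at hc
      exact bot_ne_top hc
    · exact h
  have h9 : ¬ 3 ^ 2 ∣ n := not_sq_dvd hxo (by rw [hx]; norm_num)
  have hCx : ∀ y, Commute y x → y ∈ zpowers x := by
    intro y hy
    have he : zpowers x = centralizer ({x} : Set G) := by
      refine Subgroup.eq_of_le_of_card_ge (zpowers_le.mpr (self_mem_cent x)) ?_
      rw [Nat.card_zpowers, hxo]
      exact le_of_eq hx
    rw [he]
    exact mem_cent.mpr hy
  have hother : ∀ g : G, cent g ≠ 3 → cent g ≠ n → ¬ 3 ∣ cent g := by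
    intro g hg3 hgn h3
    obtain ⟨y, hy⟩ := exists_prime_orderOf_dvd_card' (G := centralizer ({g} : Set G)) 3 h3
    have hyo : orderOf (y : G) = 3 := by rw [Subgroup.orderOf_coe, hy]
    have hs' : ∀ w : G, orderOf w = 3 → ∃ S : Sylow 3 G, (S : Subgroup G) = zpowers w := by
      intro w hw
      obtain ⟨S, hS⟩ := (IsPGroup.of_card (p := 3) (n := 1)
        (show Nat.card (zpowers w) = 3 ^ 1 by rw [Nat.card_zpowers, hw, pow_one])).exists_le_sylow
      refine ⟨S, (Subgroup.eq_of_le_of_card_ge hS ?_).symm⟩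
      obtain ⟨k, hk⟩ := IsPGroup.iff_card.mp S.2
      rw [hk, Nat.card_zpowers, hw]
      have : k ≤ 1 := by
        by_contra hk2
        exact h9 ((pow_dvd_pow 3 (show 2 ≤ k by omega)).trans (hk ▸ Subgroup.card_subgroup_dvd_card _))
      exact Nat.pow_le_pow_right (by norm_num) this |>.trans_eq (pow_one 3)
    obtain ⟨S, hS⟩ := hs' x hxo
    obtain ⟨T, hT⟩ := hs' (y : G) hyo
    obtain ⟨c, hc⟩ := MulAction.exists_smul_eq G T S
    have hcy : c * (y : G) * c⁻¹ ∈ zpowers x := by
      rw [← hS, ← hc, Sylow.coe_subgroup_smul]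
      exact ⟨y, hT ▸ mem_zpowers _, rfl⟩
    obtain ⟨i, hi⟩ := Subgroup.mem_zpowers_iff.mp hcy
    have hgy : Commute (c * g * c⁻¹) (c * (y : G) * c⁻¹) :=
      (mem_cent.mp y.2).symm.map (MulAut.conj c).toMonoidHom
    have hxi : x ∈ zpowers (c * (y : G) * c⁻¹) := by
      have : zpowers (c * (y : G) * c⁻¹) = zpowers x := by
        refine Subgroup.eq_of_le_of_card_ge (zpowers_le.mpr hcy) ?_
        rw [Nat.card_zpowers, Nat.card_zpowers, hxo, ← hyo]
        exact le_of_eq (orderOf_injective (MulAut.conj c).toMonoidHom (MulAut.conj c).injective (y : G)).symm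
      rw [this]; exact mem_zpowers x
    obtain ⟨l, hl⟩ := Subgroup.mem_zpowers_iff.mp hxi
    have hmem := hCx _ (hl ▸ hgy.zpow_right l)
    obtain ⟨r, hr⟩ := Subgroup.mem_zpowers_iff.mp hmem
    have hcg : cent g = cent (x ^ r) := by
      rw [hr]; exact cent_eq_of_isConj (isConj_iff.mpr ⟨c, rfl⟩)
    rcases eq_or_ne (x ^ r) 1 with h1 | h1
    · apply hgn
      rw [hcg, h1]
      have htop : centralizer ({(1 : G)} : Set G) = ⊤ := by
        rw [eq_top_iff]; exact fun w _ => mem_cent.mpr (Commute.one_right w)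
      rw [cent, htop, Subgroup.card_top]
    · apply hg3
      rw [hcg, ← hx]
      have hle : centralizer ({x ^ r} : Set G) = centralizer ({x} : Set G) := by
        have hxr : x ∈ zpowers (x ^ r) := by
          have : zpowers (x ^ r) = zpowers x := by
            refine Subgroup.eq_of_le_of_card_ge (zpowers_le.mpr (zpow_mem (mem_zpowers x) r)) ?_
            rw [Nat.card_zpowers, Nat.card_zpowers, hxo]
            exact le_of_eq (orderOf_eq_prime (by
              rw [← zpow_natCast, ← zpow_mul, mul_comm, zpow_mul, zpow_natCast, ← hxo,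
                pow_orderOf_eq_one, one_zpow]) h1).symm
          rw [this]; exact mem_zpowers x
        obtain ⟨s, hs⟩ := Subgroup.mem_zpowers_iff.mp hxr
        ext w
        rw [mem_cent, mem_cent]
        exact ⟨fun hw => hs ▸ hw.zpow_right s, fun hw => hw.zpow_right r⟩
      rw [cent, cent, hle]
  set D := ((cents G).erase 3).erase n with hD
  have hsub : cents G ⊆ insert 3 (insert n D) := by
    intro d hd
    simp only [hD, Finset.mem_insert, Finset.mem_erase]
    tauto
  have hsum := exists_of_zero_three hG hsub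
  have hDmem : ∀ d ∈ D, d ∣ n ∧ ¬ 3 ∣ d ∧ d ≠ 1 ∧ d ≠ 2 ∧
      d ∉ ({5, 10, 15, 20, 30, 40, 45, 60} : Finset ℕ) := by
    intro d hd
    simp only [hD, Finset.mem_erase] at hd
    obtain ⟨hdn, hd3, hdc⟩ := hd
    obtain ⟨g, rfl⟩ := mem_cents.mp hdc
    exact ⟨cent_dvd g, hother g hd3 hdn, cent_ne_one g, h2 g, cent_ne_small_five hsolv hG hs g⟩
  have hn6 : (6 : ℕ) ≤ n := by
    by_contra hlt
    have hn0 : 0 < n := Nat.card_pos
    have hn1 : 1 < n := Finite.one_lt_card
    obtain ⟨m, hm⟩ := hn3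
    have hn' : Nat.card G = 3 := by omega
    have : Fact (Nat.Prime (Nat.card G)) := ⟨hn' ▸ Nat.prime_three⟩
    have := isCyclic_of_prime_card (α := G) rfl
    have hc : center G = ⊤ := by
      rw [eq_top_iff]
      exact fun y _ => mem_center_iff.mpr fun z => IsCyclic.commGroup.mul_comm z y
    rw [hG.center_eq_bot] at hc
    exact bot_ne_top hc
  have hq6 : 1 / (n : ℚ) ≤ 1 / 6 :=
    one_div_le_one_div_of_le (by norm_num) (by exact_mod_cast hn6)
  by_cases hn24 : n ≤ 24
  · have hle : (∑ d ∈ D, (1 : ℚ) / d) ≤ ∑ d ∈ ({4, 8} : Finset ℕ), (1 : ℚ) / d := by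
      refine Finset.sum_le_sum_of_subset_of_nonneg ?_ (fun i _ _ => by positivity)
      intro d hd
      obtain ⟨hdn, hd3, hd1, hd2, hd5⟩ := hDmem d hd
      have hmem := small_dvd_cases hn24 hn3 Nat.card_pos hdn hd3
      have h7 : d ≠ 7 := fun h => by
        have := hs 7 (by norm_num) (h ▸ hdn)
        omega
      simp only [Finset.mem_insert, Finset.mem_singleton] at hmem hd5 ⊢
      omega
    rw [Finset.sum_pair (by norm_num)] at hle
    push_cast at hle hsum
    linarith
  · have hbox : D ⊆ box (n + 9) 0 (n + 9) := by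
      intro d hd
      obtain ⟨hdn, hd3, -⟩ := hDmem d hd
      have hd0 : d ≠ 0 := fun h => hd3 (h ▸ dvd_zero 3)
      have hle : ∀ p, d.factorization p ≤ n + 9 := fun p => by
        have h1 := Nat.factorization_le_iff_dvd hd0 Nat.card_pos.ne' |>.mpr hdn p
        have h2 := Nat.factorization_lt p (Nat.card_pos (α := G)).ne'
        exact (h1.trans h2.le).trans (Nat.le_add_right _ _)
      refine smooth_dvd_box (n := n) Nat.card_pos.ne' hs hdn (hle 2) ?_ (hle 5)
      rw [Nat.factorization_eq_zero_of_not_dvd hd3]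
    set E : Finset ℕ := {2 ^ 0 * 3 ^ 0 * 5 ^ 0, 2 ^ 1 * 3 ^ 0 * 5 ^ 0, 2 ^ 0 * 3 ^ 0 * 5 ^ 1,
      2 ^ 1 * 3 ^ 0 * 5 ^ 1, 2 ^ 2 * 3 ^ 0 * 5 ^ 1, 2 ^ 3 * 3 ^ 0 * 5 ^ 1} with hE
    have hEbox : E ⊆ box (n + 9) 0 (n + 9) := by
      intro d hd
      simp only [hE, Finset.mem_insert, Finset.mem_singleton] at hd
      rcases hd with h | h | h | h | h | h <;> rw [h] <;> exact mem_box (by omega) (by omega) (by omega)
    have hdisj : Disjoint D E := by
      rw [Finset.disjoint_left]
      intro d hd hde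
      obtain ⟨-, -, hd1, hd2, hd5⟩ := hDmem d hd
      simp only [hE, Finset.mem_insert, Finset.mem_singleton] at hde hd5
      norm_num at hde
      omega
    have hle := sum_inv_le hbox hEbox hdisj
    have hEval : (∑ d ∈ E, (1 : ℚ) / d) = 15 / 8 := by
      rw [hE]
      norm_num [Finset.sum_insert]
    have hg3 : geo 3 0 = 1 := by simp [geo]
    have hg : geo 2 (n + 9) * geo 3 0 * geo 5 (n + 9) ≤ (2 : ℚ) * 1 * (5 / 4) := by
      rw [hg3]
      refine mul_le_mul ?_ ?_ (geo_nonneg _ _) (by norm_num)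
      · simpa using (geo_le (le_refl 2) (n + 9)).trans_eq (by norm_num)
      · exact (geo_le (by norm_num) _).trans_eq (by norm_num)
    rw [hEval] at hle
    have hq : 1 / (n : ℚ) ≤ 1 / 25 :=
      one_div_le_one_div_of_le (by norm_num) (by exact_mod_cast (show 25 ≤ n by omega))
    linarith

/-- Some centraliser order is `2`, `3`, `4` or `6`. -/
theorem exists_cent_small [Finite G] [Nontrivial G] (hsolv : Group.IsSolvable G) (hG : DCS G)
    (hs : Smooth (Nat.card G)) : ∃ g : G, cent g = 2 ∨ cent g = 3 ∨ cent g = 4 ∨ cent g = 6 := by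
  classical
  by_contra hno
  push Not at hno
  set K := Nat.card G + 9 with hK
  set E : Finset ℕ := {2 ^ 0 * 3 ^ 0 * 5 ^ 0, 2 ^ 1 * 3 ^ 0 * 5 ^ 0, 2 ^ 0 * 3 ^ 1 * 5 ^ 0,
    2 ^ 2 * 3 ^ 0 * 5 ^ 0, 2 ^ 1 * 3 ^ 1 * 5 ^ 0, 2 ^ 0 * 3 ^ 0 * 5 ^ 1,
    2 ^ 1 * 3 ^ 0 * 5 ^ 1, 2 ^ 0 * 3 ^ 1 * 5 ^ 1, 2 ^ 2 * 3 ^ 0 * 5 ^ 1, 2 ^ 1 * 3 ^ 1 * 5 ^ 1,
    2 ^ 3 * 3 ^ 0 * 5 ^ 1, 2 ^ 0 * 3 ^ 2 * 5 ^ 1, 2 ^ 2 * 3 ^ 1 * 5 ^ 1} with hE
  have hD : cents G ⊆ box K K K := by
    intro d hd
    obtain ⟨g, rfl⟩ := mem_cents.mp hd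
    have hle : ∀ p, (cent g).factorization p ≤ K := fun p => by
      have h1 := Nat.factorization_lt p (cent_pos g).ne'
      have h2 := Nat.le_of_dvd Nat.card_pos (cent_dvd g)
      omega
    exact smooth_dvd_box Nat.card_pos.ne' hs (cent_dvd g) (hle 2) (hle 3) (hle 5)
  have hEbox : E ⊆ box K K K := by
    intro d hd
    simp only [hE, Finset.mem_insert, Finset.mem_singleton] at hd
    rcases hd with h | h | h | h | h | h | h | h | h | h | h | h | h <;> rw [h] <;>
      exact mem_box (by omega) (by omega) (by omega)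
  have hdisj : Disjoint (cents G) E := by
    rw [Finset.disjoint_left]
    intro d hd hde
    obtain ⟨g, rfl⟩ := mem_cents.mp hd
    obtain ⟨h2, h3, h4, h6⟩ := hno g
    have h1 := cent_ne_one g
    have h5 := cent_ne_small_five hsolv hG hs g
    simp only [hE, Finset.mem_insert, Finset.mem_singleton] at hde h5
    norm_num at hde
    omega
  have hle := sum_inv_le hD hEbox hdisj
  rw [sum_inv_cents hG] at hle
  have hEval : (∑ d ∈ E, (1 : ℚ) / d) = 1 + 1/2 + 1/3 + 1/4 + 1/6 + 1/5 + 1/10 + 1/15 + 1/20 +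
      1/30 + 1/40 + 1/45 + 1/60 := by
    rw [hE]
    norm_num [Finset.sum_insert]
  rw [hEval] at hle
  have hg : geo 2 K * geo 3 K * geo 5 K ≤ (2 : ℚ) * (3 / 2) * (5 / 4) := by
    refine mul_le_mul (mul_le_mul ?_ ?_ (geo_nonneg _ _) (by norm_num)) ?_ (geo_nonneg _ _)
      (by norm_num)
    · exact (geo_le (le_refl 2) _).trans_eq (by norm_num)
    · exact (geo_le (by norm_num) _).trans_eq (by norm_num)
    · exact (geo_le (by norm_num) _).trans_eq (by norm_num)
  norm_num at hle hg
  linarith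

end CfsgLib.S3Conj
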