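import Cfsg.Agent.Lib.S3Conj.Basic

/-!
The class equation as a sum of reciprocals of distinct smooth numbers, and its upper bounds.
-/

set_option autoImplicit false

namespace CfsgLib.S3Conj

variable {G : Type*} [Group G]

/-- The set of centraliser orders. -/
noncomputable def cents (G : Type*) [Group G] [Finite G] : Finset ℕ :=
  (Set.finite_range (cent (G := G))).toFinset

theorem mem_cents [Finite G] {d : ℕ} : d ∈ cents G ↔ ∃ g : G, cent g = d := by
  simp [cents]

theorem cent_mem_cents [Finite G] (g : G) : cent g ∈ cents G := mem_cents.mpr ⟨g, rfl⟩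

/-- The class equation, with one term for each centraliser order. -/
theorem sum_inv_cents [Finite G] (hG : DCS G) : ∑ d ∈ cents G, (1 : ℚ) / d = 1 := by
  classical
  have := Fintype.ofFinite G
  have := Fintype.ofFinite (ConjClasses G)
  let cc : ConjClasses G → ℕ := fun C => cent C.out
  have hcc : ∀ C : ConjClasses G, Nat.card C.carrier * cc C = Nat.card G := by
    intro C
    have h := TwoByTwo.card_carrier_mul_centralizer (G := G) C.out
    rwa [show ConjClasses.mk C.out = C from Quotient.out_eq C] at h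
  have hinj : Function.Injective cc := by
    intro C D h
    apply hG
    have h1 := hcc C
    have h2 := hcc D
    rw [h] at h1
    exact Nat.eq_of_mul_eq_mul_right (cent_pos _) (h1.trans h2.symm)
  have himg : Finset.univ.image cc = cents G := by
    ext d
    simp only [Finset.mem_image, Finset.mem_univ, true_and, mem_cents]
    constructor
    · rintro ⟨C, rfl⟩; exact ⟨_, rfl⟩
    · rintro ⟨g, rfl⟩
      exact ⟨ConjClasses.mk g,
        cent_eq_of_isConj (ConjClasses.mk_eq_mk_iff_isConj.mp (Quotient.out_eq _))⟩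
  rw [← himg, Finset.sum_image (fun a _ b _ h => hinj h)]
  have hn : (0 : ℚ) < (Nat.card G : ℚ) := by exact_mod_cast Nat.card_pos
  have hterm : ∀ C : ConjClasses G, (1 : ℚ) / (cc C : ℕ) = (Nat.card C.carrier : ℚ) / Nat.card G := by
    intro C
    have h : (Nat.card C.carrier : ℚ) * (cc C : ℚ) = Nat.card G := by exact_mod_cast hcc C
    have hpos : (0 : ℚ) < cc C := by exact_mod_cast cent_pos C.out
    rw [div_eq_div_iff hpos.ne' hn.ne', one_mul, h]
  rw [Finset.sum_congr rfl (fun C _ => hterm C), ← Finset.sum_div, div_eq_one_iff_eq hn.ne']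
  have hs := Group.sum_card_conj_classes_eq_card (G := G)
  rw [finsum_eq_sum_of_fintype] at hs
  have hs' : ∑ C : ConjClasses G, Nat.card C.carrier = Nat.card G := by
    rw [← hs]
    exact Finset.sum_congr rfl fun C _ => (Nat.card_coe_set_eq _)
  exact_mod_cast hs'

/-- The numbers `2 ^ a * 3 ^ b * 5 ^ c` with bounded exponents. -/
def box (A B C : ℕ) : Finset ℕ :=
  ((Finset.range (A + 1) ×ˢ Finset.range (B + 1)) ×ˢ Finset.range (C + 1)).image
    fun t => 2 ^ t.1.1 * 3 ^ t.1.2 * 5 ^ t.2

theorem mem_box {A B C a b c : ℕ} (ha : a ≤ A) (hb : b ≤ B) (hc : c ≤ C) :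
    2 ^ a * 3 ^ b * 5 ^ c ∈ box A B C :=
  Finset.mem_image.mpr ⟨((a, b), c), by simp; omega, rfl⟩

/-- Truncated geometric series. -/
def geo (p A : ℕ) : ℚ := ∑ i ∈ Finset.range (A + 1), ((1 : ℚ) / p) ^ i

theorem geo_nonneg (p A : ℕ) : 0 ≤ geo p A := Finset.sum_nonneg fun i _ => by positivity

theorem geo_le {p : ℕ} (hp : 2 ≤ p) (A : ℕ) : geo p A ≤ (p : ℚ) / (p - 1) := by
  have hp' : (2 : ℚ) ≤ p := by exact_mod_cast hp
  have key : geo p A * ((p : ℚ) - 1) = p - (1 / p) ^ A := by
    induction A with
    | zero => simp [geo]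
    | succ A ih =>
      unfold geo at ih ⊢
      rw [Finset.sum_range_succ, add_mul, ih, pow_succ]
      field_simp
      ring
  rw [le_div_iff₀ (by linarith), key]
  have : (0 : ℚ) ≤ (1 / p) ^ A := by positivity
  linarith

/-- Two disjoint sets of numbers in a box. -/
theorem sum_inv_le {A B C : ℕ} {D E : Finset ℕ} (hD : D ⊆ box A B C) (hE : E ⊆ box A B C)
    (hdisj : Disjoint D E) :
    (∑ d ∈ D, (1 : ℚ) / d) + ∑ d ∈ E, (1 : ℚ) / d ≤ geo 2 A * geo 3 B * geo 5 C := by
  rw [← Finset.sum_union hdisj]
  refine (Finset.sum_le_sum_of_subset_of_nonneg (Finset.union_subset hD hE)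
    (fun i _ _ => by positivity)).trans ?_
  refine (Finset.sum_image_le_of_nonneg (fun i _ => by positivity)).trans (le_of_eq ?_)
  unfold geo
  rw [Finset.sum_product, Finset.sum_product, Finset.sum_mul_sum, Finset.sum_mul]
  refine Finset.sum_congr rfl fun i _ => ?_
  rw [Finset.sum_mul]
  refine Finset.sum_congr rfl fun j _ => ?_
  rw [Finset.mul_sum]
  refine Finset.sum_congr rfl fun k _ => ?_
  push_cast
  rw [div_pow, div_pow, div_pow, one_pow, one_pow, one_pow]
  field_simp

/-- Smoothness of the group order. -/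
def Smooth (n : ℕ) : Prop := ∀ p : ℕ, p.Prime → p ∣ n → p ≤ 5

theorem smooth_dvd_box {n d A B C : ℕ} (hn : n ≠ 0) (hs : Smooth n) (hd : d ∣ n)
    (hA : d.factorization 2 ≤ A) (hB : d.factorization 3 ≤ B) (hC : d.factorization 5 ≤ C) :
    d ∈ box A B C := by
  have hd0 : d ≠ 0 := fun h => hn (Nat.eq_zero_of_zero_dvd (h ▸ hd))
  have e : d = 2 ^ d.factorization 2 * 3 ^ d.factorization 3 * 5 ^ d.factorization 5 := by
    refine Nat.eq_of_factorization_eq hd0 (by positivity) fun p => ?_
    rw [Nat.factorization_mul (by positivity) (by positivity),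
      Nat.factorization_mul (by positivity) (by positivity),
      Nat.Prime.factorization_pow (by decide), Nat.Prime.factorization_pow (by decide),
      Nat.Prime.factorization_pow (by decide)]
    by_cases h2 : p = 2
    · subst h2; simp
    by_cases h3 : p = 3
    · subst h3; simp
    by_cases h5 : p = 5
    · subst h5; simp
    simp only [Finsupp.coe_add, Pi.add_apply, Finsupp.single_apply, Ne.symm h2, Ne.symm h3,
      Ne.symm h5, if_false, add_zero]
    refine Nat.factorization_eq_zero_iff _ _ |>.mpr ?_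
    by_cases hp : p.Prime
    · refine Or.inr (Or.inl fun hpd => ?_)
      have h := hs p hp (hpd.trans hd)
      interval_cases p <;> first | omega | exact absurd hp (by decide)
    · exact Or.inl hp
  rw [e]
  exact mem_box hA hB hC

theorem cents_subset_box [Finite G] (hs : Smooth (Nat.card G)) :
    cents G ⊆ box (Nat.card G) (Nat.card G) (Nat.card G) := by
  intro d hd
  obtain ⟨g, rfl⟩ := mem_cents.mp hd
  have hle : ∀ p, p.Prime → (cent g).factorization p ≤ Nat.card G := fun p hp => by
    refine le_trans (le_of_lt (Nat.factorization_lt p (cent_pos g).ne')) ?_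
    exact Nat.le_of_dvd Nat.card_pos (cent_dvd g)
  exact smooth_dvd_box Nat.card_pos.ne' hs (cent_dvd g) (hle 2 (by decide)) (hle 3 (by decide))
    (hle 5 (by decide))

end CfsgLib.S3Conj
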