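import Cfsg.Agent.Lib.S3Conj.Module
import Cfsg.Agent.Lib.S3Conj.Supply
import Cfsg.Agent.Lib.Elementary

/-!
In a rational solvable `{2,3,5}`-group a centraliser of order divisible by `5` but not by `25` has
order at least `80`.
-/

set_option autoImplicit false

namespace CfsgLib.S3Conj

open Subgroup

universe u

/-- An element of order `p` in `H` lies in every subgroup of `H` of order divisible by `p` when
`p²` does not divide `|H|` and that subgroup is normal in `H`. -/
theorem mem_of_normal_of_sq_not_dvd {H : Type*} [Group H] [Finite H] {p : ℕ} [hp : Fact p.Prime]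
    (hH : ¬ p ^ 2 ∣ Nat.card H) (N : Subgroup H) [N.Normal] (hN : p ∣ Nat.card N) {x : H}
    (hx : orderOf x = p) : x ∈ N := by
  by_contra hxN
  apply hH
  have h : p ∣ N.index := by
    have ho : orderOf (QuotientGroup.mk' N x) = p :=
      orderOf_eq_prime (by rw [← map_pow, ← hx, pow_orderOf_eq_one, map_one])
        (fun h0 => hxN ((QuotientGroup.eq_one_iff x).mp h0))
    rw [Subgroup.index_eq_card]
    exact (dvd_of_eq ho.symm).trans (orderOf_dvd_natCard (QuotientGroup.mk' N x))
  rw [← N.card_mul_index, pow_two]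
  exact Nat.mul_dvd_mul hN h

theorem two_ne_three : (2 : ZMod 5) ≠ 3 := by decide

/-- The trace argument: a line fixed by `g` in a normal `5`-subgroup cannot be scaled by `2`. -/
theorem not_scaled_fixed_line {G : Type u} [Group G] [Finite G] (hG : Rational G) (U : Subgroup G)
    [U.Normal] (hcomm : ∀ x ∈ U, ∀ y ∈ U, x * y = y * x) (hexp : ∀ x ∈ U, x ^ 5 = 1)
    {g a h : G} (hgo : ¬ 5 ∣ orderOf g) (ha : a ∈ U) (ha1 : a ≠ 1) (hga : Commute g a)
    (hfix : ∀ u ∈ U, Commute g u → u ∈ zpowers a) (hhg : Commute h g)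
    (hha : h * a * h⁻¹ = a ^ 2) : False := by
  classical
  have : Fact (Nat.Prime 5) := ⟨by norm_num⟩
  obtain ⟨V, _, _, ρ, e, he, hρ⟩ := exists_module (p := 5) U hcomm hexp
  have : Finite V := Finite.of_equiv U e
  have : Module.Finite (ZMod 5) V := Module.Finite.of_finite
  set v0 := e ⟨a, ha⟩ with hv0
  have he1 : e 1 = 0 := by
    have := he 1 1
    rw [one_mul] at this
    exact left_eq_add.mp this
  have hv0ne : v0 ≠ 0 := by
    rw [hv0, ← he1]
    intro h0
    exact ha1 (congrArg Subtype.val (e.injective h0))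
  have hpow : ∀ (w : U) (n : ℕ), e (w ^ n) = (n : ZMod 5) • e w := by
    intro w n
    induction n with
    | zero => simp [he1]
    | succ n ih => rw [pow_succ, he, ih, Nat.cast_succ, add_smul, one_smul]
  set H := zpowers g
  have := Fintype.ofFinite H
  set N : Module.End (ZMod 5) V := ∑ x : H, ρ (x : G) with hN
  have hH5 : (Fintype.card H : ZMod 5) ≠ 0 := by
    rw [Ne, ← Nat.card_eq_fintype_card, Nat.card_zpowers, ZMod.natCast_eq_zero_iff]
    exact hgo
  have hNfix : ∀ x : H, ρ (x : G) * N = N := by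
    intro x
    rw [hN, Finset.mul_sum]
    simp only [← ρ.map_mul]
    exact Equiv.sum_comp (Equiv.mulLeft x) (fun y : H => ρ (y : G))
  have hNmem : ∀ v, N v ∈ Submodule.span (ZMod 5) {v0} := by
    intro v
    obtain ⟨w, hw⟩ := e.surjective (N v)
    have hg1 : ρ g (N v) = N v := by
      rw [← Module.End.mul_apply]
      exact LinearMap.congr_fun (hNfix ⟨g, mem_zpowers g⟩) v
    rw [← hw, hρ] at hg1
    have hcw : Commute g (w : G) :=
      mul_inv_eq_iff_eq_mul.mp (congrArg Subtype.val (e.injective hg1))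
    obtain ⟨n, hn⟩ := Subgroup.mem_zpowers_iff.mp (hfix _ w.2 hcw)
    obtain ⟨m, hm⟩ : ∃ m : ℕ, (w : G) = a ^ m := by
      refine ⟨(n % 5).toNat, ?_⟩
      rw [← hn, ← zpow_natCast, Int.toNat_of_nonneg (Int.emod_nonneg _ (by norm_num)),
        ← zpow_mod_orderOf a n, orderOf_eq_prime (hexp a ha) ha1]
      rfl
    have hw' : w = ⟨a, ha⟩ ^ m := Subtype.ext (by rw [hm]; rfl)
    rw [← hw, hw', hpow]
    exact Submodule.smul_mem _ _ (Submodule.mem_span_singleton_self v0)
  have hNv0 : N v0 = (Fintype.card H : ZMod 5) • v0 := by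
    rw [hN, LinearMap.sum_apply]
    have hx : ∀ x : H, ρ (x : G) v0 = v0 := by
      intro x
      rw [hv0, hρ]
      refine congrArg e (Subtype.ext ?_)
      obtain ⟨i, hi⟩ := Subgroup.mem_zpowers_iff.mp x.2
      rw [← hi]
      show g ^ i * a * (g ^ i)⁻¹ = a
      rw [(hga.zpow_left i).eq, mul_inv_cancel_right]
    simp only [hx, Finset.sum_const, Finset.card_univ, Nat.cast_smul_eq_nsmul]
  have hproj : LinearMap.IsProj (Submodule.span (ZMod 5) {v0})
      ((Fintype.card H : ZMod 5)⁻¹ • N) := by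
    refine ⟨fun v => Submodule.smul_mem _ _ (hNmem v), fun v hv => ?_⟩
    obtain ⟨t, rfl⟩ := Submodule.mem_span_singleton.mp hv
    rw [LinearMap.smul_apply, map_smul, hNv0, smul_comm t, smul_smul, inv_mul_cancel₀ hH5, one_smul]
  have htr : LinearMap.trace (ZMod 5) V N = (Fintype.card H : ZMod 5) := by
    have h1 := hproj.trace
    rw [finrank_span_singleton hv0ne, Nat.cast_one, map_smul, smul_eq_mul] at h1
    rwa [inv_mul_eq_one₀ hH5, eq_comm] at h1
  have hscale : ∀ (x : G) (t : ZMod 5), ρ x v0 = t • v0 → ρ x * N = t • N := by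
    intro x t hx
    refine LinearMap.ext fun v => ?_
    obtain ⟨s, hs⟩ := Submodule.mem_span_singleton.mp (hNmem v)
    rw [Module.End.mul_apply, LinearMap.smul_apply, ← hs, map_smul, hx, smul_comm]
  have h2 : ρ h v0 = (2 : ZMod 5) • v0 := by
    have := hpow ⟨a, ha⟩ 2
    rw [Nat.cast_ofNat] at this
    rw [hv0, hρ, ← this]
    exact congrArg e (Subtype.ext hha)
  have h3 : ρ h⁻¹ v0 = (3 : ZMod 5) • v0 := by
    have e6 : (3 : ZMod 5) * 2 = 1 := rfl
    have e5 : ρ h⁻¹ (ρ h v0) = v0 := by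
      rw [← Module.End.mul_apply, ← ρ.map_mul, inv_mul_cancel, ρ.map_one, Module.End.one_apply]
    rw [h2, map_smul] at e5
    calc ρ h⁻¹ v0 = ((3 : ZMod 5) * 2) • ρ h⁻¹ v0 := by rw [e6, one_smul]
      _ = (3 : ZMod 5) • v0 := by rw [mul_smul, e5]
  have hmain := trace_sum_inv hG ρ H (h := h) (fun x hx => by
    obtain ⟨i, rfl⟩ := Subgroup.mem_zpowers_iff.mp hx
    exact hhg.zpow_right i)
  rw [← hN, hscale h 2 h2, hscale h⁻¹ 3 h3, map_smul, map_smul, htr, smul_eq_mul, smul_eq_mul] at hmain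
  exact two_ne_three (mul_right_cancel₀ hH5 hmain)

/-- No proper divisor of a small `2`- or `3`-power is congruent to it mod `5`. -/
theorem sixteen_le {N r k d : ℕ} (hr : r = 2 ∨ r = 3) (hN : N = r ^ k) (hd : d ∣ N) (hdN : d ≠ N)
    (hmod : N ≡ d [MOD 5]) : 16 ≤ N := by
  by_contra hlt
  push Not at hlt
  have hk : k < 4 := by
    by_contra hk
    push Not at hk
    have h4 : r ^ 4 ≤ r ^ k := Nat.pow_le_pow_right (by omega) hk
    have h2 : 2 ^ 4 ≤ r ^ 4 := Nat.pow_le_pow_left (by omega) 4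
    omega
  have hN0 : 0 < N := hN ▸ pow_pos (by omega) k
  have hdle : d ≤ N := Nat.le_of_dvd hN0 hd
  unfold Nat.ModEq at hmod
  rcases hr with rfl | rfl <;> interval_cases k <;> norm_num at hN <;> subst hN <;>
    interval_cases d <;> omega

/-- Splitting off the `p`-part of an element. -/
theorem exists_split {G : Type*} [Group G] [Finite G] {p : ℕ} (hp : p.Prime) (g : G) :
    ∃ k m : ℕ, orderOf g = p ^ k * m ∧ ¬ p ∣ m ∧ orderOf (g ^ p ^ k) = m ∧
      orderOf (g ^ m) = p ^ k ∧ ∀ x : G, Commute x (g ^ p ^ k) → Commute x (g ^ m) → Commute x g := by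
  obtain ⟨k, m, hm, hgk⟩ := Nat.exists_eq_pow_mul_and_not_dvd (orderOf_pos g).ne' p hp.ne_one
  have hm0 : 0 < m := Nat.pos_of_ne_zero fun h0 => hm (h0 ▸ dvd_zero p)
  refine ⟨k, m, hgk, hm, ?_, ?_, fun x h1 h2 => ?_⟩
  · rw [orderOf_pow' g (pow_ne_zero _ hp.ne_zero), hgk, Nat.gcd_eq_right (dvd_mul_right _ _),
      Nat.mul_div_cancel_left _ (pow_pos hp.pos k)]
  · rw [orderOf_pow' g hm0.ne', hgk, Nat.gcd_eq_right (dvd_mul_left _ _),
      Nat.mul_div_cancel _ hm0]
  · have hcop : Nat.gcd (p ^ k) m = 1 := ((hp.coprime_iff_not_dvd.mpr hm).pow_left k)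
    have hb := Nat.gcd_eq_gcd_ab (p ^ k) m
    rw [hcop] at hb
    have e : g = (g ^ p ^ k) ^ Nat.gcdA (p ^ k) m * (g ^ m) ^ Nat.gcdB (p ^ k) m := by
      rw [← zpow_natCast g (p ^ k), ← zpow_natCast g m, ← zpow_mul, ← zpow_mul, ← zpow_add,
        ← hb, Nat.cast_one, zpow_one]
    rw [e]
    exact (h1.zpow_right _).mul_right (h2.zpow_right _)

theorem five_bound {G : Type u} [Group G] [Finite G] (hsolv : Group.IsSolvable G) (hG : Rational G)
    (hs : Smooth (Nat.card G)) {g : G} (h5 : 5 ∣ cent g) (h25 : ¬ 25 ∣ cent g) : 80 ≤ cent g := by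
  classical
  induction hn : Nat.card G using Nat.strong_induction_on generalizing G with
  | h n ih =>
  subst hn
  have : Fact (Nat.Prime 5) := ⟨by norm_num⟩
  set C := centralizer ({g} : Set G) with hC
  have hC25 : ¬ 5 ^ 2 ∣ Nat.card C := h25
  obtain ⟨a, hao⟩ := exists_prime_orderOf_dvd_card' (G := C) 5 h5
  have haG : orderOf (a : G) = 5 := by rw [Subgroup.orderOf_coe, hao]
  have hag : Commute (a : G) g := mem_cent.mp a.2
  have ha1 : (a : G) ≠ 1 := fun h => by rw [h, orderOf_one] at haG; norm_num at haG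
  have : Nontrivial G := ⟨⟨(a : G), 1, ha1⟩⟩
  obtain ⟨U, hUn, -, hU0, hUmin⟩ := exists_minimal_normal (N := (⊤ : Subgroup G)) top_ne_bot
  have := hsolv
  obtain ⟨hUcomm, r, hr, hUexp⟩ := minimal_normal_elementary hU0 inferInstance hUmin
  have hcomm : ∀ x ∈ U, ∀ y ∈ U, x * y = y * x := fun x hx y hy =>
    congrArg Subtype.val (hUcomm.is_comm.comm ⟨x, hx⟩ ⟨y, hy⟩)
  have hUdvd : Nat.card U ∣ Nat.card G := Subgroup.card_subgroup_dvd_card U
  have hrdvd : r ∣ Nat.card G := by
    obtain ⟨x, hx, hx1⟩ := (U.bot_or_exists_ne_one).resolve_left hU0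
    rw [← orderOf_eq_prime (hUexp x hx) hx1 (hp := ⟨hr⟩)]
    exact orderOf_dvd_natCard x
  have hr5 : r = 2 ∨ r = 3 ∨ r = 5 := by
    have := hs r hr hrdvd
    have := hr.two_le
    interval_cases r <;> first | omega | exact absurd hr (by decide)
  have hUp : ∃ k, Nat.card U = r ^ k := by
    have := Fact.mk hr
    exact IsPGroup.iff_card.mp fun x => ⟨1, Subtype.ext (by simpa using hUexp x x.2)⟩
  set CU := U.subgroupOf C with hCU
  by_cases haU : (a : G) ∈ U
  · -- a fixed line scaled by two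
    have hr' : r = 5 := by
      have h1 := orderOf_eq_prime (hUexp _ haU) ha1 (hp := ⟨hr⟩)
      omega
    subst hr'
    exfalso
    -- `CU` is generated by `a`
    have hCUle : ∀ x : C, x ∈ CU → x ∈ zpowers a := by
      intro x hx
      by_contra hxa
      apply hC25
      have h1 : IsPGroup 5 CU := fun y => ⟨1, Subtype.ext (Subtype.ext (by
        simpa using hUexp _ (Subgroup.mem_subgroupOf.mp y.2)))⟩
      obtain ⟨k, hk⟩ := IsPGroup.iff_card.mp h1
      have hlt : zpowers a < CU := lt_of_le_of_ne (zpowers_le.mpr haU) fun h => hxa (h ▸ hx)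
      have h2 : Nat.card (zpowers a) < Nat.card CU := Set.Finite.card_lt_card (Set.toFinite _) hlt
      rw [Nat.card_zpowers, hao, hk] at h2
      have h3 : 2 ≤ k := by
        by_contra hk2
        interval_cases k <;> norm_num at h2
      exact (pow_dvd_pow 5 h3).trans (hk ▸ Subgroup.card_subgroup_dvd_card CU)
    -- split off the 5-part of `g`
    obtain ⟨k, m, hgk, hm, hg'o, hg5o, hsplit⟩ := exists_split (p := 5) (by norm_num) g
    set g' := g ^ 5 ^ k with hg'
    have hk1 : k ≤ 1 := by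
      by_contra hk
      apply h25
      exact ((pow_dvd_pow 5 (by omega : 2 ≤ k)).trans (Dvd.intro m hgk.symm)).trans (orderOf_dvd_cent g)
    have hg5U : g ^ m ∈ U := by
      interval_cases k
      · rw [pow_zero, one_mul] at hgk
        rw [← hgk, pow_orderOf_eq_one]
        exact U.one_mem
      · have hgC : g ^ m ∈ C := mem_cent.mpr ((Commute.refl g).pow_left m)
        have hdiv : 5 ∣ Nat.card CU := by
          have e : orderOf (⟨a, haU⟩ : CU) = 5 := (Subgroup.orderOf_mk a haU).trans hao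
          exact (dvd_of_eq e.symm).trans (orderOf_dvd_natCard _)
        exact mem_of_normal_of_sq_not_dvd hC25 CU hdiv (x := ⟨g ^ m, hgC⟩)
          (by rw [Subgroup.orderOf_mk, hg5o, pow_one])
    have hfix : ∀ u ∈ U, Commute g' u → u ∈ zpowers (a : G) := by
      intro u hu hgu
      have huC : u ∈ C := mem_cent.mpr (hsplit u hgu.symm (hcomm u hu _ hg5U))
      obtain ⟨i, hi⟩ := Subgroup.mem_zpowers_iff.mp (hCUle ⟨u, huC⟩ hu)
      exact ⟨i, (Subgroup.coe_zpow _ a i).symm.trans (congrArg Subtype.val hi)⟩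
    have hg'a : Commute g' (a : G) := (hag.symm.pow_left _)
    have hcop : (orderOf g').Coprime (orderOf (a : G)) := by
      rw [hg'o, haG, Nat.coprime_comm]
      exact (Nat.Prime.coprime_iff_not_dvd (by norm_num)).mpr hm
    have hzo := hg'a.orderOf_mul_eq_mul_orderOf_of_coprime hcop
    obtain ⟨e, he1, he2⟩ := Nat.chineseRemainder hcop 1 2
    obtain ⟨i, hi1, hi2⟩ := Nat.chineseRemainder hcop 1 0
    obtain ⟨j, hj1, hj2⟩ := Nat.chineseRemainder hcop 0 1
    have hecop : e.Coprime (orderOf (g' * (a : G))) := by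
      rw [hzo]
      refine Nat.Coprime.mul_right ?_ ?_
      · rw [Nat.coprime_iff_gcd_eq_one, he1.gcd_eq, Nat.gcd_one_left]
      · rw [Nat.coprime_iff_gcd_eq_one, he2.gcd_eq, haG]
        decide
    obtain ⟨h, hh⟩ := hG.exists_conj _ hecop
    have hpow : ∀ t s1 s2 : ℕ, t ≡ s1 [MOD orderOf g'] → t ≡ s2 [MOD orderOf (a : G)] →
        (g' * (a : G)) ^ t = g' ^ s1 * (a : G) ^ s2 := by
      intro t s1 s2 ht1 ht2
      rw [hg'a.mul_pow, pow_eq_pow_iff_modEq.mpr ht1, pow_eq_pow_iff_modEq.mpr ht2]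
    have hz1 := hpow i 1 0 hi1 hi2
    have hz2 := hpow j 0 1 hj1 hj2
    rw [pow_one, pow_zero, mul_one] at hz1
    rw [pow_one, pow_zero, one_mul] at hz2
    have hconj : ∀ t : ℕ, h * (g' * (a : G)) ^ t * h⁻¹ = ((g' * (a : G)) ^ t) ^ e := by
      intro t
      rw [← conj_pow (i := t), hh, ← pow_mul, ← pow_mul, mul_comm]
    have hhg : h * g' * h⁻¹ = g' := by
      have h1 := hconj i
      rw [hz1] at h1
      rw [h1, pow_eq_pow_iff_modEq.mpr he1, pow_one]
    have hha : h * (a : G) * h⁻¹ = (a : G) ^ 2 := by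
      have h1 := hconj j
      rw [hz2] at h1
      rw [h1, pow_eq_pow_iff_modEq.mpr he2]
    exact not_scaled_fixed_line hG U hcomm hUexp (by rw [hg'o]; exact hm) haU ha1 hg'a hfix
      (mul_inv_eq_iff_eq_mul.mp hhg) hha
  · set f := QuotientGroup.mk' U with hf
    have hfs : Function.Surjective f := QuotientGroup.mk'_surjective U
    have hfker : ∀ y : G, f y = 1 ↔ y ∈ U := fun y => QuotientGroup.eq_one_iff y
    have hfa : orderOf (f (a : G)) = 5 := orderOf_eq_prime
      (by rw [← map_pow, ← haG, pow_orderOf_eq_one, map_one]) (fun h0 => haU ((hfker _).mp h0))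
    have hfaC : f (a : G) ∈ centralizer ({f g} : Set (G ⧸ U)) := mem_cent.mpr (hag.map f)
    have h5' : 5 ∣ cent (f g) := by
      have h1 := orderOf_dvd_natCard (G := centralizer ({f g} : Set (G ⧸ U))) ⟨_, hfaC⟩
      rwa [Subgroup.orderOf_mk, hfa] at h1
    by_cases h25' : 25 ∣ cent (f g)
    swap
    · have hlt : Nat.card (G ⧸ U) < Nat.card G := by
        rw [← Subgroup.index_eq_card]
        conv_rhs => rw [← U.card_mul_index]
        refine lt_mul_left (Nat.pos_of_ne_zero Subgroup.index_ne_zero_of_finite) ?_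
        exact (Subgroup.one_lt_card_iff_ne_bot U).mpr hU0
      have hs' : Smooth (Nat.card (G ⧸ U)) := fun p hp hpd =>
        hs p hp (hpd.trans (Subgroup.card_quotient_dvd_card U))
      exact (ih _ hlt (G := G ⧸ U) inferInstance (hG.map hfs) hs' h5' h25' rfl).trans (cent_map_le hfs g)
    -- the jump
    let d : U →* U :=
      { toFun := fun u => ⟨g⁻¹ * u * g * (u : G)⁻¹,
          U.mul_mem (by simpa using hUn.conj_mem u u.2 g⁻¹) (U.inv_mem u.2)⟩
        map_one' := Subtype.ext (by simp)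
        map_mul' := fun u v => by
          refine Subtype.ext ?_
          have hw : g⁻¹ * (v : G) * g ∈ U := by simpa using hUn.conj_mem v v.2 g⁻¹
          have h1 := hcomm _ (U.inv_mem u.2) _ (U.mul_mem hw (U.inv_mem v.2))
          simp only [Subgroup.coe_mul]
          calc g⁻¹ * ((u : G) * v) * g * ((u : G) * v)⁻¹
              = g⁻¹ * u * g * ((g⁻¹ * v * g * (v : G)⁻¹) * (u : G)⁻¹) := by group
            _ = g⁻¹ * u * g * (u : G)⁻¹ * (g⁻¹ * v * g * (v : G)⁻¹) := by rw [← h1]; group }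
    have hker : Nat.card d.ker = Nat.card CU := by
      refine Nat.card_congr ⟨fun u => ⟨⟨(u : U), ?_⟩, (u : U).2⟩,
        fun c => ⟨⟨(c : C), c.2⟩, ?_⟩, fun u => rfl, fun c => rfl⟩
      · have h1 := congrArg Subtype.val (MonoidHom.mem_ker.mp u.2)
        simp only [d, MonoidHom.coe_mk, OneHom.coe_mk, OneMemClass.coe_one] at h1
        rw [hC, mem_cent]
        rw [mul_inv_eq_one, mul_assoc, inv_mul_eq_iff_eq_mul] at h1
        exact h1
      · rw [MonoidHom.mem_ker]
        refine Subtype.ext ?_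
        have h1 : Commute ((c : C) : G) g := mem_cent.mp (c : C).2
        simp only [d, MonoidHom.coe_mk, OneHom.coe_mk, OneMemClass.coe_one]
        rw [mul_assoc g⁻¹, h1.eq, inv_mul_cancel_left, mul_inv_cancel]
    set R := d.range with hR
    have hRidx : R.index = Nat.card CU := by
      rw [← hker]
      have h1 := d.ker.card_mul_index
      rw [Subgroup.index_ker, ← R.card_mul_index, mul_comm (Nat.card d.ker)] at h1
      exact (Nat.eq_of_mul_eq_mul_left Nat.card_pos h1).symm
    -- an element moving the class of `g`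
    obtain ⟨x, e, hxe, hxC, hxR⟩ : ∃ x : G, ∃ e : ℕ, x ^ 5 ^ e = 1 ∧ Commute (f x) (f g) ∧
        ∀ hx : g⁻¹ * x * g * x⁻¹ ∈ U, (⟨_, hx⟩ : U) ∉ R := by
      by_contra hno
      push Not at hno
      apply hC25
      set CQ := centralizer ({f g} : Set (G ⧸ U)) with hCQ
      obtain ⟨S, hS⟩ := Sylow.exists_subgroup_card_pow_prime 5 (n := 2) (G := CQ) h25'
      have hsub : S.map CQ.subtype ≤ C.map f := by
        rintro _ ⟨s, hs, rfl⟩
        obtain ⟨y, hy⟩ := hfs (s : G ⧸ U)
        obtain ⟨k, m, hgk, hm, hmo, hpo, -⟩ := exists_split (p := 5) (by norm_num) y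
        have hso : orderOf (s : G ⧸ U) ∣ 5 ^ 2 := by
          rw [Subgroup.orderOf_coe, ← hS, ← Subgroup.orderOf_mk s hs]
          exact orderOf_dvd_natCard _
        have hcop : m.Coprime (orderOf (s : G ⧸ U)) := Nat.Coprime.coprime_dvd_right hso
          (((Nat.Prime.coprime_iff_not_dvd (by norm_num : Nat.Prime 5)).mpr hm).symm.pow_right 2)
        obtain ⟨t, ht⟩ := exists_pow_eq_self_of_coprime (x := (s : G ⧸ U)) hcop
        have hfx : f ((y ^ m) ^ t) = (s : G ⧸ U) := by rw [map_pow, map_pow, hy, ht]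
        have hxC : Commute (f ((y ^ m) ^ t)) (f g) := by rw [hfx]; exact mem_cent.mp s.2
        set x := (y ^ m) ^ t with hx
        have hxe : x ^ 5 ^ k = 1 := by
          rw [hx, ← pow_mul, mul_comm, pow_mul, ← hpo, pow_orderOf_eq_one, one_pow]
        obtain ⟨hxU, u, hu⟩ := hno x k hxe hxC
        have hu' : g⁻¹ * (u : G) * g * (u : G)⁻¹ = g⁻¹ * x * g * x⁻¹ := congrArg Subtype.val hu
        refine ⟨(u : G)⁻¹ * x, ?_, ?_⟩
        · refine mem_cent.mpr ?_
          unfold Commute SemiconjBy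
          have h2 : (u : G) * g * (u : G)⁻¹ = x * g * x⁻¹ := by
            have h3 := congrArg (g * ·) hu'
            simpa [mul_assoc] using h3
          calc (u : G)⁻¹ * x * g = (u : G)⁻¹ * (x * g * x⁻¹) * x := by group
            _ = g * ((u : G)⁻¹ * x) := by rw [← h2]; group
        · rw [map_mul, map_inv, (hfker _).mpr u.2, inv_one, one_mul, hfx]
          rfl
      have h1 : Nat.card (S.map CQ.subtype) = 5 ^ 2 := by
        rw [Subgroup.card_map_of_injective CQ.subtype_injective, hS]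
      rw [← h1]
      exact (Subgroup.card_dvd_of_le hsub).trans (Subgroup.card_map_dvd C f)
    have hn : g⁻¹ * x * g * x⁻¹ ∈ U := by
      rw [← hfker, map_mul, map_mul, map_mul, map_inv, map_inv, mul_assoc (f g)⁻¹, hxC.eq,
        inv_mul_cancel_left, mul_inv_cancel]
    have hxR := hxR hn
    set n : U := ⟨_, hn⟩ with hndef
    have hrne : r = 2 ∨ r = 3 := by
      rcases hr5 with h | h | h
      · exact Or.inl h
      · exact Or.inr h
      · exfalso
        subst h
        obtain ⟨k, hk⟩ := hUp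
        obtain ⟨j, -, hj⟩ := (Nat.dvd_prime_pow hr).mp
          (hk ▸ hker ▸ Subgroup.card_subgroup_dvd_card d.ker : Nat.card CU ∣ 5 ^ k)
        have h0 : j = 0 := by
          by_contra hj0
          exact haU (mem_of_normal_of_sq_not_dvd hC25 CU (hj ▸ dvd_pow_self 5 hj0) (x := a) hao)
        rw [h0, pow_zero] at hj
        rw [Subgroup.index_eq_one.mp (hRidx.trans hj)] at hxR
        exact hxR trivial
    let cx : U →* U :=
      { toFun := fun u => ⟨x * u * x⁻¹, hUn.conj_mem u u.2 x⟩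
        map_one' := Subtype.ext (by simp)
        map_mul' := fun u v => Subtype.ext (by simp [mul_assoc]) }
    have hcxR : R ≤ R.comap cx := by
      rintro _ ⟨u, rfl⟩
      refine ⟨cx u, Subtype.ext ?_⟩
      have hw : g⁻¹ * (x * u * x⁻¹) * g ∈ U := by simpa [cx] using hUn.conj_mem _ (cx u).2 g⁻¹
      have h1 := hcomm _ hw _ hn
      simp only [d, cx, MonoidHom.coe_mk, OneHom.coe_mk]
      have e1 : x * (g⁻¹ * u * g * (u : G)⁻¹) * x⁻¹ = (g⁻¹ * x * g * x⁻¹)⁻¹ *
          (g⁻¹ * (x * u * x⁻¹) * g * (g⁻¹ * x * g * x⁻¹)) * (x * u * x⁻¹)⁻¹ := by group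
      rw [e1, h1]
      group
    let σ : U ⧸ R →* U ⧸ R := QuotientGroup.map R R cx hcxR
    have hσ : ∀ u : U, σ (QuotientGroup.mk u) = QuotientGroup.mk (cx u) := fun u => rfl
    -- it moves some class
    have hmove : ∃ q : U ⧸ R, σ q ≠ q := by
      by_contra hno
      push Not at hno
      apply hxR
      have hδ : ∀ i : ℕ, ∃ hi : g⁻¹ * x ^ i * g * (x ^ i)⁻¹ ∈ U,
          (QuotientGroup.mk (⟨_, hi⟩ : U) : U ⧸ R) = (QuotientGroup.mk n) ^ i := by
        intro i
        induction i with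
        | zero => exact ⟨by simp, by simp [pow_zero]; exact R.one_mem⟩
        | succ i ih =>
          obtain ⟨hi, hie⟩ := ih
          have e2 : g⁻¹ * x ^ (i + 1) * g * (x ^ (i + 1))⁻¹ =
              (g⁻¹ * x * g * x⁻¹) * (x * (g⁻¹ * x ^ i * g * (x ^ i)⁻¹) * x⁻¹) := by
            rw [pow_succ' x]; group
          have hmem : g⁻¹ * x ^ (i + 1) * g * (x ^ (i + 1))⁻¹ ∈ U := by
            rw [e2]; exact U.mul_mem hn (hUn.conj_mem _ hi x)
          refine ⟨hmem, ?_⟩
          have e3 : (⟨_, hmem⟩ : U) = n * cx ⟨_, hi⟩ := Subtype.ext e2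
          rw [e3, QuotientGroup.mk_mul, ← hσ, hno, hie, pow_succ']
      obtain ⟨hi, hie⟩ := hδ (5 ^ e)
      have h1 : (QuotientGroup.mk n : U ⧸ R) ^ 5 ^ e = 1 := by
        rw [← hie, QuotientGroup.eq_one_iff]
        have : (⟨_, hi⟩ : U) = 1 := Subtype.ext (by simp [hxe])
        rw [this]
        exact R.one_mem
      have h2 : (QuotientGroup.mk n : U ⧸ R) ^ r = 1 := by
        rw [← QuotientGroup.mk_pow, show n ^ r = 1 from Subtype.ext (by simpa using hUexp _ n.2)]
        rfl
      have hcop : Nat.Coprime (5 ^ e) r := Nat.Coprime.pow_left e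
        (by rcases hrne with rfl | rfl <;> decide)
      have h3 := pow_gcd_eq_one.mpr ⟨h1, h2⟩
      rw [hcop, pow_one] at h3
      exact (QuotientGroup.eq_one_iff n).mp h3
    -- counting fixed points
    let F : Subgroup (U ⧸ R) := σ.eqLocus (MonoidHom.id _)
    have hiter : ∀ i : ℕ, ∀ u : U, (σ^[i]) (QuotientGroup.mk u) =
        QuotientGroup.mk (⟨x ^ i * u * (x ^ i)⁻¹, hUn.conj_mem u u.2 _⟩ : U) := by
      intro i
      induction i with
      | zero => intro u; simp
      | succ i ih =>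
        intro u
        rw [Function.iterate_succ_apply', ih, hσ]
        refine congrArg QuotientGroup.mk (Subtype.ext ?_)
        simp only [cx, MonoidHom.coe_mk, OneHom.coe_mk]
        rw [pow_succ' x]
        group
    have hmod : Nat.card (U ⧸ R) ≡ Nat.card F [MOD 5] := by
      have := Fintype.ofFinite (U ⧸ R)
      let τ : Function.End (U ⧸ R) := fun q => σ q
      have hτn : ∀ i : ℕ, (τ ^ i : Function.End (U ⧸ R)) = (σ^[i]) := by
        intro i
        induction i with
        | zero => rfl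
        | succ i ih => rw [pow_succ', ih, Function.iterate_succ']; rfl
      have hτ : τ ^ 5 ^ e = 1 := by
        funext q
        obtain ⟨u, rfl⟩ := QuotientGroup.mk_surjective q
        rw [hτn, hiter]
        show _ = (QuotientGroup.mk u : U ⧸ R)
        refine congrArg QuotientGroup.mk (Subtype.ext ?_)
        simp [hxe]
      have h1 := Equiv.Perm.card_fixedPoints_modEq (p := 5) hτ
      rw [← Nat.card_eq_fintype_card, ← Nat.card_eq_fintype_card] at h1
      exact h1
    obtain ⟨k, hk⟩ := hUp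
    obtain ⟨j, -, hj⟩ := (Nat.dvd_prime_pow hr).mp
      (hk ▸ hker ▸ Subgroup.card_subgroup_dvd_card d.ker : Nat.card CU ∣ r ^ k)
    have hUR : Nat.card (U ⧸ R) = Nat.card CU := by rw [← Subgroup.index_eq_card, hRidx]
    have h16 : 16 ≤ Nat.card CU := by
      refine sixteen_le hrne hj (d := Nat.card F) ?_ ?_ (hUR ▸ hmod)
      · rw [← hUR]; exact Subgroup.card_subgroup_dvd_card F
      · rw [← hUR]
        intro hFtop
        obtain ⟨q, hq⟩ := hmove
        have hq' : q ∈ F := (Subgroup.eq_top_of_card_eq F hFtop) ▸ Subgroup.mem_top q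
        exact hq hq'
    have h5i : 5 ∣ CU.index := by
      have h1 : 5 ∣ Nat.card CU * CU.index := by rw [CU.card_mul_index]; exact h5
      refine (Nat.Coprime.dvd_mul_left ?_).mp h1
      rw [hj]
      exact Nat.Coprime.pow_right _ (by rcases hrne with rfl | rfl <;> decide)
    calc 80 = 16 * 5 := rfl
      _ ≤ Nat.card CU * CU.index := Nat.mul_le_mul h16
          (Nat.le_of_dvd (Nat.pos_of_ne_zero Subgroup.index_ne_zero_of_finite) h5i)
      _ = cent g := CU.card_mul_index

end CfsgLib.S3Conj
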