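import Cfsg.Agent.Lib.S3Conj.Primes
import Cfsg.Agent.Lib.S3Conj.CaseFour
import Cfsg.Agent.Lib.S3Conj.CaseSix

/-!
A solvable group with pairwise different class sizes is symmetric of degree three.
-/

set_option autoImplicit false

namespace CfsgLib.S3Conj

universe u

/-- The classification. -/
theorem iso_of_dcs {G : Type u} [Group G] [Finite G] [Nontrivial G] (hsolv : Group.IsSolvable G)
    (hG : DCS G) : Nonempty (G ≃* Equiv.Perm (Fin 3)) := by
  have hs : Smooth (Nat.card G) := smooth_of_rational hsolv hG.rational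
  by_cases h2 : ∃ g : G, cent g = 2
  · obtain ⟨g, hg⟩ := h2
    exact iso_of_cent_two hG hs hg
  push Not at h2
  have h3 := cent_ne_three hsolv hG hs h2
  have h4 := cent_ne_four hsolv hG hs h2 h3
  obtain ⟨g, hg⟩ := exists_cent_small hsolv hG hs
  rcases hg with h | h | h | h
  · exact absurd h (h2 g)
  · exact absurd h (h3 g)
  · exact absurd h (h4 g)
  · exact iso_of_cent_six hsolv hG hs h2 h3 h4 h

end CfsgLib.S3Conj
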