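import Cfsg.Agent.Lib.S3Conj.Basic

/-!
A normal elementary abelian subgroup as a module for the group, and trace identities in rational
groups.
-/

set_option autoImplicit false

namespace CfsgLib.S3Conj

open Subgroup

universe u

variable {G : Type u} [Group G]

/-- A multiplicative family of additive endomorphisms of a `ZMod p`-module is a representation. -/
theorem exists_rep {p : ℕ} {V : Type u} [AddCommGroup V] [Module (ZMod p) V] (φ : G → V →+ V)
    (h1 : ∀ x, φ 1 x = x) (h2 : ∀ g h x, φ (g * h) x = φ g (φ h x)) :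
    ∃ ρ : G →* Module.End (ZMod p) V, ∀ g x, ρ g x = φ g x := by
  refine ⟨{ toFun := fun g => (φ g).toZModLinearMap p, map_one' := ?_, map_mul' := ?_ },
    fun g x => ?_⟩
  · refine LinearMap.ext fun x => ?_
    simp [h1]
  · intro g h
    refine LinearMap.ext fun x => ?_
    simp [h2]
  · simp

/-- An action on a group of exponent `p` with commuting elements is linear over `ZMod p`. -/
theorem exists_module_aux {p : ℕ} {M : Type u} [CommGroup M] (hexp : ∀ x : M, x ^ p = 1)
    (a : G → M → M) (hmul : ∀ g x y, a g (x * y) = a g x * a g y) (hone : ∀ x, a 1 x = x)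
    (hcomp : ∀ g h x, a (g * h) x = a g (a h x)) :
    ∃ (V : Type u) (_ : AddCommGroup V) (_ : Module (ZMod p) V)
      (ρ : G →* Module.End (ZMod p) V) (e : M ≃ V),
      (∀ u v : M, e (u * v) = e u + e v) ∧ ∀ (g : G) (u : M), ρ g (e u) = e (a g u) := by
  have : ∀ x : Additive M, p • x = 0 := fun x => by
    apply Additive.toMul.injective
    rw [toMul_nsmul, toMul_zero]
    exact hexp _
  let inst : Module (ZMod p) (Additive M) := AddCommGroup.zmodModule this
  let φ : G → (Additive M →+ Additive M) := fun g =>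
    AddMonoidHom.mk' (fun x => Additive.ofMul (a g (Additive.toMul x)))
      (fun x y => by
        apply Additive.toMul.injective
        simp [hmul])
  obtain ⟨ρ, hρ⟩ := @exists_rep G _ p (Additive M) _ inst φ (fun x => by simp [φ, hone])
    (fun g h x => by simp [φ, hcomp])
  exact ⟨Additive M, inferInstance, inst, ρ,
    Additive.ofMul, fun u v => rfl, fun g u => by rw [hρ]; simp [φ]⟩

/-- A normal subgroup of exponent `p` with commuting elements is a `ZMod p`-module for the group. -/
theorem exists_module {p : ℕ} (U : Subgroup G) [hU : U.Normal]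
    (hcomm : ∀ x ∈ U, ∀ y ∈ U, x * y = y * x) (hexp : ∀ x ∈ U, x ^ p = 1) :
    ∃ (V : Type u) (_ : AddCommGroup V) (_ : Module (ZMod p) V)
      (ρ : G →* Module.End (ZMod p) V) (e : U ≃ V),
      (∀ u v : U, e (u * v) = e u + e v) ∧
      ∀ (g : G) (u : U), ρ g (e u) = e ⟨g * u * g⁻¹, hU.conj_mem u u.2 g⟩ :=
  @exists_module_aux G _ p U
    { (inferInstance : Group U) with mul_comm := fun a b => Subtype.ext (hcomm a a.2 b b.2) }
    (fun x => Subtype.ext (hexp x x.2))
    (fun g u => ⟨g * u * g⁻¹, hU.conj_mem u u.2 g⟩)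
    (fun g x y => Subtype.ext (by simp [mul_assoc]))
    (fun x => Subtype.ext (by simp))
    (fun g h x => Subtype.ext (by simp [mul_assoc]))

/-- The trace form of rationality: composed with the sum over a finite subgroup centralised by `h`,
`h` and `h⁻¹` have equal traces. -/
theorem trace_sum_inv [Finite G] (hG : Rational G) {R : Type*} [CommRing R] {V : Type*}
    [AddCommGroup V] [Module R V] (ρ : G →* Module.End R V) (H : Subgroup G) [Fintype H] {h : G}
    (hh : ∀ x ∈ H, Commute h x) :
    LinearMap.trace R V (ρ h * ∑ x : H, ρ (x : G)) =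
      LinearMap.trace R V (ρ h⁻¹ * ∑ x : H, ρ (x : G)) := by
  have key : ∀ x : G, LinearMap.trace R V (ρ x) = LinearMap.trace R V (ρ x⁻¹) := by
    intro x
    have hk : (orderOf x - 1).Coprime (orderOf x) := by
      have := orderOf_pos x
      rw [Nat.coprime_comm]
      exact (Nat.coprime_self_sub_right (by omega)).mpr (Nat.coprime_one_right _)
    obtain ⟨c, hc⟩ := hG.exists_conj x hk
    have hinv : x⁻¹ = c * x * c⁻¹ := by
      rw [hc]
      refine inv_eq_of_mul_eq_one_left ?_
      rw [← pow_succ, Nat.sub_add_cancel (orderOf_pos x), pow_orderOf_eq_one]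
    rw [hinv, ρ.map_mul, ρ.map_mul, LinearMap.trace_mul_comm, ← mul_assoc, ← ρ.map_mul,
      inv_mul_cancel, ρ.map_one, one_mul]
  simp only [Finset.mul_sum, map_sum, ← map_mul]
  rw [← Equiv.sum_comp (Equiv.inv H) (fun x : H => LinearMap.trace R V (ρ (h⁻¹ * (x : G))))]
  refine Finset.sum_congr rfl fun x _ => ?_
  rw [key, mul_inv_rev, Equiv.inv_apply, Subgroup.coe_inv,
    ((hh x x.2).inv_left.inv_right).eq]

end CfsgLib.S3Conj
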