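import Cfsg.Agent.Lib.S3Conj.Gow.Final
import Cfsg.Agent.Lib.S3Conj.Gow.Trace
import Cfsg.Agent.Lib.S3Conj.Module
import Cfsg.Agent.Lib.Elementary

/-!
The prime divisors of a solvable rational group are at most `5`.
-/

set_option autoImplicit false

namespace CfsgLib.S3Conj

open Subgroup

universe u

/-- A faithful-or-not module over a prime above `5` with all scalers and partners is impossible. -/
theorem scal_part_false {H : Type u} [Group H] [Finite H] (hsolv : Group.IsSolvable H)
    (hR : Rational H) (hs : Smooth (Nat.card H)) {q : ℕ} [hq : Fact q.Prime] (hq5 : 5 < q)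
    {V : Type u} [AddCommGroup V] [Module (ZMod q) V] [Finite V] [Nontrivial V]
    (ρ : H →* Module.End (ZMod q) V) (hS : Gow.Scal ρ) (hE : Gow.Part ρ) : False := by
  by_cases h11 : 11 ≤ q
  · exact Gow.not_scal_large hsolv hs h11 ρ hS hE
  · obtain rfl : q = 7 := by
      have hp := hq.out
      interval_cases q <;> first | rfl | exact absurd hp (by decide)
    exact Gow.planes_false hR hs ρ hS hE (Gow.planes_of_scal hsolv hs ρ hS hE)

/-- Solvable rational groups are `{2, 3, 5}`-groups. -/
theorem smooth_of_rational {G : Type u} [Group G] [Finite G] (hsolv : Group.IsSolvable G)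
    (hG : Rational G) : Smooth (Nat.card G) := by
  induction hn : Nat.card G using Nat.strong_induction_on generalizing G with
  | h n ih =>
  rw [← hn]
  rcases subsingleton_or_nontrivial G with hsub | hnt
  · intro p hp hd
    rw [Nat.card_unique] at hd
    exact absurd (Nat.dvd_one.mp hd) hp.ne_one
  have := hsolv
  obtain ⟨U, hUn, -, hU0, hmin⟩ := exists_minimal_normal (G := G) (N := ⊤) top_ne_bot
  have := hUn
  obtain ⟨hUc, q, hq, hexp⟩ := minimal_normal_elementary hU0 inferInstance hmin
  have := Fact.mk hq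
  have hUnt : Nontrivial U := (Subgroup.nontrivial_iff_ne_bot U).mpr hU0
  have hcard := U.card_eq_card_quotient_mul_card_subgroup
  have hlt : Nat.card (G ⧸ U) < n := by
    rw [← hn, hcard]
    exact lt_mul_of_one_lt_right Nat.card_pos (Finite.one_lt_card (α := U))
  have hHR : Rational (G ⧸ U) := hG.map (QuotientGroup.mk'_surjective U)
  have hHs : Smooth (Nat.card (G ⧸ U)) := ih _ hlt inferInstance hHR rfl
  intro p hp hpd
  rw [hcard] at hpd
  rcases hp.dvd_mul.mp hpd with h | h
  · exact hHs p hp h
  -- the prime of the minimal normal subgroup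
  have hUq : IsPGroup q U := fun x => ⟨1, by
    rw [pow_one]; exact Subtype.ext (hexp x x.2)⟩
  obtain ⟨k, hk⟩ := IsPGroup.iff_card.mp hUq
  rw [hk] at h
  obtain rfl := (Nat.prime_dvd_prime_iff_eq hp hq).mp (hp.dvd_of_dvd_pow h)
  by_contra hq5
  push Not at hq5
  obtain ⟨V, _, _, ρ, e, he, hρ⟩ := exists_module (p := p) U
    (fun x hx y hy => congrArg Subtype.val (hUc.is_comm.comm ⟨x, hx⟩ ⟨y, hy⟩)) hexp
  have : Finite V := Finite.of_equiv U e
  have : Nontrivial V := e.symm.nontrivial
  have htriv : U ≤ ρ.ker := by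
    intro g hg
    refine MonoidHom.mem_ker.mpr (LinearMap.ext fun v => ?_)
    obtain ⟨x, rfl⟩ := e.surjective v
    rw [hρ, Module.End.one_apply]
    congr 1
    exact Subtype.ext (by
      show g * x * g⁻¹ = x
      rw [show g * x = x * g from congrArg Subtype.val (hUc.is_comm.comm ⟨g, hg⟩ x),
        mul_inv_cancel_right])
  let σ : G ⧸ U →* Module.End (ZMod p) V := QuotientGroup.lift U ρ htriv
  have hS : Gow.Scal σ := by
    intro v hv c hc
    obtain ⟨x, rfl⟩ := e.surjective v
    have he1 : e 1 = 0 := by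
      have h := he 1 1
      rw [mul_one] at h
      exact left_eq_add.mp h
    have hpow : ∀ i : ℕ, e (x ^ i) = (i : ZMod p) • e x := by
      intro i
      induction i with
      | zero => rw [pow_zero, he1, Nat.cast_zero, zero_smul]
      | succ i ih => rw [pow_succ, he, ih, Nat.cast_succ, add_smul, one_smul]
    have hx1 : (x : G) ≠ 1 := fun h1 => hv (by
      rw [show x = 1 from Subtype.ext h1, he1])
    have hcop : c.val.Coprime (orderOf (x : G)) := by
      rw [orderOf_eq_prime (hexp x x.2) hx1, Nat.coprime_comm, hp.coprime_iff_not_dvd]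
      intro hd
      exact hc ((ZMod.val_eq_zero c).mp (Nat.eq_zero_of_dvd_of_lt hd (ZMod.val_lt c)))
    obtain ⟨g, hg⟩ := hG.exists_conj (x : G) hcop
    refine ⟨QuotientGroup.mk g, ?_⟩
    show ρ g (e x) = c • e x
    rw [hρ, show (⟨g * (x : G) * g⁻¹, hUn.conj_mem x x.2 g⟩ : U) = x ^ c.val from Subtype.ext hg,
      hpow, ZMod.natCast_zmod_val]
  exact scal_part_false inferInstance hHR hHs hq5 σ hS
    (Gow.part_of_rational hHR (fun hd => absurd (hHs p hp hd) (by omega)) σ)

end CfsgLib.S3Conj
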