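import Cfsg.Agent.Lib.S3Conj.CaseFour

/-!
A rational `{2,3}`-group cannot act like a faithful quotient in the case of a centraliser of
order `6`.
-/

set_option autoImplicit false

namespace CfsgLib.S3Conj

open Subgroup Cfsg

universe u

variable {H : Type u} [Group H]

theorem mem_zpowers_three {y w : H} (hy : orderOf y = 3) (hw : w ∈ zpowers y) :
    w = 1 ∨ w = y ∨ w = y ^ 2 := by
  obtain ⟨i, rfl⟩ := Subgroup.mem_zpowers_iff.mp hw
  have h3 : i % 3 = 0 ∨ i % 3 = 1 ∨ i % 3 = 2 := by omega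
  rw [← zpow_mod_orderOf y i, hy]
  rcases h3 with h | h | h
  · exact Or.inl (by rw [Nat.cast_ofNat, h, zpow_zero])
  · exact Or.inr (Or.inl (by rw [Nat.cast_ofNat, h, zpow_one]))
  · exact Or.inr (Or.inr (by rw [Nat.cast_ofNat, h]; exact zpow_natCast y 2))

/-- The normaliser of an element of order `3` whose centraliser order is not divisible by `4`. -/
theorem not_eight_dvd_normalizing [Finite H] {y : H} (hyo : orderOf y = 3) (hy4 : ¬ 4 ∣ cent y)
    (L : Subgroup H) (hL : ∀ h ∈ L, h * y * h⁻¹ ∈ zpowers y) : ¬ 8 ∣ Nat.card L := by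
  intro h8
  set C := (centralizer ({y} : Set H)).subgroupOf L with hC
  have hCy : Nat.card C ∣ cent y := by
    rw [cent, hC, ← Subgroup.card_map_of_injective (L.subtype_injective), subgroupOf_map_subtype]
    exact Subgroup.card_dvd_of_le inf_le_left
  have hval : ∀ h : L, (h : H) * y * (h : H)⁻¹ = y ∨ (h : H) * y * (h : H)⁻¹ = y ^ 2 := by
    intro h
    rcases mem_zpowers_three hyo (hL h h.2) with h1 | h1 | h1
    · rw [conj_eq_one_iff] at h1
      rw [h1, orderOf_one] at hyo
      omega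
    · exact Or.inl h1
    · exact Or.inr h1
  have hmemC : ∀ h : L, h ∈ C ↔ (h : H) * y * (h : H)⁻¹ = y := by
    intro h
    rw [hC, mem_subgroupOf, mem_cent]
    exact (mul_inv_eq_iff_eq_mul).symm
  have hy2 : y ^ 2 ≠ y := fun h => by
    have : y = 1 := by
      rw [pow_two] at h
      exact mul_eq_right.mp h
    rw [this, orderOf_one] at hyo
    omega
  have hidx : C.index ∣ 2 := by
    by_cases hall : ∀ h : L, h ∈ C
    · rw [(Subgroup.eq_top_iff' C).mpr hall, Subgroup.index_top]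
      exact one_dvd 2
    · push Not at hall
      obtain ⟨a, ha⟩ := hall
      have ha' : (a : H) * y * (a : H)⁻¹ = y ^ 2 := (hval a).resolve_left fun h => ha ((hmemC a).mpr h)
      refine dvd_of_eq (Subgroup.index_eq_two_iff.mpr ⟨a, fun b => ?_⟩)
      have e : ((b * a : L) : H) * y * ((b * a : L) : H)⁻¹ = ((b : H) * y * (b : H)⁻¹) ^ 2 := by
        rw [conj_pow (i := 2), ← ha', Subgroup.coe_mul]
        group
      rcases hval b with hb | hb
      · refine Or.inr ⟨(hmemC b).mpr hb, fun h => hy2 ?_⟩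
        rw [hmemC, e, hb] at h
        exact h
      · refine Or.inl ⟨?_, fun h => hy2 (hb.symm.trans ((hmemC b).mp h))⟩
        rw [hmemC, e, hb, ← pow_mul, ← pow_mod_orderOf, hyo]
        exact pow_one y
  have h := h8.trans (C.card_mul_index ▸ Nat.mul_dvd_mul_left (Nat.card C) hidx)
  exact hy4 ((Nat.dvd_of_mul_dvd_mul_right two_pos (show 4 * 2 ∣ Nat.card C * 2 from h)).trans hCy)

/-- A normal element of order `3` is impossible when `8` divides the group order. -/
theorem not_normal_three [Finite H] {y : H} (hyo : orderOf y = 3) (hy4 : ¬ 4 ∣ cent y)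
    (h8 : 8 ∣ Nat.card H) : ¬ ∀ h : H, h * y * h⁻¹ ∈ zpowers y := fun h =>
  not_eight_dvd_normalizing hyo hy4 ⊤ (fun g _ => h g) (by rwa [Subgroup.card_top])

/-- An element of order `4` central in a group of order `8` inside a rational group. -/
theorem Rational.sixteen_dvd [Finite H] (hR : Rational H) {g : H} (hg : orderOf g = 4)
    (h8 : 8 ∣ cent g) : 16 ∣ Nat.card H := by
  obtain ⟨h, hh⟩ := hR.exists_conj g (k := 3) (by rw [hg]; decide)
  set L := normalizer (zpowers g : Set H)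
  have hn := centralizer_normal_in_normalizer (g := g) L le_rfl
  set C := (centralizer ({g} : Set H)).subgroupOf L with hC
  have hhL : h ∈ L := mem_normalizer_zpowers hh
  have hCcard : Nat.card C = cent g :=
    Nat.card_congr (Subgroup.subgroupOfEquivOfLe (centralizer_le_normalizer_zpowers g)).toEquiv
  have hnot : (⟨h, hhL⟩ : L) ∉ C := by
    rw [hC, mem_subgroupOf, mem_cent]
    intro hc
    rw [hc.eq, mul_inv_cancel_right] at hh
    have : g ^ 2 = 1 := mul_right_cancel (b := g) (by rw [one_mul, ← pow_succ]; exact hh.symm)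
    have := orderOf_dvd_of_pow_eq_one this
    rw [hg] at this
    norm_num at this
  have hsq : (⟨h, hhL⟩ : L) ^ 2 ∈ C := by
    rw [hC, mem_subgroupOf, mem_cent]
    refine mul_inv_eq_iff_eq_mul.mp ?_
    show h ^ 2 * g * (h ^ 2)⁻¹ = g
    calc h ^ 2 * g * (h ^ 2)⁻¹ = h * (h * g * h⁻¹) * h⁻¹ := by rw [pow_two]; group
      _ = (h * g * h⁻¹) ^ 3 := by rw [conj_pow (i := 3), hh]
      _ = g := by rw [hh, ← pow_mul, ← pow_mod_orderOf, hg]; exact pow_one g
  have ho : orderOf (QuotientGroup.mk' C ⟨h, hhL⟩) = 2 := by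
    have : Fact (Nat.Prime 2) := ⟨Nat.prime_two⟩
    refine orderOf_eq_prime ?_ fun h0 => hnot ((QuotientGroup.eq_one_iff _).mp h0)
    rw [← map_pow]; exact (QuotientGroup.eq_one_iff _).mpr hsq
  have h2 : 2 ∣ C.index := by
    rw [Subgroup.index_eq_card]
    exact (dvd_of_eq ho.symm).trans (orderOf_dvd_natCard _)
  exact ((C.card_mul_index ▸ Nat.mul_dvd_mul (hCcard ▸ h8) h2 : 8 * 2 ∣ Nat.card L)).trans
    (Subgroup.card_subgroup_dvd_card L)

/-- The centraliser inside a subgroup. -/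
theorem cent_sub_le [Finite H] {C : Subgroup H} {v w : H} (hv : v ∈ C)
    (h : ∀ c ∈ C, Commute c v → Commute c w) : cent (⟨v, hv⟩ : C) ≤ cent w :=
  Nat.card_le_card_of_injective
    (fun c => ⟨c.1.1, mem_cent.mpr (h _ c.1.2 (congrArg Subtype.val (mem_cent.mp c.2)))⟩)
    (fun a b e => Subtype.ext (Subtype.ext (congrArg Subtype.val e :)))

/-- Facts about the parts of an element with a centraliser of order at most `6`. -/
theorem six_parts [Finite H] {X : H} (hX : cent X ≤ 6) (ho : orderOf X = 3 ∨ orderOf X = 6) :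
    orderOf (X ^ 4) = 3 ∧ ¬ 4 ∣ cent (X ^ 4) ∧ (orderOf X = 3 → cent (X ^ 4) ≤ 6) ∧
      (orderOf X = 6 → orderOf (X ^ 3) = 2 ∧
        ∀ c, Commute c (X ^ 4) → Commute c (X ^ 3) → Commute c X) := by
  have hyo : orderOf (X ^ 4) = 3 := by
    rcases ho with h | h <;> rw [orderOf_pow, h] <;> rfl
  have h3 : orderOf X = 3 → X ^ 4 = X := fun h => by
    rw [← pow_mod_orderOf, h]; exact pow_one X
  have h6 : orderOf X = 6 → ∀ c, Commute c (X ^ 4) → Commute c (X ^ 3) → Commute c X := by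
    intro h c hc4 hc3
    have e : X ^ 3 * X ^ 4 = X := by
      rw [← pow_add, ← pow_mod_orderOf, h]; exact pow_one X
    rw [← e]; exact hc3.mul_right hc4
  refine ⟨hyo, ?_, fun h => (h3 h).symm ▸ hX, fun h => ⟨by rw [orderOf_pow, h]; rfl, h6 h⟩⟩
  rcases ho with h | h
  · intro hd
    rw [h3 h] at hd
    have h3d : 3 ∣ cent X := h ▸ orderOf_dvd_cent X
    have := Nat.le_of_dvd (cent_pos X) (Nat.Coprime.mul_dvd_of_dvd_of_dvd (by decide) hd h3d)
    omega
  · intro hd
    have : Fact (Nat.Prime 2) := ⟨Nat.prime_two⟩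
    set C := centralizer ({X ^ 4} : Set H)
    have huC : X ^ 3 ∈ C := mem_cent.mpr ((Commute.refl X).pow_pow 3 4)
    have hXC : X ∈ C := mem_cent.mpr ((Commute.refl X).pow_right 4)
    have hle : cent (⟨X ^ 3, huC⟩ : C) ≤ 6 :=
      (cent_sub_le huC fun c hc hcv => h6 h c (mem_cent.mp hc) hcv).trans hX
    have hdvd : 6 ∣ cent (⟨X ^ 3, huC⟩ : C) := by
      have hm : (⟨X, hXC⟩ : C) ∈ centralizer ({(⟨X ^ 3, huC⟩ : C)} : Set C) :=
        mem_cent.mpr (Subtype.ext ((Commute.refl X).pow_right 3))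
      have e := orderOf_dvd_natCard (G := centralizer ({(⟨X ^ 3, huC⟩ : C)} : Set C)) ⟨_, hm⟩
      rwa [Subgroup.orderOf_mk, Subgroup.orderOf_mk, h] at e
    obtain ⟨m, hm⟩ := hdvd
    have hpos := cent_pos (⟨X ^ 3, huC⟩ : C)
    have hu : orderOf (⟨X ^ 3, huC⟩ : C) = 2 := by
      rw [Subgroup.orderOf_mk, orderOf_pow, h]; rfl
    exact not_sq_dvd (p := 2) hu (by omega) hd

/-- A `2`-subgroup centralised by an element whose centraliser order is not divisible by `4`. -/
theorem eq_one_or_eq_of_two_group [Finite H] {y z : H} (hy4 : ¬ 4 ∣ cent y) (D : Subgroup H)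
    (hD : IsPGroup 2 D) (hc : ∀ d ∈ D, Commute d y) (hz : z ∈ D) (hz1 : z ≠ 1) :
    ∀ d ∈ D, d = 1 ∨ d = z := by
  have : Fact (Nat.Prime 2) := ⟨Nat.prime_two⟩
  obtain ⟨k, hk⟩ := IsPGroup.iff_card.mp hD
  have hk1 : k ≤ 1 := by
    by_contra hk1
    exact hy4 ((pow_dvd_pow 2 (show 2 ≤ k by omega)).trans (hk ▸ card_le_cent hc))
  intro d hd
  rcases eq_or_ne d 1 with h | h
  · exact Or.inl h
  right
  have h2 : Nat.card D = 2 := by
    have h1 : 1 < Nat.card D := (Subgroup.one_lt_card_iff_ne_bot D).mpr fun hb => hz1 (by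
      rw [hb] at hz; exact hz)
    rw [hk] at h1 ⊢
    interval_cases k
    · norm_num at h1
    · rfl
  obtain ⟨w, -, hw⟩ := (Nat.card_eq_two_iff' (1 : D)).mp h2
  exact congrArg Subtype.val ((hw ⟨d, hd⟩ fun e => h (congrArg Subtype.val e)).trans
    (hw ⟨z, hz⟩ fun e => hz1 (congrArg Subtype.val e)).symm)

theorem eq_one_or_of_mem_zpowers {z v : H} (hz : z ^ 2 = 1) (hv : v ∈ zpowers z) :
    v = 1 ∨ v = z := by
  obtain ⟨i, rfl⟩ := Subgroup.mem_zpowers_iff.mp hv
  rcases Int.even_or_odd' i with ⟨j, rfl | rfl⟩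
  · exact Or.inl (by rw [zpow_mul, show z ^ (2 : ℤ) = 1 by exact_mod_cast hz, one_zpow])
  · exact Or.inr (by
      rw [zpow_add, zpow_mul, show z ^ (2 : ℤ) = 1 by exact_mod_cast hz, one_zpow, one_mul, zpow_one])

/-- In a `2`-group with a central involution `z` some other element is central modulo `⟨z⟩`,
inside a given normal subgroup. -/
theorem exists_central_mod {P : Type u} [Group P] [Finite P] (hP : IsPGroup 2 P) {z : P}
    (hz2 : z ^ 2 = 1) (hzc : ∀ p, Commute z p) (N : Subgroup P) [hN : N.Normal]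
    (hex : ∃ d ∈ N, d ≠ 1 ∧ d ≠ z) :
    ∃ w ∈ N, w ≠ 1 ∧ w ≠ z ∧ ∀ p, p * w * p⁻¹ = w ∨ p * w * p⁻¹ = w * z := by
  by_cases hzN : z ∈ N
  swap
  · have hne : N ≠ ⊥ := by
      obtain ⟨d, hd, hd1, -⟩ := hex
      exact fun hb => hd1 (by rw [hb] at hd; exact hd)
    have : Fact (Nat.Prime 2) := ⟨Nat.prime_two⟩
    have hnil : Group.IsNilpotent P := hP.isNilpotent
    obtain ⟨w, hw, hw1⟩ := ((_ : Subgroup P).bot_or_exists_ne_one).resolve_left
      (inf_center_ne_bot_of_nilpotent hne)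
    exact ⟨w, hw.1, hw1, fun e => hzN (e ▸ hw.1),
      fun p => Or.inl (mul_inv_eq_iff_eq_mul.mpr (mem_center_iff.mp hw.2 p))⟩
  have : Fact (Nat.Prime 2) := ⟨Nat.prime_two⟩
  set Z := zpowers z with hZ
  have hZn : Z.Normal := by
    constructor
    intro a ha p
    obtain ⟨i, rfl⟩ := Subgroup.mem_zpowers_iff.mp ha
    exact ⟨i, by simp [((hzc p).symm.zpow_right i).eq]⟩
  set f := QuotientGroup.mk' Z with hf
  have hne : N.map f ≠ ⊥ := by
    intro hb
    obtain ⟨d, hd, hd1, hdz⟩ := hex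
    have : f d = 1 := Subgroup.mem_bot.mp (hb ▸ Subgroup.mem_map_of_mem f hd)
    rcases eq_one_or_of_mem_zpowers hz2 ((QuotientGroup.eq_one_iff d).mp this) with h | h
    · exact hd1 h
    · exact hdz h
  have hnorm : (N.map f).Normal := hN.map f (QuotientGroup.mk'_surjective Z)
  have hnil : Group.IsNilpotent (P ⧸ Z) := (hP.to_quotient Z).isNilpotent
  obtain ⟨q, hq, hq1⟩ := ((_ : Subgroup (P ⧸ Z)).bot_or_exists_ne_one).resolve_left
    (inf_center_ne_bot_of_nilpotent hne)
  obtain ⟨w, hw, rfl⟩ := hq.1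
  refine ⟨w, hw, fun e => hq1 (by rw [e, map_one]),
    fun e => hq1 ((QuotientGroup.eq_one_iff w).mpr (e ▸ mem_zpowers z)), fun p => ?_⟩
  have h1 : f (w⁻¹ * (p * w * p⁻¹)) = 1 := by
    have hc := mem_center_iff.mp hq.2 (f p)
    simp only [map_mul, map_inv]
    rw [hc, mul_inv_cancel_right, inv_mul_cancel]
  rcases eq_one_or_of_mem_zpowers hz2 ((QuotientGroup.eq_one_iff _).mp h1) with h | h
  · exact Or.inl (inv_mul_eq_one.mp h).symm
  · exact Or.inr (inv_mul_eq_iff_eq_mul.mp h)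

theorem card_eq_three_pow [Finite H] (h23 : ∀ p : ℕ, p.Prime → p ∣ Nat.card H → p = 2 ∨ p = 3)
    (O : Subgroup H) (h2 : ¬ 2 ∣ Nat.card O) : ∃ k, Nat.card O = 3 ^ k :=
  ⟨_, Nat.eq_prime_pow_of_unique_prime_dvd Nat.card_pos.ne' fun {p} hp hpd =>
    (h23 p hp (hpd.trans (Subgroup.card_subgroup_dvd_card O))).resolve_left fun h => h2 (h ▸ hpd)⟩

theorem eq_zpowers_of_card_three [Finite H] {y : H} (hyo : orderOf y = 3) {O : Subgroup H}
    (hy : y ∈ O) (hO : Nat.card O ≤ 3) : O = zpowers y :=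
  (Subgroup.eq_of_le_of_card_ge (zpowers_le.mpr hy) (by rwa [Nat.card_zpowers, hyo])).symm

set_option maxHeartbeats 1000000 in
/-- The case of a nontrivial `2`-core. -/
theorem six_core_two [Finite H] (hsolv : Group.IsSolvable H) (hR : Rational H)
    (h23 : ∀ p : ℕ, p.Prime → p ∣ Nat.card H → p = 2 ∨ p = 3) (h8 : 8 ∣ Nat.card H) {y z : H}
    (hyo : orderOf y = 3) (hy6 : cent y ≤ 6) (hy4 : ¬ 4 ∣ cent y) (hz1 : z ≠ 1) (hz2 : z ^ 2 = 1)
    (hzR : z ∈ pCore 2 H) (hzc : ∀ h : H, Commute z h)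
    (hAb : ∀ A : Subgroup H, (∀ a ∈ A, ∀ b ∈ A, Commute a b) → (∀ a ∈ A, y * a * y⁻¹ ∈ A) →
      ∀ a ∈ A, Commute y a) : False := by
  classical
  have h2f : Fact (Nat.Prime 2) := ⟨Nat.prime_two⟩
  have h3f : Fact (Nat.Prime 3) := ⟨Nat.prime_three⟩
  set R := pCore 2 H with hRdef
  have hRn : R.Normal := inferInstance
  have hRp : IsPGroup 2 R := isPGroup_pCore 2
  have hnorm := not_normal_three hyo hy4 h8
  have h9 : ¬ 3 ^ 2 ∣ Nat.card H := not_sq_dvd hyo fun hd => by
    have := Nat.le_of_dvd (cent_pos y) hd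
    omega
  have hO : pPrimeCore 2 H = ⊥ := by
    by_contra hne
    obtain ⟨k, hk⟩ := card_eq_three_pow h23 (pPrimeCore 2 H) fun hd =>
      absurd (Nat.eq_one_of_dvd_coprimes (card_pPrimeCore_coprime 2) hd dvd_rfl) (by decide)
    have hk0 : k ≠ 0 := fun h => hne (Subgroup.card_eq_one.mp (by rw [hk, h, pow_zero]))
    have hk1 : k ≤ 1 := by
      by_contra hk1
      exact h9 ((pow_dvd_pow 3 (show 2 ≤ k by omega)).trans (hk ▸ Subgroup.card_subgroup_dvd_card _))
    have hy : y ∈ pPrimeCore 2 H :=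
      mem_of_normal_of_sq_not_dvd h9 _ (hk ▸ dvd_pow_self 3 hk0) hyo
    have he := eq_zpowers_of_card_three hyo hy (by
      rw [hk]; exact (Nat.pow_le_pow_right (by norm_num) hk1).trans_eq (pow_one 3))
    exact hnorm fun h => he ▸ (inferInstance : (pPrimeCore 2 H).Normal).conj_mem y hy h
  have hCR : centralizer (R : Set H) ≤ R := centralizer_pCore_le Nat.prime_two hO
  have hyR : y ∉ R := fun h => by
    obtain ⟨m, hm⟩ := IsPGroup.iff_orderOf.mp hRp ⟨y, h⟩
    rw [Subgroup.orderOf_mk, hyo] at hm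
    exact absurd (Nat.prime_three.dvd_of_dvd_pow (dvd_of_eq hm)) (by decide)
  -- conjugation by `y`
  let σ : H →* H := (MulAut.conj y).toMonoidHom
  have hσ : ∀ a, σ a = y * a * y⁻¹ := fun a => rfl
  have hy3 : y ^ 3 = 1 := hyo ▸ pow_orderOf_eq_one y
  have hσ3 : ∀ a, σ (σ (σ a)) = a := by
    intro a
    calc σ (σ (σ a)) = y ^ 3 * a * (y ^ 3)⁻¹ := by simp only [hσ, pow_succ, pow_zero, one_mul]; group
      _ = a := by rw [hy3]; simp
  have hσR : ∀ a ∈ R, σ a ∈ R := fun a ha => hRn.conj_mem a ha y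
  have hσz : σ z = z := by rw [hσ, (hzc y).symm.eq, mul_inv_cancel_right]
  have hzz : z * z = 1 := by rw [← pow_two, hz2]
  have hfix : ∀ r ∈ R, Commute r y → r = 1 ∨ r = z := fun r hr hc =>
    eq_one_or_eq_of_two_group hy4 (R ⊓ centralizer ({y} : Set H)) (hRp.to_le inf_le_left)
      (fun d hd => mem_cent.mp hd.2) ⟨hzR, mem_cent.mpr (hzc y)⟩ hz1 r ⟨hr, mem_cent.mpr hc⟩
  -- no commuting orbits
  have hnc : ∀ v ∈ R, Commute v (σ v) → (v * σ v * σ (σ v) = 1 ∨ v * σ v * σ (σ v) = z) →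
      v = 1 ∨ v = z := by
    intro v hv hc hp
    set S : Set H := {z, v, σ v} with hS
    have hcS : ∀ a ∈ S, ∀ b ∈ S, Commute a b := by
      intro a ha b hb
      simp only [hS, Set.mem_insert_iff, Set.mem_singleton_iff] at ha hb
      rcases ha with rfl | rfl | rfl
      · exact hzc b
      · rcases hb with rfl | rfl | rfl
        exacts [(hzc _).symm, Commute.refl _, hc]
      · rcases hb with rfl | rfl | rfl
        exacts [(hzc _).symm, hc.symm, Commute.refl _]
    have hab : ∀ a ∈ closure S, ∀ b ∈ closure S, Commute a b := by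
      intro a ha b hb
      have hle : closure S ≤ centralizer S := (Subgroup.closure_le _).mpr fun s hs t ht =>
        (hcS t ht s hs).eq
      have hle2 : closure S ≤ centralizer (closure S : Set H) := (Subgroup.closure_le _).mpr
        fun s hs t ht => ((hle ht) s hs).symm
      exact ((hle2 hb) a ha : a * b = b * a)
    have hinv : closure S ≤ (closure S).comap σ := by
      refine (Subgroup.closure_le _).mpr fun s hs => ?_
      simp only [hS, Set.mem_insert_iff, Set.mem_singleton_iff] at hs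
      show σ s ∈ closure S
      have hmem : ∀ t ∈ S, t ∈ closure S := fun t ht => Subgroup.subset_closure ht
      have hzS : z ∈ closure S := hmem z (by simp [hS])
      have hvS : v ∈ closure S := hmem v (by simp [hS])
      have hvS' : σ v ∈ closure S := hmem _ (by simp [hS])
      rcases hs with rfl | rfl | rfl
      · rw [hσz]; exact hzS
      · exact hvS'
      · have e : σ (σ v) = (v * σ v)⁻¹ * (v * σ v * σ (σ v)) := by group
        rw [e]
        rcases hp with h | h <;> rw [h]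
        · exact mul_mem (inv_mem (mul_mem hvS hvS')) (one_mem _)
        · exact mul_mem (inv_mem (mul_mem hvS hvS')) hzS
    exact hfix v hv (hAb (closure S) hab hinv v (Subgroup.subset_closure (by simp [hS]))).symm
  -- an element central modulo `z`
  have hget : ∀ D : Subgroup H, D ≤ R → z ∈ D → (∀ d ∈ D, σ d ∈ D) → (∃ d ∈ D, d ≠ 1 ∧ d ≠ z) →
      ∃ w ∈ D, w ≠ 1 ∧ w ≠ z ∧ (∀ d ∈ D, d * w * d⁻¹ = w ∨ d * w * d⁻¹ = w * z) ∧
        (w * σ w * σ (σ w) = 1 ∨ w * σ w * σ (σ w) = z) := by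
    intro D hDR hzD hDσ ⟨d0, hd0, hd1, hdz⟩
    obtain ⟨w, -, hw1, hwz, hwc⟩ := exists_central_mod (hRp.to_le hDR) (z := (⟨z, hzD⟩ : D))
      (Subtype.ext hz2) (fun p => Subtype.ext (hzc p).eq) ⊤
      ⟨⟨d0, hd0⟩, mem_top _, fun e => hd1 (congrArg Subtype.val e), fun e => hdz (congrArg Subtype.val e)⟩
    let sg : H → Prop := fun a => ∀ d ∈ D, d * a * d⁻¹ = a ∨ d * a * d⁻¹ = a * z
    have hw : sg (w : H) := fun d hd =>
      (hwc ⟨d, hd⟩).imp (congrArg Subtype.val) (congrArg Subtype.val)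
    have hsgσ : ∀ a, sg a → sg (σ a) := by
      intro a ha d hd
      have hd' : σ (σ d) ∈ D := hDσ _ (hDσ d hd)
      rcases ha _ hd' with h | h
      · left
        have := congrArg σ h
        rwa [map_mul, map_mul, map_inv, hσ3] at this
      · right
        have := congrArg σ h
        rwa [map_mul, map_mul, map_inv, hσ3, map_mul, hσz] at this
    have hsgmul : ∀ a b, sg a → sg b → sg (a * b) := by
      intro a b ha hb d hd
      have e : d * (a * b) * d⁻¹ = (d * a * d⁻¹) * (d * b * d⁻¹) := by group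
      rw [e]
      rcases ha d hd with h | h <;> rcases hb d hd with h' | h' <;> rw [h, h']
      · exact Or.inl rfl
      · exact Or.inr (mul_assoc a b z).symm
      · exact Or.inr (by rw [mul_assoc a z, (hzc b).eq, ← mul_assoc])
      · exact Or.inl (by
          rw [mul_assoc a z, (hzc (b * z)).eq, mul_assoc b, hzz, mul_one])
    set p := (w : H) * σ w * σ (σ w) with hp
    have hpsg : sg p := hsgmul _ _ (hsgmul _ _ hw (hsgσ _ hw)) (hsgσ _ (hsgσ _ hw))
    have hσp : σ p = (w : H)⁻¹ * p * ((w : H)⁻¹)⁻¹ := by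
      rw [hp, map_mul, map_mul, hσ3]; group
    have hpy : σ p = p := by
      rcases hpsg _ (D.inv_mem w.2) with h | h <;> rw [← hσp] at h
      · exact h
      · exfalso
        have h1 : σ (σ p) = p := by
          rw [h, map_mul, hσz, h, mul_assoc, hzz, mul_one]
        have h3 := hσ3 p
        rw [h1, h] at h3
        exact hz1 (mul_eq_left.mp h3)
    refine ⟨w, w.2, fun e => hw1 (Subtype.ext e), fun e => hwz (Subtype.ext e), hw, hfix p ?_ ?_⟩
    · exact mul_mem (mul_mem (hDR w.2) (hσR _ (hDR w.2))) (hσR _ (hσR _ (hDR w.2)))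
    · exact (mul_inv_eq_iff_eq_mul.mp hpy).symm
  -- the first element
  obtain ⟨w, hwR, hw1, hwz, hwsg, hwp⟩ := hget R le_rfl hzR hσR (by
    by_contra! hall
    refine hyR (hCR fun r hr => ?_)
    rcases eq_or_ne r 1 with rfl | h
    · simp
    · rw [hall r hr h]; exact (hzc y).eq)
  set w' := σ w with hw'
  have hw'R : w' ∈ R := hσR w hwR
  have hwnc : ¬ Commute w w' := fun hc => by
    rcases hnc w hwR hc hwp with h | h
    exacts [hw1 h, hwz h]
  have hw'1 : w' * w * w'⁻¹ = w * z :=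
    (hwsg w' hw'R).resolve_left fun h => hwnc (mul_inv_eq_iff_eq_mul.mp h : Commute w' w).symm
  have hw'sg : ∀ d ∈ R, d * w' * d⁻¹ = w' ∨ d * w' * d⁻¹ = w' * z := by
    intro d hd
    rcases hwsg _ (hσR _ (hσR d hd)) with h | h
    · left
      have := congrArg σ h
      rwa [map_mul, map_mul, map_inv, hσ3] at this
    · right
      have := congrArg σ h
      rwa [map_mul, map_mul, map_inv, hσ3, map_mul, hσz] at this
  have hww' : w * w' * w⁻¹ = w' * z :=
    (hw'sg w hwR).resolve_left fun h => hwnc (mul_inv_eq_iff_eq_mul.mp h)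
  -- nothing else commutes with both
  set D := R ⊓ centralizer ({w} : Set H) ⊓ centralizer ({w'} : Set H) with hD
  have hDz : ∀ d ∈ D, d = 1 ∨ d = z := by
    by_contra! hne
    have hzD : z ∈ D := ⟨⟨hzR, mem_cent.mpr (hzc w)⟩, mem_cent.mpr (hzc w')⟩
    have hDw2 : ∀ d ∈ D, Commute d (σ w') := by
      intro d hd
      have e : σ w' = (w * w')⁻¹ * (w * σ w * σ (σ w)) := by rw [hw']; group
      rw [e]
      refine ((mem_cent.mp hd.1.2).mul_right (mem_cent.mp hd.2)).inv_right.mul_right ?_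
      rcases hwp with h | h <;> rw [h]
      exacts [Commute.one_right d, (hzc d).symm]
    have hDσ : ∀ d ∈ D, σ d ∈ D := by
      intro d hd
      refine ⟨⟨hσR d hd.1.1, mem_cent.mpr ?_⟩, mem_cent.mpr ?_⟩
      · have := (hDw2 d hd).map σ
        rwa [hw', hσ3] at this
      · exact (mem_cent.mp hd.1.2).map σ
    obtain ⟨v, hv, hv1, hvz, hvsg, hvp⟩ := hget D (inf_le_left.trans inf_le_left) hzD hDσ hne
    set v' := σ v with hv'
    have hvD' : v' ∈ D := hDσ v hv
    have hvv : v' * v * v'⁻¹ = v * z := by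
      refine (hvsg v' hvD').resolve_left fun h => ?_
      rcases hnc v hv.1.1 (mul_inv_eq_iff_eq_mul.mp h : Commute v' v).symm hvp with h | h
      exacts [hv1 h, hvz h]
    have c1 : Commute w v := (mem_cent.mp hv.1.2).symm
    have c2 : Commute w' v := (mem_cent.mp hv.2).symm
    have c3 : Commute w v' := (mem_cent.mp hvD'.1.2).symm
    have c4 : Commute w' v' := (mem_cent.mp hvD'.2).symm
    have hwv : Commute (w * v) (σ (w * v)) := by
      rw [map_mul, ← hw', ← hv']
      have e1 : (w' * v') * (w * v) = w * w' * z * (v * v' * z) := by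
        have a1 : w' * w = w * z * w' := mul_inv_eq_iff_eq_mul.mp hw'1
        have a2 : v' * v = v * z * v' := mul_inv_eq_iff_eq_mul.mp hvv
        calc (w' * v') * (w * v) = w' * (v' * w) * v := by group
          _ = (w' * w) * (v' * v) := by rw [c3.symm.eq]; group
          _ = w * (z * w') * (v * (z * v')) := by rw [a1, a2]; group
          _ = w * w' * z * (v * v' * z) := by rw [(hzc w').eq, (hzc v').eq]; group
      have e2 : w * w' * z * (v * v' * z) = w * w' * (v * v') := by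
        rw [mul_assoc (w * w') z, (hzc (v * v' * z)).eq, mul_assoc (v * v') z z, hzz, mul_one]
      have e3 : (w * v) * (w' * v') = w * w' * (v * v') := by
        calc (w * v) * (w' * v') = w * (v * w') * v' := by group
          _ = w * w' * (v * v') := by rw [c2.symm.eq]; group
      exact e3.trans (e1.trans e2).symm
    have hwvp : (w * v) * σ (w * v) * σ (σ (w * v)) = 1 ∨
        (w * v) * σ (w * v) * σ (σ (w * v)) = z := by
      have e : (w * v) * σ (w * v) * σ (σ (w * v)) =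
          (w * σ w * σ (σ w)) * (v * σ v * σ (σ v)) := by
        rw [map_mul, map_mul, ← hw', ← hv']
        have c5 : Commute v' (σ w') := hDw2 v' hvD'
        have c6 : Commute v (σ w') := hDw2 v hv
        calc w * v * (w' * v') * (σ w' * σ v') = w * (v * w') * (v' * σ w') * σ v' := by group
          _ = w * w' * (v * σ w') * v' * σ v' := by rw [c2.symm.eq, c5.eq]; group
          _ = w * w' * σ w' * (v * v' * σ v') := by rw [c6.eq]; group
      rw [e]
      rcases hwp with h | h <;> rcases hvp with h' | h' <;> rw [h, h'] <;> simp [hzz]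
    rcases hnc _ (mul_mem hwR hv.1.1) hwv hwvp with h | h
    · refine hwnc ?_
      rw [show w = v⁻¹ from eq_inv_of_mul_eq_one_left h]
      exact c2.symm.inv_left
    · refine hwnc ?_
      rw [show w = z * v⁻¹ from eq_mul_inv_of_mul_eq h]
      exact (hzc w').mul_left c2.symm.inv_left
  -- an element preserving both cosets acts as an element of `R`
  have hsplit : ∀ h : H, (h * w * h⁻¹ = w ∨ h * w * h⁻¹ = w * z) →
      (h * w' * h⁻¹ = w' ∨ h * w' * h⁻¹ = w' * z) →
      ∃ s, (s = 1 ∨ s = w ∨ s = w' ∨ s = w * w') ∧ s ∈ R ∧ Commute (s⁻¹ * h) w ∧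
        Commute (s⁻¹ * h) w' := by
    have key : ∀ s h a b : H, h * a * h⁻¹ = b → s * a * s⁻¹ = b → Commute (s⁻¹ * h) a := by
      intro s h a b e1 e2
      refine mul_inv_eq_iff_eq_mul.mp ?_
      calc s⁻¹ * h * a * (s⁻¹ * h)⁻¹ = s⁻¹ * (h * a * h⁻¹) * s := by group
        _ = a := by rw [e1, ← e2]; group
    intro h h1 h2
    rcases h1 with h1 | h1 <;> rcases h2 with h2 | h2
    · exact ⟨1, Or.inl rfl, one_mem _, key _ _ _ _ h1 (by simp), key _ _ _ _ h2 (by simp)⟩
    · exact ⟨w, Or.inr (Or.inl rfl), hwR, key _ _ _ _ h1 (by simp), key _ _ _ _ h2 hww'⟩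
    · exact ⟨w', Or.inr (Or.inr (Or.inl rfl)), hw'R, key _ _ _ _ h1 hw'1, key _ _ _ _ h2 (by simp)⟩
    · refine ⟨w * w', Or.inr (Or.inr (Or.inr rfl)), mul_mem hwR hw'R, key _ _ _ _ h1 ?_,
        key _ _ _ _ h2 ?_⟩
      · calc w * w' * w * (w * w')⁻¹ = w * (w' * w * w'⁻¹) * w⁻¹ := by group
          _ = w * z := by
            rw [hw'1, ← mul_assoc, mul_assoc (w * w) z, (hzc w⁻¹).eq]
            group
      · calc w * w' * w' * (w * w')⁻¹ = w * w' * w⁻¹ := by group
          _ = w' * z := hww'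
  have hRelt : ∀ r ∈ R, ∃ s, (s = 1 ∨ s = w ∨ s = w' ∨ s = w * w') ∧ (r = s ∨ r = s * z) := by
    intro r hr
    obtain ⟨s, hs, hsR, hc1, hc2⟩ := hsplit r (hwsg r hr) (hw'sg r hr)
    refine ⟨s, hs, ?_⟩
    rcases hDz (s⁻¹ * r) ⟨⟨R.mul_mem (R.inv_mem hsR) hr, mem_cent.mpr hc1⟩, mem_cent.mpr hc2⟩ with h | h
    · exact Or.inl (inv_mul_eq_one.mp h).symm
    · exact Or.inr (inv_mul_eq_iff_eq_mul.mp h)
  have hin : ∀ h : H, (h * w * h⁻¹ = w ∨ h * w * h⁻¹ = w * z) →
      (h * w' * h⁻¹ = w' ∨ h * w' * h⁻¹ = w' * z) → h ∈ R := by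
    intro h h1 h2
    obtain ⟨s, -, hsR, hc1, hc2⟩ := hsplit h h1 h2
    have : s⁻¹ * h ∈ R := by
      refine hCR fun r hr => ?_
      obtain ⟨t, ht, hrt⟩ := hRelt r hr
      have hct : Commute (s⁻¹ * h) t := by
        rcases ht with rfl | rfl | rfl | rfl
        exacts [Commute.one_right _, hc1, hc2, hc1.mul_right hc2]
      rcases hrt with rfl | rfl
      exacts [hct.eq.symm, (hct.mul_right (hzc _).symm).eq.symm]
    have := mul_mem hsR this
    rwa [mul_inv_cancel_left] at this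
  -- the Sylow subgroup
  obtain ⟨P⟩ := (inferInstance : Nonempty (Sylow 2 H))
  have hRP : R ≤ (P : Subgroup H) := pCore_le_sylow P
  obtain ⟨j, hj, hj1, hjz, hjc⟩ := exists_central_mod P.2
    (z := (⟨z, hRP hzR⟩ : (P : Subgroup H))) (Subtype.ext hz2) (fun p => Subtype.ext (hzc p).eq)
    (R.subgroupOf (P : Subgroup H)) ⟨⟨w, hRP hwR⟩, Subgroup.mem_subgroupOf.mpr hwR,
      fun e => hw1 (congrArg Subtype.val e), fun e => hwz (congrArg Subtype.val e)⟩
  set J : H := (j : H) with hJ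
  have hJc : ∀ p ∈ (P : Subgroup H), p * J * p⁻¹ = J ∨ p * J * p⁻¹ = J * z := fun p hp =>
    (hjc ⟨p, hp⟩).imp (congrArg Subtype.val) (congrArg Subtype.val)
  obtain ⟨s, hs, hJs⟩ := hRelt J (Subgroup.mem_subgroupOf.mp hj)
  have hs1 : s ≠ 1 := by
    rintro rfl
    rcases hJs with h | h
    · exact hj1 (Subtype.ext h)
    · exact hjz (Subtype.ext (h.trans (one_mul z)))
  have hsc : ∀ p ∈ (P : Subgroup H), p * s * p⁻¹ = s ∨ p * s * p⁻¹ = s * z := by
    intro p hp
    rcases hJs with h | h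
    · rw [← h]; exact hJc p hp
    · have e : s = J * z := by rw [h, mul_assoc, hzz, mul_one]
      have e2 : p * s * p⁻¹ = (p * J * p⁻¹) * z := by
        rw [e]
        calc p * (J * z) * p⁻¹ = p * J * (z * p⁻¹) := by group
          _ = p * J * p⁻¹ * z := by rw [(hzc p⁻¹).eq]; group
      rw [e2, e]
      rcases hJc p hp with h' | h' <;> rw [h']
      exacts [Or.inl rfl, Or.inr rfl]
  -- an element with a centraliser of order four in `P`
  obtain ⟨i, hiR, hi1, hiz, hik⟩ : ∃ i ∈ R, i ≠ 1 ∧ i ≠ z ∧ ∀ p ∈ (P : Subgroup H), Commute p i →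
      p = 1 ∨ p = z ∨ p = i ∨ p = i * z := by
    have hzw : z * z = 1 := hzz
    have hncR : ∀ a b : H, (a * b * a⁻¹ = b * z) → ¬ Commute a b := fun a b h hc => by
      rw [hc.eq, mul_inv_cancel_right] at h
      exact hz1 (left_eq_mul.mp h)
    have hfin : ∀ i i', (i = w ∧ i' = w' ∨ i = w' ∧ i' = w) → ∀ p ∈ (P : Subgroup H), Commute p i →
        (p * i' * p⁻¹ = i' ∨ p * i' * p⁻¹ = i' * z) → p = 1 ∨ p = z ∨ p = i ∨ p = i * z := by
      intro i i' hii p hp hc hc'
      have hi : p * i * p⁻¹ = i ∨ p * i * p⁻¹ = i * z :=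
        Or.inl (mul_inv_eq_iff_eq_mul.mpr hc)
      have hpR : p ∈ R := by
        rcases hii with ⟨rfl, rfl⟩ | ⟨rfl, rfl⟩
        exacts [hin p hi hc', hin p hc' hi]
      obtain ⟨t, ht, hpt⟩ := hRelt p hpR
      have htc : Commute t i := by
        rcases hpt with rfl | rfl
        · exact hc
        · have := hc.mul_left (hzc i)
          rwa [mul_assoc, hzw, mul_one] at this
      have hnw : ¬ Commute w' w := hncR _ _ hw'1
      have ht' : t = 1 ∨ t = i := by
        rcases hii with ⟨rfl, rfl⟩ | ⟨rfl, rfl⟩ <;> rcases ht with h | h | h | h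
        · exact Or.inl h
        · exact Or.inr h
        · exact absurd (h ▸ htc) hnw
        · exfalso
          rw [h] at htc
          have := ((Commute.refl _).inv_left).mul_left htc
          rw [inv_mul_cancel_left] at this
          exact hnw this
        · exact Or.inl h
        · exact absurd (h ▸ htc) hwnc
        · exact Or.inr h
        · exfalso
          rw [h] at htc
          have := htc.mul_left ((Commute.refl _).inv_left)
          rw [mul_inv_cancel_right] at this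
          exact hwnc this
      rcases ht' with rfl | rfl <;> rcases hpt with rfl | rfl <;> simp
    rcases hs with h | h | h | h
    · exact absurd h hs1
    · refine ⟨w', hw'R, fun e => hwnc (e ▸ Commute.one_right w), fun e => hwnc (e ▸ (hzc w).symm),
        fun p hp hc => hfin w' w (Or.inr ⟨rfl, rfl⟩) p hp hc (h ▸ hsc p hp)⟩
    · exact ⟨w, hwR, hw1, hwz, fun p hp hc => hfin w w' (Or.inl ⟨rfl, rfl⟩) p hp hc (h ▸ hsc p hp)⟩
    · refine ⟨w, hwR, hw1, hwz, fun p hp hc => hfin w w' (Or.inl ⟨rfl, rfl⟩) p hp hc ?_⟩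
      have e : p * w' * p⁻¹ = w⁻¹ * (p * s * p⁻¹) := by
        rw [h]
        calc p * w' * p⁻¹ = w⁻¹ * ((w * p) * w' * p⁻¹) := by group
          _ = w⁻¹ * (p * (w * w') * p⁻¹) := by rw [← hc.eq]; group
      rcases hsc p hp with h' | h' <;> rw [e, h', h]
      · exact Or.inl (by group)
      · exact Or.inr (by group)
  have hcent : cent (⟨i, hRP hiR⟩ : (P : Subgroup H)) = 4 := by
    have hset : (((centralizer ({(⟨i, hRP hiR⟩ : (P : Subgroup H))} : Set (P : Subgroup H))).map
        (P : Subgroup H).subtype : Subgroup H) : Set H) = {1, z, i, i * z} := by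
      ext a
      simp only [Subgroup.coe_map, Subgroup.coe_subtype, Set.mem_image, SetLike.mem_coe,
        Set.mem_insert_iff, Set.mem_singleton_iff]
      constructor
      · rintro ⟨p, hp, rfl⟩
        exact hik p p.2 (congrArg Subtype.val (mem_cent.mp hp))
      · rintro (rfl | rfl | rfl | rfl)
        · exact ⟨1, one_mem _, rfl⟩
        · exact ⟨⟨a, hRP hzR⟩, mem_cent.mpr (Subtype.ext (hzc i).eq), rfl⟩
        · exact ⟨⟨a, hRP hiR⟩, mem_cent.mpr rfl, rfl⟩
        · exact ⟨⟨i * z, hRP (mul_mem hiR hzR)⟩,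
            mem_cent.mpr (Subtype.ext ((Commute.refl i).mul_left (hzc i)).eq), rfl⟩
    rw [cent, ← Subgroup.card_map_of_injective (P : Subgroup H).subtype_injective,
      ← SetLike.coe_sort_coe, hset, Nat.card_coe_set_eq]
    have h1 : i * z ≠ 1 := fun h => hiz (by
      rw [eq_inv_of_mul_eq_one_left h, inv_eq_of_mul_eq_one_right hzz])
    have h2 : i * z ≠ z := fun h => hi1 (mul_eq_right.mp h)
    have h3 : i * z ≠ i := fun h => hz1 (mul_eq_left.mp h)
    rw [Set.ncard_insert_of_notMem (by simp [hz1.symm, hi1.symm, h1.symm]),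
      Set.ncard_insert_of_notMem (by simp [hiz.symm, h2.symm]),
      Set.ncard_insert_of_notMem (by simp [h3.symm]), Set.ncard_singleton]
  have hP8 := hR.sylow_two_le P hcent
  have hR5 : 5 ≤ Nat.card R := by
    have hsub : ({1, z, w, w * z, w'} : Set H) ⊆ R := by
      intro a ha
      simp only [Set.mem_insert_iff, Set.mem_singleton_iff] at ha
      rcases ha with rfl | rfl | rfl | rfl | rfl
      exacts [one_mem _, hzR, hwR, mul_mem hwR hzR, hw'R]
    have h1 : w * z ≠ 1 := fun h => hwz (by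
      rw [eq_inv_of_mul_eq_one_left h, inv_eq_of_mul_eq_one_right hzz])
    have h2 : w * z ≠ z := fun h => hw1 (mul_eq_right.mp h)
    have h3 : w * z ≠ w := fun h => hz1 (mul_eq_left.mp h)
    have h4 : ∀ a : H, Commute w a → w' ≠ a := fun a ha e => hwnc (e ▸ ha)
    have n1 := h4 1 (Commute.one_right w)
    have n2 := h4 z (hzc w).symm
    have n3 := h4 w (Commute.refl w)
    have n4 := h4 (w * z) ((Commute.refl w).mul_right (hzc w).symm)
    have hle := Set.ncard_le_ncard hsub (Set.toFinite _)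
    rw [Set.ncard_insert_of_notMem (by simp [hz1.symm, hw1.symm, h1.symm, n1.symm]),
      Set.ncard_insert_of_notMem (by simp [hwz.symm, h2.symm, n2.symm]),
      Set.ncard_insert_of_notMem (by simp [h3.symm, n3.symm]),
      Set.ncard_insert_of_notMem (by simp [n4.symm]), Set.ncard_singleton, ← Nat.card_coe_set_eq] at hle
    exact hle
  have hReq : R = (P : Subgroup H) := by
    refine Subgroup.eq_of_le_of_card_ge hRP ?_
    obtain ⟨k, hk⟩ := IsPGroup.iff_card.mp hRp
    have : 3 ≤ k := by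
      by_contra hk3
      have := Nat.pow_le_pow_right two_pos (show k ≤ 2 by omega)
      omega
    have := Nat.pow_le_pow_right two_pos this
    omega
  have hodd : Odd (Nat.card (H ⧸ R)) := by
    rw [← Subgroup.index_eq_card, Nat.odd_iff, ← Nat.two_dvd_ne_zero, hReq]
    exact P.not_dvd_index
  exact hyR ((QuotientGroup.eq_one_iff y).mp
    ((hR.map (QuotientGroup.mk'_surjective R)).eq_one_of_odd hodd _))

set_option maxHeartbeats 1000000 in
/-- The case of a trivial `2`-core. -/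
theorem six_core_one [Finite H] (hsolv : Group.IsSolvable H) (hR : Rational H)
    (h23 : ∀ p : ℕ, p.Prime → p ∣ Nat.card H → p = 2 ∨ p = 3) (h8 : 8 ∣ Nat.card H) {X : H}
    (hX : cent X ≤ 6) (ho : orderOf X = 3 ∨ orderOf X = 6) (hcore : pCore 2 H = ⊥)
    (hAb : ∀ A : Subgroup H, (∀ a ∈ A, ∀ b ∈ A, Commute a b) →
      (∀ a ∈ A, X ^ 4 * a * (X ^ 4)⁻¹ ∈ A) → ∀ a ∈ A, Commute (X ^ 4) a)
    (hfix : ∀ c : H, orderOf c = 3 → Commute c (X ^ 4) → c ∉ zpowers (X ^ 4) →
      ∃ e g : H, orderOf e = 3 ∧ orderOf g = 4 ∧ Commute e g) : False := by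
  classical
  have h2f : Fact (Nat.Prime 2) := ⟨Nat.prime_two⟩
  have h3f : Fact (Nat.Prime 3) := ⟨Nat.prime_three⟩
  obtain ⟨hyo, hy4, hy6, hparts⟩ := six_parts hX ho
  set y := X ^ 4 with hy
  have hnorm := not_normal_three hyo hy4 h8
  have hO : pPrimeCore 3 H = ⊥ := by
    rw [eq_bot_iff, ← hcore]
    refine le_pCore (p := 2) (IsPGroup.of_card (n := (Nat.card (pPrimeCore 3 H)).primeFactorsList.length) ?_)
    exact Nat.eq_prime_pow_of_unique_prime_dvd Nat.card_pos.ne' fun {p} hp hpd =>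
      (h23 p hp (hpd.trans (Subgroup.card_subgroup_dvd_card _))).resolve_right fun h =>
        absurd (Nat.eq_one_of_dvd_coprimes (card_pPrimeCore_coprime 3) (h ▸ hpd) dvd_rfl) (by decide)
  set F := pCore 3 H with hF
  have hCF : centralizer (F : Set H) ≤ F := centralizer_pCore_le Nat.prime_three hO
  have hFp : IsPGroup 3 F := isPGroup_pCore 3
  have hFne : F ≠ ⊥ := by
    intro hb
    have : centralizer (F : Set H) = ⊤ := by
      rw [hb, eq_top_iff]
      intro a _ b hb'
      rw [SetLike.mem_coe, Subgroup.mem_bot] at hb'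
      rw [hb']; simp
    rw [this, hb, top_le_iff] at hCF
    rw [← Subgroup.card_top (G := H), ← hCF, Subgroup.card_bot] at h8
    norm_num at h8
  set Z := (center F).map F.subtype with hZ
  have hZn : Z.Normal := inferInstance
  have hZab : ∀ a ∈ Z, ∀ b ∈ Z, Commute a b := by
    rintro _ ⟨a, ha, rfl⟩ _ ⟨b, hb, rfl⟩
    exact congrArg Subtype.val ((mem_center_iff.mp hb a))
  have hyZ : ∀ a ∈ Z, Commute y a := hAb Z hZab fun a ha => hZn.conj_mem a ha y
  obtain ⟨c0, hc0Z, hc0⟩ : ∃ c ∈ Z, orderOf c = 3 := by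
    have : Nontrivial F := (Subgroup.nontrivial_iff_ne_bot F).mpr hFne
    have hnt := hFp.center_nontrivial
    obtain ⟨k, hk⟩ := IsPGroup.iff_card.mp (hFp.to_subgroup (center F))
    have h1 := Finite.one_lt_card (α := center F)
    have hd : 3 ∣ Nat.card (center F) := by
      rcases k with _ | k
      · rw [pow_zero] at hk; omega
      · rw [hk]; exact dvd_pow_self 3 (Nat.succ_ne_zero k)
    obtain ⟨c, hc⟩ := exists_prime_orderOf_dvd_card' 3 hd
    exact ⟨_, ⟨c, c.2, rfl⟩, by rw [Subgroup.coe_subtype, Subgroup.orderOf_coe, Subgroup.orderOf_coe, hc]⟩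
  obtain ⟨c, hcZ, hc3, hcy⟩ : ∃ c ∈ Z, orderOf c = 3 ∧ c ∉ zpowers y := by
    by_contra! hall
    apply hnorm
    intro h
    have hyZ' : y ∈ Z := by
      have he : zpowers c0 = zpowers y := Subgroup.eq_of_le_of_card_ge
        (zpowers_le.mpr (hall c0 hc0Z hc0)) (by rw [Nat.card_zpowers, Nat.card_zpowers, hc0, hyo])
      exact (zpowers_le.mpr hc0Z) (he ▸ mem_zpowers y)
    exact hall _ (hZn.conj_mem y hyZ' h)
      (by rw [← hyo]; exact orderOf_injective (MulAut.conj h).toMonoidHom (MulAut.conj h).injective y)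
  have hcyc : Commute c y := (hyZ c hcZ).symm
  -- so the element has order six
  have hX6 : orderOf X = 6 := by
    refine ho.resolve_left fun h3 => hcy ?_
    have hy6' := hy6 h3
    set C := centralizer ({y} : Set H) with hC
    have hn : ((zpowers y).subgroupOf C).Normal := by
      constructor
      intro a ha b
      rw [mem_subgroupOf] at ha ⊢
      obtain ⟨i, hi⟩ := Subgroup.mem_zpowers_iff.mp ha
      refine ⟨i, ?_⟩
      simp only [Subgroup.coe_mul, Subgroup.coe_inv, ← hi]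
      rw [((mem_cent.mp b.2).zpow_right i).eq, mul_inv_cancel_right]
    have hcard : Nat.card ((zpowers y).subgroupOf C) = 3 := by
      rw [Nat.card_congr (Subgroup.subgroupOfEquivOfLe (zpowers_le.mpr (self_mem_cent y))).toEquiv,
        Nat.card_zpowers, hyo]
    exact mem_of_normal_of_sq_not_dvd (H := C) (p := 3) (fun hd => by
      have hd' : 9 ∣ cent y := hd
      have := Nat.le_of_dvd (cent_pos y) hd'
      omega) _ hcard.symm.dvd (x := ⟨c, mem_cent.mpr hcyc⟩) (by rw [Subgroup.orderOf_mk, hc3])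
  obtain ⟨huo, hparts⟩ := hparts hX6
  set u := X ^ 3 with hu
  have huy : Commute u y := (Commute.refl X).pow_pow 3 4
  have hCX : cent X = 6 := le_antisymm hX (Nat.le_of_dvd (cent_pos X) (hX6 ▸ orderOf_dvd_cent X))
  have hCXz : ∀ a, Commute a X → a ∈ zpowers X := by
    intro a ha
    have he : zpowers X = centralizer ({X} : Set H) := by
      refine Subgroup.eq_of_le_of_card_ge (zpowers_le.mpr (self_mem_cent X)) ?_
      rw [Nat.card_zpowers, hX6]
      exact le_of_eq hCX
    rw [he]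
    exact mem_cent.mpr ha
  -- `u` does not centralise the centre
  set C := centralizer ({u} : Set H) with hC
  set K := (centralizer (Z : Set H)).subgroupOf C with hK
  have huC : u ∈ C := self_mem_cent u
  have hyC : y ∈ C := mem_cent.mpr huy.symm
  have hyK : (⟨y, hyC⟩ : C) ∈ K := mem_subgroupOf.mpr fun a ha => (hyZ a ha).eq.symm
  have huK : (⟨u, huC⟩ : C) ∉ K := by
    intro h
    apply hcy
    have hcu : Commute c u := (mem_subgroupOf.mp h) c hcZ
    obtain ⟨i, hi⟩ := Subgroup.mem_zpowers_iff.mp (hCXz c (hparts c hcyc hcu))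
    have e : (X ^ i) ^ 4 = c := by
      rw [hi, ← pow_mod_orderOf, hc3]; exact pow_one c
    rw [← zpow_natCast (X ^ i) 4, ← zpow_mul, mul_comm, zpow_mul, zpow_natCast] at e
    exact ⟨i, e⟩
  have hC9 : ¬ 3 ^ 2 ∣ Nat.card C := not_sq_dvd (x := (⟨y, hyC⟩ : C))
    (by rw [Subgroup.orderOf_mk, hyo]) fun hd => by
      have h1 := (cent_sub_le hyC (w := X) fun a ha hay => hparts a hay (mem_cent.mp ha)).trans hX
      have := Nat.le_of_dvd (cent_pos _) hd
      omega
  have hsK : Group.IsSolvable K := inferInstance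
  have hKn : K.Normal := inferInstance
  have hKO : pPrimeCore 3 K = ⊥ := by
    by_contra hne
    set D := pPrimeCore 3 K with hDdef
    have hDp : IsPGroup 2 D :=
      IsPGroup.of_card (n := (Nat.card D).primeFactorsList.length)
        (Nat.eq_prime_pow_of_unique_prime_dvd Nat.card_pos.ne' fun {p} hp hpd =>
          (h23 p hp ((hpd.trans (Subgroup.card_subgroup_dvd_card D)).trans
            ((Subgroup.card_subgroup_dvd_card K).trans (Subgroup.card_subgroup_dvd_card C)))).resolve_right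
            fun h => absurd (Nat.eq_one_of_dvd_coprimes (card_pPrimeCore_coprime 3) (h ▸ hpd) dvd_rfl)
              (by decide))
    have : Nontrivial D := (Subgroup.nontrivial_iff_ne_bot D).mpr hne
    have hnt := hDp.center_nontrivial
    have hDn : D.Normal := inferInstance
    let ι : D →* H := (C.subtype.comp K.subtype).comp D.subtype
    have hιinj : Function.Injective ι := fun a b e =>
      Subtype.ext (Subtype.ext (Subtype.ext e))
    set W := (center D).map ι with hW
    have hWab : ∀ a ∈ W, ∀ b ∈ W, Commute a b := by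
      rintro _ ⟨a, ha, rfl⟩ _ ⟨b, hb, rfl⟩
      exact Commute.map (show Commute a b from mem_center_iff.mp hb a) ι
    have hWy : ∀ a ∈ W, y * a * y⁻¹ ∈ W := by
      rintro _ ⟨a, ha, rfl⟩
      have hn : ((center D).map D.subtype).Normal := inferInstance
      obtain ⟨b, hb, he⟩ := hn.conj_mem _ ⟨a, ha, rfl⟩ (⟨⟨y, hyC⟩, hyK⟩ : K)
      refine ⟨b, hb, ?_⟩
      simp only [ι, MonoidHom.comp_apply]
      rw [he]
      rfl
    have hWc := hAb W hWab hWy
    obtain ⟨a, ha⟩ := exists_ne (1 : center D)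
    have haW : ι (a : D) ∈ W := ⟨a, a.2, rfl⟩
    have hau : Commute (ι (a : D)) u := mem_cent.mp ((a : D) : K).1.2
    have hmem := hCXz _ (hparts _ (hWc _ haW).symm hau)
    -- a 2-element of `⟨X⟩`
    obtain ⟨i, hi⟩ := Subgroup.mem_zpowers_iff.mp hmem
    obtain ⟨k, hk⟩ := IsPGroup.iff_orderOf.mp hDp (a : D)
    have hka : orderOf (ι (a : D)) = 2 ^ k := (orderOf_injective ι hιinj _).trans hk
    have h2d : orderOf (ι (a : D)) ∣ 2 := by
      have h6 : orderOf (ι (a : D)) ∣ 2 * 3 := by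
        rw [← hi, show 2 * 3 = orderOf X by rw [hX6]]
        exact (orderOf_dvd_of_mem_zpowers ⟨i, rfl⟩)
      rw [hka] at h6 ⊢
      exact (Nat.Coprime.dvd_mul_right (Nat.Coprime.pow_left k (by decide))).mp h6
    have hsq : (X ^ i) ^ 2 = 1 := by
      rw [hi]; exact orderOf_dvd_iff_pow_eq_one.mp h2d
    rw [← zpow_natCast (X ^ i) 2, ← zpow_mul, ← orderOf_dvd_iff_zpow_eq_one, hX6] at hsq
    obtain ⟨l, hl⟩ : (3 : ℤ) ∣ i := by push_cast at hsq; omega
    have hau' : ι (a : D) ∈ zpowers u := ⟨l, by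
      show u ^ l = _
      rw [← hi, hl, zpow_mul, hu, zpow_ofNat]⟩
    rcases eq_one_or_of_mem_zpowers (hu ▸ huo ▸ pow_orderOf_eq_one u) hau' with h | h
    · exact ha (Subtype.ext (hιinj (h.trans (map_one ι).symm)))
    · apply huK
      have : (⟨u, huC⟩ : C) = ((a : D) : K) := Subtype.ext h.symm
      rw [this]
      exact ((a : D) : K).2
  have hCy : ∀ g ∈ C, g * y * g⁻¹ ∈ zpowers y := by
    intro g hg
    set F3 := pCore 3 K with hF3
    have hne : F3 ≠ ⊥ := by
      intro hb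
      have hle := centralizer_pCore_le Nat.prime_three hKO
      rw [← hF3, hb] at hle
      have h1 : (⟨⟨y, hyC⟩, hyK⟩ : K) ∈ centralizer ((⊥ : Subgroup K) : Set K) := by
        intro b hb'
        rw [SetLike.mem_coe, Subgroup.mem_bot] at hb'
        rw [hb']; simp
      have h2 : (⟨⟨y, hyC⟩, hyK⟩ : K) = 1 := Subgroup.mem_bot.mp (hle h1)
      have : y = 1 := congrArg (fun t : K => ((t : C) : H)) h2
      rw [this, orderOf_one] at hyo
      omega
    have hK9 : ¬ 3 ^ 2 ∣ Nat.card K := fun h => hC9 (h.trans (Subgroup.card_subgroup_dvd_card K))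
    obtain ⟨k, hk⟩ := IsPGroup.iff_card.mp (isPGroup_pCore (G := K) 3)
    have hk0 : k ≠ 0 := fun h => hne (Subgroup.card_eq_one.mp (by rw [hk, h, pow_zero]))
    have hk1 : k ≤ 1 := by
      by_contra hk1
      exact hK9 ((pow_dvd_pow 3 (show 2 ≤ k by omega)).trans (hk ▸ Subgroup.card_subgroup_dvd_card _))
    have hyo' : orderOf (⟨⟨y, hyC⟩, hyK⟩ : K) = 3 := by rw [Subgroup.orderOf_mk, Subgroup.orderOf_mk, hyo]
    have hy3 : (⟨⟨y, hyC⟩, hyK⟩ : K) ∈ F3 :=
      mem_of_normal_of_sq_not_dvd hK9 F3 (hk ▸ dvd_pow_self 3 hk0) hyo'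
    have he := eq_zpowers_of_card_three hyo' hy3
      (by rw [hk]; exact (Nat.pow_le_pow_right (by norm_num) hk1).trans_eq (pow_one 3))
    have hn : (F3.map K.subtype).Normal := inferInstance
    obtain ⟨b, hb, hbe⟩ := hn.conj_mem _ ⟨_, hy3, rfl⟩ ⟨g, hg⟩
    rw [he] at hb
    obtain ⟨i, rfl⟩ := Subgroup.mem_zpowers_iff.mp hb
    exact ⟨i, congrArg Subtype.val hbe⟩
  have hu8 : ¬ 8 ∣ cent u := not_eight_dvd_normalizing hyo hy4 C hCy
  -- a Sylow subgroup of order at most eight
  have hup : IsPGroup 2 (zpowers u) :=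
    IsPGroup.of_card (n := 1) (by rw [Nat.card_zpowers, huo, pow_one])
  obtain ⟨P, hP⟩ := hup.exists_le_sylow
  have huP : u ∈ (P : Subgroup H) := hP (mem_zpowers u)
  have hcP : cent (⟨u, huP⟩ : (P : Subgroup H)) = 4 := by
    obtain ⟨k, hk⟩ := IsPGroup.iff_card.mp (P.2.to_subgroup
      (centralizer ({(⟨u, huP⟩ : (P : Subgroup H))} : Set (P : Subgroup H))))
    have hd : cent (⟨u, huP⟩ : (P : Subgroup H)) ∣ cent u := by
      rw [cent, ← Subgroup.card_map_of_injective (P : Subgroup H).subtype_injective]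
      refine Subgroup.card_dvd_of_le ?_
      rintro _ ⟨a, ha, rfl⟩
      exact mem_cent.mpr ((mem_cent.mp ha).map (P : Subgroup H).subtype)
    have hk2 : k ≤ 2 := by
      by_contra hk2
      exact hu8 ((pow_dvd_pow 2 (show 3 ≤ k by omega)).trans (hk ▸ hd))
    have h2k : 2 ≤ k := by
      by_contra hk'
      have h4 : ¬ 2 ^ 2 ∣ Nat.card (P : Subgroup H) := by
        refine not_sq_dvd (x := (⟨u, huP⟩ : (P : Subgroup H))) (by rw [Subgroup.orderOf_mk, huo]) ?_
        intro h
        rw [cent, hk] at h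
        exact hk' ((Nat.pow_dvd_pow_iff_le_right (le_refl 2)).mp h)
      exact h4 ((pow_dvd_pow 2 (by norm_num : 2 ≤ 3)).trans
        (P.pow_dvd_card_of_pow_dvd_card (n := 3) h8))
    rw [cent, hk, show k = 2 by omega]
    rfl
  have hP8 := hR.sylow_two_le P hcP
  have h16 : ¬ 16 ∣ Nat.card H := fun h => by
    have := Nat.le_of_dvd Nat.card_pos (P.pow_dvd_card_of_pow_dvd_card (n := 4) h)
    omega
  obtain ⟨e, g, he, hg, heg⟩ := hfix c hc3 hcyc hcy
  refine h16 (hR.sixteen_dvd hg ?_)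
  by_contra h8g
  have he1 : e = 1 := by
    refine hR.eq_one_of_two_part (by rw [he]; decide) ⟨2, hg⟩ heg fun k hk => ?_
    have hk2 : k ≤ 2 := by
      by_contra hk2
      exact h8g ((pow_dvd_pow 2 (show 3 ≤ k by omega)).trans hk)
    refine (pow_dvd_pow 2 hk2).trans ?_
    have hm : g ∈ centralizer ({e} : Set H) ⊓ centralizer ({g} : Set H) :=
      ⟨mem_cent.mpr heg.symm, self_mem_cent g⟩
    have := orderOf_dvd_natCard
      (G := (centralizer ({e} : Set H) ⊓ centralizer ({g} : Set H) : Subgroup H)) ⟨g, hm⟩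
    rwa [Subgroup.orderOf_mk, hg] at this
  rw [he1, orderOf_one] at he
  omega

/-- The group theory behind the case of a centraliser of order `6`. -/
theorem six_core [Finite H] (hsolv : Group.IsSolvable H) (hR : Rational H)
    (h23 : ∀ p : ℕ, p.Prime → p ∣ Nat.card H → p = 2 ∨ p = 3) (h8 : 8 ∣ Nat.card H) {X : H}
    (hX : cent X ≤ 6) (ho : orderOf X = 3 ∨ orderOf X = 6)
    (hAb : ∀ A : Subgroup H, (∀ a ∈ A, ∀ b ∈ A, Commute a b) →
      (∀ a ∈ A, X ^ 4 * a * (X ^ 4)⁻¹ ∈ A) → ∀ a ∈ A, Commute (X ^ 4) a)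
    (hfix : ∀ c : H, orderOf c = 3 → Commute c (X ^ 4) → c ∉ zpowers (X ^ 4) →
      ∃ e g : H, orderOf e = 3 ∧ orderOf g = 4 ∧ Commute e g) : False := by
  classical
  by_cases hcore : pCore 2 H = ⊥
  · exact six_core_one hsolv hR h23 h8 hX ho hcore hAb hfix
  have h2f : Fact (Nat.Prime 2) := ⟨Nat.prime_two⟩
  obtain ⟨hyo, hy4, hy6, hparts⟩ := six_parts hX ho
  set y := X ^ 4 with hy
  set R := pCore 2 H with hR2
  have hRp : IsPGroup 2 R := isPGroup_pCore 2
  set Z := (center R).map R.subtype with hZ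
  have hZn : Z.Normal := inferInstance
  have hZab : ∀ a ∈ Z, ∀ b ∈ Z, Commute a b := by
    rintro _ ⟨a, ha, rfl⟩ _ ⟨b, hb, rfl⟩
    exact congrArg Subtype.val ((mem_center_iff.mp hb a))
  have hyZ : ∀ a ∈ Z, Commute y a := hAb Z hZab fun a ha => hZn.conj_mem a ha y
  have hZp : IsPGroup 2 Z := (hRp.to_subgroup (center R)).map R.subtype
  have : Nontrivial R := (Subgroup.nontrivial_iff_ne_bot R).mpr hcore
  have hnt := hRp.center_nontrivial
  obtain ⟨z0, hz0⟩ := exists_ne (1 : center R)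
  set z : H := ((z0 : R) : H) with hz
  have hzZ : z ∈ Z := ⟨z0, z0.2, rfl⟩
  have hz1 : z ≠ 1 := fun h => hz0 (Subtype.ext (Subtype.ext h))
  have hall := eq_one_or_eq_of_two_group hy4 Z hZp (fun a ha => (hyZ a ha).symm) hzZ hz1
  have hz2 : z ^ 2 = 1 := by
    rcases hall _ (pow_mem hzZ 2) with h | h
    · exact h
    · rw [pow_two] at h
      exact absurd (mul_eq_left.mp h) hz1
  have hzc : ∀ h : H, Commute z h := by
    intro h
    rcases hall _ (hZn.conj_mem z hzZ h) with e | e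
    · exact absurd (conj_eq_one_iff.mp e) hz1
    · exact ((mul_inv_eq_iff_eq_mul.mp e) : Commute h z).symm
  have hy6' : cent y ≤ 6 := by
    rcases ho with h3 | h6
    · exact hy6 h3
    obtain ⟨huo, hp⟩ := hparts h6
    set C := centralizer ({y} : Set H) with hC
    have hzC : z ∈ C := mem_cent.mpr (hzc y)
    have hzo : orderOf z = 2 := orderOf_eq_prime hz2 hz1
    have hn : ((zpowers z).subgroupOf C).Normal := by
      constructor
      intro a ha b
      rw [mem_subgroupOf] at ha ⊢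
      obtain ⟨i, hi⟩ := Subgroup.mem_zpowers_iff.mp ha
      refine ⟨i, ?_⟩
      simp only [Subgroup.coe_mul, Subgroup.coe_inv, ← hi]
      rw [((hzc (b : H)).symm.zpow_right i).eq, mul_inv_cancel_right]
    have hcard : Nat.card ((zpowers z).subgroupOf C) = 2 := by
      rw [Nat.card_congr (Subgroup.subgroupOfEquivOfLe (zpowers_le.mpr hzC)).toEquiv,
        Nat.card_zpowers, hzo]
    have hu : X ^ 3 ∈ zpowers z := mem_of_normal_of_sq_not_dvd (H := C) (p := 2) hy4 _ hcard.symm.dvd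
      (x := ⟨X ^ 3, mem_cent.mpr ((Commute.refl X).pow_pow 3 4)⟩)
      (by rw [Subgroup.orderOf_mk, huo])
    refine le_trans (Nat.le_of_dvd (cent_pos X) (card_le_cent (S := C) fun a ha => ?_)) hX
    obtain ⟨i, hi⟩ := Subgroup.mem_zpowers_iff.mp hu
    exact hp a (mem_cent.mp ha) (hi ▸ (hzc a).symm.zpow_right i)
  exact six_core_two hsolv hR h23 h8 hyo hy6' hy4 hz1 hz2 (z0 : R).2 hzc hAb

end CfsgLib.S3Conj
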